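import Cfsg.Agent.Lib.Spor.Tri.Cores

/-!
# Three members spanning an affine plane

If `e, w, y` pairwise do not commute and neither do `e w e` and `y`, they generate a group with nine members,
pairwise not commuting, so the products of two members lie in a 3-group.
-/

set_option autoImplicit false

namespace CfsgLib.Invol.TriSolv

open CfsgLib.Spor.Tri

universe u

variable {G : Type u} [Group G] [Finite G] {D : Set G}

/-- The nine points. -/
def planeSet (e w y : G) : Set G :=
  {e, w, y, e * w * e, e * y * e, w * y * w, e * (w * y * w) * e, w * (e * y * e) * w, y * (e * w * e) * y}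

variable (h : Hyp D) {e w y : G} (he : e ∈ D) (hw : w ∈ D) (hy : y ∈ D) (hew : ¬ Commute e w) (hey : ¬ Commute e y)
  (hwy : ¬ Commute w y) (ht : ¬ Commute (e * w * e) y)
include h he hw hy hew hey hwy ht

omit [Finite G] in
theorem plane_stable : ∀ d ∈ ({e, w, y} : Set G), ∀ x ∈ planeSet e w y, d * x * d ∈ planeSet e w y := by
  have be : e * w * e = w * e * w := h.braid he hw hew
  have by' : e * y * e = y * e * y := h.braid he hy hey
  have bw : w * y * w = y * w * y := h.braid hw hy hwy
  have ee := h.mul_self he
  have ww := h.mul_self hw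
  have yy := h.mul_self hy
  -- `e w e` and `y`, `e y e` and `w` braid
  have bt : e * w * e * y * (e * w * e) = y * (e * w * e) * y := h.braid (h.conj_mem' he hw) hy ht
  have hp : ¬ Commute (e * y * e) w := fun hc => ht (by
    have := (h.commute_conj he).2 hc
    rw [h.conj_conj he] at this
    exact this.symm)
  have bp : e * y * e * w * (e * y * e) = w * (e * y * e) * w := h.braid (h.conj_mem' he hy) hw hp
  intro d hd x hx
  simp only [planeSet, Set.mem_insert_iff, Set.mem_singleton_iff] at hd hx ⊢
  rcases hd with hd | hd | hd <;> rcases hx with hx | hx | hx | hx | hx | hx | hx | hx | hx <;> rw [hd, hx]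
  · left; rw [ee, one_mul]
  · right; right; right; left; rfl
  · right; right; right; right; left; rfl
  · right; left; exact h.conj_conj he
  · right; right; left; exact h.conj_conj he
  · right; right; right; right; right; right; left; rfl
  · right; right; right; right; right; left; exact h.conj_conj he
  · right; right; right; right; right; right; right; right
    calc e * (w * (e * y * e) * w) * e = e * w * e * y * (e * w * e) := by group
      _ = _ := bt
  · right; right; right; right; right; right; right; left
    calc e * (y * (e * w * e) * y) * e = e * y * (e * w * e) * y * e := by group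
      _ = e * (e * w * e * y * (e * w * e)) * e := by rw [bt]; group
      _ = (e * e) * w * e * y * e * w * (e * e) := by group
      _ = _ := by rw [ee]; group
  · right; right; right; left; rw [be]
  · right; left; rw [ww, one_mul]
  · right; right; right; right; right; left; rfl
  · left; rw [be]; exact h.conj_conj hw
  · right; right; right; right; right; right; right; left; rfl
  · right; right; left; exact h.conj_conj hw
  · right; right; right; right; right; right; right; right
    calc w * (e * (w * y * w) * e) * w = (w * e * w) * y * (w * e * w) := by group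
      _ = e * w * e * y * (e * w * e) := by rw [be]
      _ = _ := bt
  · right; right; right; right; left; exact h.conj_conj hw
  · right; right; right; right; right; right; left
    rw [← bt]
    calc w * (e * w * e * y * (e * w * e)) * w = w * (w * e * w * y * (w * e * w)) * w := by rw [be]
      _ = (w * w) * e * w * y * w * e * (w * w) := by group
      _ = _ := by rw [ww]; group
  · right; right; right; right; left; rw [by']
  · right; right; right; right; right; left; rw [bw]
  · right; right; left; rw [yy, one_mul]
  · right; right; right; right; right; right; right; right; rfl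
  · left; rw [by']; exact h.conj_conj hy
  · right; left; rw [bw]; exact h.conj_conj hy
  · right; right; right; right; right; right; right; left
    calc y * (e * (w * y * w) * e) * y = y * (e * (y * w * y) * e) * y := by rw [bw]
      _ = (y * e * y) * w * (y * e * y) := by group
      _ = e * y * e * w * (e * y * e) := by rw [by']
      _ = _ := bp
  · right; right; right; right; right; right; left
    calc y * (w * (e * y * e) * w) * y = y * (e * y * e * w * (e * y * e)) * y := by rw [bp]
      _ = y * ((y * e * y) * w * (y * e * y)) * y := by rw [by']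
      _ = (y * y) * e * (y * w * y) * e * (y * y) := by group
      _ = _ := by rw [yy, bw]; group
  · right; right; right; left; exact h.conj_conj hy

omit [Finite G] in
theorem plane_not_commute : ∀ x ∈ planeSet e w y, x ≠ e → ¬ Commute e x := by
  intro x hx hxe
  have hr : ¬ Commute e (w * y * w) := fun hc => ht (by
    have := (h.commute_conj hw).2 hc
    rwa [h.conj_conj hw, ← h.braid he hw hew] at this)
  have hC : ¬ Commute e (y * (e * w * e) * y) := fun hc => by
    have h1 := (h.commute_conj hy).2 hc
    rw [h.conj_conj hy, ← h.braid he hy hey] at h1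
    exact hwy ((h.commute_conj he).1 h1).symm
  simp only [planeSet, Set.mem_insert_iff, Set.mem_singleton_iff] at hx
  rcases hx with rfl | rfl | rfl | rfl | rfl | rfl | rfl | rfl | rfl
  · exact absurd rfl hxe
  · exact hew
  · exact hey
  · exact h.third_not_commute he hw hew
  · exact h.third_not_commute he hy hey
  · exact hr
  · intro hc
    exact hr (by
      have := (h.commute_conj he).2 hc
      rwa [h.conj_conj he, h.conj_fix he (Commute.refl e)] at this)
  · intro hc
    refine hC ?_
    have := (h.commute_conj he).2 hc
    rw [h.conj_fix he (Commute.refl e)] at this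
    rw [← h.braid (h.conj_mem' he hw) hy ht,
      show e * w * e * y * (e * w * e) = e * (w * (e * y * e) * w) * e by group]
    exact this
  · exact hC

/-- The products of two members of the plane lie in a 3-group. -/
theorem exists_plane_group : ∃ N : Subgroup G, IsPGroup 3 N ∧ e * w ∈ N ∧ e * y ∈ N := by
  classical
  set K := Subgroup.closure ({e, w, y} : Set G) with hKdef
  have heK : e ∈ K := Subgroup.subset_closure (by simp)
  have hwK : w ∈ K := Subgroup.subset_closure (by simp)
  have hyK : y ∈ K := Subgroup.subset_closure (by simp)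
  have hsub : planeSet e w y ⊆ K := by
    intro x hx
    simp only [planeSet, Set.mem_insert_iff, Set.mem_singleton_iff] at hx
    rcases hx with rfl | rfl | rfl | rfl | rfl | rfl | rfl | rfl | rfl <;>
      repeat (first | exact heK | exact hwK | exact hyK | apply mul_mem)
  have hPD : planeSet e w y ⊆ D := by
    intro x hx
    simp only [planeSet, Set.mem_insert_iff, Set.mem_singleton_iff] at hx
    rcases hx with rfl | rfl | rfl | rfl | rfl | rfl | rfl | rfl | rfl
    exacts [he, hw, hy, h.conj_mem' he hw, h.conj_mem' he hy, h.conj_mem' hw hy,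
      h.conj_mem' he (h.conj_mem' hw hy), h.conj_mem' hw (h.conj_mem' he hy),
      h.conj_mem' hy (h.conj_mem' he hw)]
  have hst := plane_stable h he hw hy hew hey hwy ht
  have hconj : ∀ g ∈ K, ∀ x ∈ planeSet e w y, g * x * g⁻¹ ∈ planeSet e w y := by
    intro g hg
    induction hg using Subgroup.closure_induction'' with
    | mem d hd =>
      intro x hx
      rw [h.inv_eq (hPD (by rcases hd with rfl | rfl | rfl <;> simp [planeSet]))]
      exact hst d hd x hx
    | inv_mem d hd =>
      intro x hx
      rw [inv_inv, h.inv_eq (hPD (by rcases hd with rfl | rfl | rfl <;> simp [planeSet]))]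
      exact hst d hd x hx
    | one => intro x hx; simpa using hx
    | mul u v _ _ hu hv =>
      intro x hx
      rw [show u * v * x * (u * v)⁻¹ = u * (v * x * v⁻¹) * u⁻¹ by group]
      exact hu _ (hv x hx)
  have hstar : ∀ x ∈ planeSet e w y, ∃ g ∈ K, g * e * g⁻¹ = x := by
    have h1 : ∃ g ∈ K, g * e * g⁻¹ = w := ⟨e * w, mul_mem heK hwK, h.conj_swap_mul he hw hew⟩
    have h2 : ∃ g ∈ K, g * e * g⁻¹ = y := ⟨e * y, mul_mem heK hyK, h.conj_swap_mul he hy hey⟩
    have step : ∀ {x d : G}, d ∈ D → d ∈ K → (∃ g ∈ K, g * e * g⁻¹ = x) → ∃ g ∈ K, g * e * g⁻¹ = d * x * d := by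
      rintro _ d hd hdK ⟨g, hg, rfl⟩
      refine ⟨d * g, mul_mem hdK hg, ?_⟩
      rw [mul_inv_rev, h.inv_eq hd]
      group
    intro x hx
    simp only [planeSet, Set.mem_insert_iff, Set.mem_singleton_iff] at hx
    rcases hx with rfl | rfl | rfl | rfl | rfl | rfl | rfl | rfl | rfl
    exacts [⟨1, one_mem _, by simp⟩, h1, h2, step he heK h1, step he heK h2, step hw hwK h2,
      step he heK (step hw hwK h2), step hw hwK (step he heK h2), step hy hyK (step he heK h1)]
  have hP : Hyp (Subtype.val ⁻¹' planeSet e w y : Set ↥K) := by
    refine ⟨⟨fun a ha => by rw [← Subgroup.orderOf_coe]; exact h.set.1 _ (hPD ha), fun a ha b hb => ?_⟩,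
      fun g a ha => hconj g g.2 a ha, fun a ha b hb => ?_, ?_⟩
    · rcases h.set.2 _ (hPD ha) _ (hPD hb) with e1 | e1
      · exact Or.inl (Subtype.ext (by simpa using e1))
      · exact Or.inr (Subtype.ext (by simpa using e1))
    · obtain ⟨g, hg, e1⟩ := hstar _ ha
      obtain ⟨g', hg', e2⟩ := hstar _ hb
      refine ⟨⟨g' * g⁻¹, mul_mem hg' (inv_mem hg)⟩, Subtype.ext ?_⟩
      show g' * g⁻¹ * (a : G) * (g' * g⁻¹)⁻¹ = b
      rw [← e1, ← e2]
      group
    · rw [eq_top_iff, ← Subgroup.closure_closure_coe_preimage (k := ({e, w, y} : Set G))]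
      refine Subgroup.closure_mono fun a ha => ?_
      show (a : G) ∈ planeSet e w y
      rcases ha with ha | ha | ha <;> (try rw [Set.mem_singleton_iff] at ha) <;> rw [ha] <;> simp [planeSet]
  have hperp : ∀ a : ↥K, (a : G) ∈ planeSet e w y →
      perp (Subtype.val ⁻¹' planeSet e w y : Set ↥K) a = ∅ := by
    intro a ha
    refine Set.eq_empty_iff_forall_notMem.2 fun b ⟨hb, hne, hc⟩ => ?_
    obtain ⟨g, hg, e1⟩ := hstar _ ha
    have hb' := hconj g⁻¹ (inv_mem hg) _ hb
    refine plane_not_commute h he hw hy hew hey hwy ht _ hb' (fun e2 => hne (Subtype.ext ?_)) ?_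
    · show (b : G) = a
      rw [← e1, ← e2]
      group
    · rw [← Commute.conj_iff g, e1, show g * (g⁻¹ * (b : G) * g⁻¹⁻¹) * g⁻¹ = b by group]
      exact congrArg Subtype.val hc.eq
  refine ⟨(Cfsg.pCore 3 ↥K).map K.subtype, (CfsgLib.Coprime.pCore_isPGroup 3).map _, ?_, ?_⟩
  · have h0 : (e : G) ∈ planeSet e w y := by simp [planeSet]
    have h1 : (w : G) ∈ planeSet e w y := by simp [planeSet]
    have := (hP.perp_iff_three_core (d := ⟨e, heK⟩) (w := ⟨w, hwK⟩) h0 h1).1
      ((hperp _ h0).trans (hperp _ h1).symm)
    rw [hP.inv_eq (show (⟨e, heK⟩ : ↥K) ∈ _ from h0)] at this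
    exact ⟨_, this, rfl⟩
  · have h0 : (e : G) ∈ planeSet e w y := by simp [planeSet]
    have h1 : (y : G) ∈ planeSet e w y := by simp [planeSet]
    have := (hP.perp_iff_three_core (d := ⟨e, heK⟩) (w := ⟨y, hyK⟩) h0 h1).1
      ((hperp _ h0).trans (hperp _ h1).symm)
    rw [hP.inv_eq (show (⟨e, heK⟩ : ↥K) ∈ _ from h0)] at this
    exact ⟨_, this, rfl⟩

end CfsgLib.Invol.TriSolv
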