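import Cfsg.Agent.Lib.Invol.TriSolv.Sizes
import Cfsg.Agent.Lib.Invol.TriSolv.Plane

/-!
# Fischer, `D_x` solvable: the quadrangle axiom

Two non-commuting members have exactly `3 ^ j` common neighbours, one on every line through either of them,
so a point off a line commutes with exactly one of its points.
-/

set_option autoImplicit false

namespace CfsgLib.Invol.TriSolv

open CfsgLib.Spor.Tri

universe u

variable {G : Type u} [Group G] [Finite G] {D : Set G}

/-- Modulo three, a stable set has as many points as fixed points under an element of order dividing three. -/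
theorem ncard_mod_three {S : Set G} {g : G} (hg : g ^ 3 = 1) (hS : ∀ y ∈ S, g * y * g⁻¹ ∈ S) :
    S.ncard ≡ {y | y ∈ S ∧ g * y * g⁻¹ = y}.ncard [MOD 3] := by
  classical
  haveI : Fact (Nat.Prime 3) := ⟨Nat.prime_three⟩
  have hP : IsPGroup 3 (Subgroup.zpowers g) := by
    intro x
    refine ⟨1, Subtype.ext ?_⟩
    obtain ⟨n, hn⟩ := Subgroup.mem_zpowers_iff.1 x.2
    show (x : G) ^ 3 ^ 1 = 1
    rw [pow_one, ← hn, ← zpow_natCast, ← zpow_mul, mul_comm, zpow_mul, zpow_natCast, hg, one_zpow]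
  have hpow : ∀ n : ℕ, ∀ y ∈ S, g ^ n * y * (g ^ n)⁻¹ ∈ S := by
    intro n
    induction n with
    | zero => intro y hy; simpa using hy
    | succ n ih =>
      intro y hy
      rw [show g ^ (n + 1) * y * (g ^ (n + 1))⁻¹ = g * (g ^ n * y * (g ^ n)⁻¹) * g⁻¹ by
        rw [pow_succ']; group]
      exact hS _ (ih y hy)
  have hmem : ∀ x : Subgroup.zpowers g, ∀ y ∈ S, (x : G) * y * (x : G)⁻¹ ∈ S := by
    intro x y hy
    obtain ⟨n, hn⟩ := mem_zpowers_iff_mem_range_orderOf.1 x.2 |> Finset.mem_image.1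
    rw [← hn.2]
    exact hpow n y hy
  letI : MulAction (Subgroup.zpowers g) ↥S :=
    { smul := fun x y => ⟨(x : G) * y * (x : G)⁻¹, hmem x y y.2⟩
      one_smul := fun y => Subtype.ext (by show ((1 : Subgroup.zpowers g) : G) * y * _ = y; simp)
      mul_smul := fun x x' y => Subtype.ext (by
        show ((x * x' : Subgroup.zpowers g) : G) * y * _ = (x : G) * ((x' : G) * y * (x' : G)⁻¹) * (x : G)⁻¹
        simp only [Subgroup.coe_mul]; group) }
  have h := hP.card_modEq_card_fixedPoints ↥S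
  rw [Nat.card_coe_set_eq] at h
  refine h.trans (congrArg (· % 3) ?_)
  rw [Nat.card_coe_set_eq, ← Set.ncard_image_of_injective _ Subtype.val_injective]
  congr 1
  ext y
  constructor
  · rintro ⟨z, hz, rfl⟩
    exact ⟨z.2, congrArg Subtype.val (hz ⟨g, Subgroup.mem_zpowers g⟩)⟩
  · rintro ⟨hy, e⟩
    refine ⟨⟨y, hy⟩, fun x => Subtype.ext ?_, rfl⟩
    have hc : Commute g y := by
      show g * y = y * g
      exact mul_inv_eq_iff_eq_mul.1 e
    obtain ⟨n, hn⟩ := Subgroup.mem_zpowers_iff.1 x.2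
    show (x : G) * y * (x : G)⁻¹ = y
    rw [← hn, (hc.zpow_left n).eq, mul_inv_cancel_right]

/-- The fixed members of the product of two non-commuting members commute with both. -/
theorem commute_of_fixed (h : Hyp D) {d w y : G} (hd : d ∈ D) (hw : w ∈ D) (hy : y ∈ D) (hdw : ¬ Commute d w)
    (hf : d * w * y * (d * w)⁻¹ = y) : Commute d y ∧ Commute w y := by
  rw [mul_inv_rev, h.inv_eq hd, h.inv_eq hw] at hf
  have e : w * y * w = d * y * d := by
    calc w * y * w = d * d * (w * y * w) * (d * d) := by rw [h.mul_self hd]; group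
      _ = d * (d * w * y * (w * d)) * d := by group
      _ = d * y * d := by rw [hf]
  by_cases hdy : Commute d y
  · rw [h.conj_fix hd hdy] at e
    refine ⟨hdy, ?_⟩
    show w * y = y * w
    calc w * y = w * y * w * w := by rw [mul_assoc (w * y) w w, h.mul_self hw, mul_one]
      _ = y * w := by rw [e]
  · exfalso
    have hwy : ¬ Commute w y := fun hc => by
      rw [h.conj_fix hw hc] at e
      exact h.third_ne hd hy hdy e.symm
    rw [h.braid hw hy hwy, h.braid hd hy hdy] at e
    exact hdw (mul_left_cancel (mul_right_cancel e) ▸ Commute.refl w)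

theorem commute_iff_fixed (h : Hyp D) {d w y : G} (hd : d ∈ D) (hw : w ∈ D) (hy : y ∈ D) (hdw : ¬ Commute d w) :
    d * w * y * (d * w)⁻¹ = y ↔ Commute d y ∧ Commute w y := by
  refine ⟨commute_of_fixed h hd hw hy hdw, fun hc => ?_⟩
  rw [(hc.1.mul_left hc.2).eq, mul_inv_cancel_right]

namespace Geo

variable {e j : ℕ} (L : Geo D e j)
include L

theorem perp_of {a y : G} (hy : y ∈ D) (h1 : Commute a y) (hne : y ≠ a) : y ∈ perp D a := ⟨hy, hne, h1⟩

theorem mem_line_iff {a b y : G} (ha : a ∈ D) (hb : b ∈ perp D a) :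
    y ∈ line D a b ↔ y ∈ D ∧ Commute a y ∧ Commute b y := by
  rw [L.line_both a ha b hb]; rfl

theorem line_subset_perp {a b y : G} (ha : a ∈ D) (hb : b ∈ perp D a) (hy : y ∈ line D a b) (hne : y ≠ a) :
    y ∈ perp D a :=
  ⟨hy.1, hne, (commute_left ha hb.2.2 hy).symm⟩

/-- A member off a line commutes with at most one of its points. -/
theorem line_meet {a b u v y : G} (ha : a ∈ D) (hb : b ∈ perp D a) (hu : u ∈ line D a b) (hv : v ∈ line D a b)
    (hy : y ∈ D) (hyu : Commute y u) (hyv : Commute y v) (hne : u ≠ v) : y ∈ line D a b := by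
  have hp : v ∈ perp D u := ⟨hv.1, hne.symm, commute_line ha hb.1 hb.2.2 hu hv⟩
  rw [← L.line_eq ha hb hu hv hne, L.mem_line_iff hu.1 hp]
  exact ⟨hy, hyu.symm, hyv.symm⟩

/-- Two common neighbours of a non-commuting pair do not commute. -/
theorem not_commute_common {c d u v : G} (hc : c ∈ D) (hd : d ∈ D) (hcd : ¬ Commute c d) (hu : u ∈ both D c d)
    (hv : v ∈ both D c d) (hne : u ≠ v) : ¬ Commute u v := fun huv => by
  have hp : v ∈ perp D u := ⟨hv.1, hne.symm, huv⟩
  have h1 : c ∈ line D u v := (L.mem_line_iff hu.1 hp).2 ⟨hc, hu.2.1.symm, hv.2.1.symm⟩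
  have h2 : d ∈ line D u v := (L.mem_line_iff hu.1 hp).2 ⟨hd, hu.2.2.symm, hv.2.2.symm⟩
  exact hcd (commute_line hu.1 hv.1 huv h1 h2)

theorem both_comm (a b : G) : both D a b = both D b a :=
  Set.ext fun _ => ⟨fun h => ⟨h.1, h.2.2, h.2.1⟩, fun h => ⟨h.1, h.2.2, h.2.1⟩⟩

theorem ne_of_both {c d u : G} (hcd : ¬ Commute c d) (hu : u ∈ both D c d) : u ≠ c ∧ u ≠ d :=
  ⟨fun e => hcd (e ▸ hu.2.2).symm, fun e => hcd (e ▸ hu.2.1)⟩

theorem both_const {c d c' d' : G} (hc : c ∈ D) (hd : d ∈ D) (hcd : ¬ Commute c d) (hc' : c' ∈ D) (hd' : d' ∈ D)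
    (hcd' : ¬ Commute c' d') : (both D c d).ncard = (both D c' d').ncard := by
  obtain ⟨g, hg⟩ := L.h.transitive c hc c' hc'
  have hn : ¬ Commute c' (g * d * g⁻¹) := by rw [← hg, Commute.conj_iff]; exact hcd
  obtain ⟨k, hk, hkd⟩ := exists_conj_not_commute L.h L.rad L.perf hc' (L.h.conj g d hd) hd' hn hcd'
  have e1 : (both D c' (g * d * g⁻¹)).ncard = (both D c d).ncard := by
    rw [← hg, both_conj L.h, Set.ncard_image_of_injective _ fun x y e => by simpa using e]
  have e2 : (both D c' d').ncard = (both D c' (g * d * g⁻¹)).ncard := by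
    conv_lhs => rw [← hkd, ← conj_eq_of_commute hk]
    rw [both_conj L.h, Set.ncard_image_of_injective _ fun x y e => by simpa using e]
  rw [e2, e1]

/-- Every pair of non-commuting members has at most one common neighbour on each line. -/
theorem both_le {c d : G} (hc : c ∈ D) (hd : d ∈ D) (hcd : ¬ Commute c d) : (both D c d).ncard ≤ 3 ^ j := by
  classical
  haveI : Fintype G := Fintype.ofFinite G
  let f : G → Finset G := fun u => (line D c u \ {c}).toFinset
  have hmem : ∀ {u}, u ∈ both D c d → u ∈ perp D c := fun hu => L.perp_of hu.1 hu.2.1 (L.ne_of_both hcd hu).1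
  have hdisj : ((both D c d).toFinset : Set G).PairwiseDisjoint f := by
    intro u hu v hv hne
    rw [Function.onFun, Finset.disjoint_left]
    intro y h1 h2
    simp only [f, Set.mem_toFinset, Finset.mem_coe, Set.mem_sdiff, Set.mem_singleton_iff] at h1 h2 hu hv
    have e1 := L.line_eq_left hc (hmem hu) h1.1 h1.2
    have e2 := L.line_eq_left hc (hmem hv) h2.1 h2.2
    have hvl : v ∈ line D c u := by rw [← e1, e2]; exact right_mem_line hv.1
    exact L.not_commute_common hc hd hcd hu hv hne (commute_line hc hu.1 hu.2.1 (right_mem_line hu.1) hvl)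
  have h1 : ((both D c d).toFinset.biUnion f).card = (both D c d).ncard * 2 ^ e := by
    rw [Finset.card_biUnion hdisj, Finset.sum_const_nat (m := 2 ^ e), Set.ncard_eq_toFinset_card']
    intro u hu
    rw [Set.mem_toFinset] at hu
    simp only [f]
    rw [← Set.ncard_eq_toFinset_card', Set.ncard_sdiff_singleton_of_mem (left_mem_line hc),
      L.line_card c hc u (hmem hu), Nat.add_sub_cancel]
  have h2 : ((both D c d).toFinset.biUnion f).card ≤ (perp D c).ncard := by
    rw [Set.ncard_eq_toFinset_card']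
    refine Finset.card_le_card fun y hy => ?_
    simp only [f, Finset.mem_biUnion, Set.mem_toFinset, Set.mem_sdiff, Set.mem_singleton_iff] at hy ⊢
    obtain ⟨u, hu, hy1, hy2⟩ := hy
    exact L.line_subset_perp hc (hmem hu) hy1 hy2
  rw [h1, L.perp_card c hc, mul_comm] at h2
  exact Nat.le_of_mul_le_mul_left h2 (by positivity)

/-- The number of members not commuting with a given one. -/
theorem count_far {c d : G} (hc : c ∈ D) (hd : d ∈ D) (hcd : ¬ Commute c d) :
    {y | y ∈ D ∧ ¬ Commute c y}.ncard * (both D c d).ncard = 2 ^ e * 3 ^ j * (2 ^ e * 3 ^ j - 2 ^ e) := by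
  classical
  haveI : Fintype G := Fintype.ofFinite G
  let P : Finset G := (perp D c).toFinset
  let W : Finset G := {y | y ∈ D ∧ ¬ Commute c y}.toFinset
  have hb := Finset.sum_card_bipartiteAbove_eq_sum_card_bipartiteBelow (s := W) (t := P) (fun y u => Commute u y)
  simp only [Finset.bipartiteAbove, Finset.bipartiteBelow] at hb
  have e1 : ∀ y ∈ W, (P.filter fun u => Commute u y).card = (both D c d).ncard := by
    intro y hy
    simp only [W, Set.mem_toFinset, Set.mem_setOf_eq] at hy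
    rw [L.both_const hc hd hcd hc hy.1 hy.2, ← Set.ncard_coe_finset]
    congr 1
    ext u
    simp only [P, Finset.coe_filter, Set.mem_toFinset, Set.mem_setOf_eq]
    exact ⟨fun ⟨hu, hc'⟩ => ⟨hu.1, hu.2.2, hc'.symm⟩,
      fun hu => ⟨L.perp_of hu.1 hu.2.1 (L.ne_of_both hy.2 hu).1, hu.2.2.symm⟩⟩
  have e2 : ∀ u ∈ P, (W.filter fun y => Commute u y).card = 2 ^ e * 3 ^ j - 2 ^ e := by
    intro u hu
    simp only [P, Set.mem_toFinset] at hu
    have hset : ((W.filter fun y => Commute u y : Finset G) : Set G) = perp D u \ (line D c u \ {u}) := by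
      ext y
      simp only [W, Finset.coe_filter, Set.mem_toFinset, Set.mem_setOf_eq, Set.mem_sdiff, Set.mem_singleton_iff]
      constructor
      · rintro ⟨⟨hy, hn⟩, huy⟩
        exact ⟨L.perp_of hy huy (fun e => hn (e ▸ hu.2.2)), fun hl => hn (commute_left hc hu.2.2 hl.1).symm⟩
      · rintro ⟨hy, hl⟩
        exact ⟨⟨hy.1, fun hn => hl ⟨(L.mem_line_iff hc hu).2 ⟨hy.1, hn, hy.2.2⟩, hy.2.1⟩⟩, hy.2.2⟩
    have hsub : line D c u \ {u} ⊆ perp D u := fun y hy =>
      L.perp_of hy.1.1 (commute_right hu.1 hu.2.2 hy.1).symm hy.2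
    rw [← Set.ncard_coe_finset, hset, Set.ncard_sdiff' hsub (Set.toFinite _), L.perp_card u hu.1,
      Set.ncard_sdiff_singleton_of_mem (right_mem_line hu.1), L.line_card c hc u hu, Nat.add_sub_cancel]
  rw [Finset.sum_congr rfl e1, Finset.sum_congr rfl e2, Finset.sum_const, Finset.sum_const, smul_eq_mul,
    smul_eq_mul] at hb
  have hP : P.card = 2 ^ e * 3 ^ j := by rw [← Set.ncard_eq_toFinset_card', L.perp_card c hc]
  rw [hP] at hb
  rw [Set.ncard_eq_toFinset_card']
  exact hb

theorem card_D {c : G} (hc : c ∈ D) : D.ncard = 1 + 2 ^ e * 3 ^ j + {y | y ∈ D ∧ ¬ Commute c y}.ncard := by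
  have hu : D = ({c} ∪ perp D c) ∪ {y | y ∈ D ∧ ¬ Commute c y} := by
    ext y
    constructor
    · intro hy
      by_cases e : y = c
      · exact Or.inl (Or.inl e)
      by_cases h : Commute c y
      · exact Or.inl (Or.inr ⟨hy, e, h⟩)
      · exact Or.inr ⟨hy, h⟩
    · rintro ((rfl | h) | h)
      exacts [hc, h.1, h.1]
  conv_lhs => rw [hu]
  rw [Set.ncard_union_eq ?_ (Set.toFinite _) (Set.toFinite _), Set.ncard_union_eq ?_ (Set.toFinite _)
    (Set.toFinite _), Set.ncard_singleton, L.perp_card c hc]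
  · exact Set.disjoint_singleton_left.2 fun h => h.2.1 rfl
  · refine Set.disjoint_left.2 ?_
    rintro y (rfl | h) h'
    exacts [h'.2 (Commute.refl _), h'.2 h.2.2]

theorem exists_far {c : G} (hc : c ∈ D) : ∃ d ∈ D, ¬ Commute c d := by
  obtain ⟨a, ha, b, hb, hab⟩ := L.two
  by_cases e : c = a
  · exact L.h.exists_not_commute hc hb (e ▸ hab)
  · exact L.h.exists_not_commute hc ha e

/-- Two non-commuting members have more than one common neighbour. -/
theorem both_ne_one {c d : G} (hc : c ∈ D) (hd : d ∈ D) (hcd : ¬ Commute c d) : (both D c d).ncard ≠ 1 := by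
  intro h1
  have huniq : ∀ {p q u v : G}, p ∈ D → q ∈ D → ¬ Commute p q → u ∈ both D p q → v ∈ both D p q → u = v := by
    intro p q u v hp hq hpq hu hv
    obtain ⟨z, hz⟩ := Set.ncard_eq_one.1 ((L.both_const hp hq hpq hc hd hcd).trans h1)
    rw [hz] at hu hv
    exact hu.trans hv.symm
  -- `a`, a member `y` not commuting with it, their common neighbour `p`, and a third point on their line
  obtain ⟨y, hy, hay⟩ := L.exists_far hc
  obtain ⟨p, hpc, hpy⟩ := exists_common_perp L.h L.rad L.perf hc hy hay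
  obtain ⟨ε, hε, hεc, hεp⟩ : ∃ ε ∈ line D c p, ε ≠ c ∧ ε ≠ p := by
    by_contra hcon
    push Not at hcon
    have hsub : line D c p ⊆ {c, p} := fun z hz => by
      by_cases e : z = c
      · exact Or.inl e
      · exact Or.inr (hcon z hz e)
    have := Set.ncard_le_ncard hsub (Set.toFinite _)
    rw [L.line_card c hc p hpc, Set.ncard_pair hpc.2.1.symm] at this
    have : 2 ^ e ≤ 1 := by omega
    have := Nat.pow_le_pow_right (n := 2) (by norm_num) L.e_pos
    omega
  have hεp' : Commute ε p := commute_right hpc.1 hpc.2.2 hε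
  have hεc' : Commute c ε := (commute_left hc hpc.2.2 hε).symm
  have hεperp : ε ∈ perp D c := L.perp_of hε.1 hεc' hεc
  have hεy : ¬ Commute ε y := fun hh => hεp (huniq hc hy hay ⟨hε.1, hεc', hh.symm⟩ ⟨hpc.1, hpc.2.2, hpy.2.2⟩)
  obtain ⟨w, hw, hwl⟩ : ∃ w ∈ perp D c, w ∉ line D c p := by
    by_contra hcon
    push Not at hcon
    have := Set.ncard_le_ncard (s := insert c (perp D c)) (t := line D c p)
      (by rintro z (rfl | hz); exacts [left_mem_line hc, hcon z hz]) (Set.toFinite _)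
    rw [Set.ncard_insert_of_notMem (fun h => h.2.1 rfl) (Set.toFinite _), L.line_card c hc p hpc,
      L.perp_card c hc] at this
    have h3 : 3 ≤ 3 ^ j := by
      calc 3 = 3 ^ 1 := (pow_one 3).symm
        _ ≤ 3 ^ j := Nat.pow_le_pow_right (by norm_num) L.j_pos
    have := Nat.mul_le_mul_left (2 ^ e) h3
    have := Nat.one_le_two_pow (n := e)
    omega
  have hwy : ¬ Commute w y := fun hh => hwl (by
    rw [huniq hc hy hay ⟨hw.1, hw.2.2, hh.symm⟩ ⟨hpc.1, hpc.2.2, hpy.2.2⟩]
    exact right_mem_line hpc.1)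
  have hεw : ¬ Commute ε w := fun hh => hwl (by
    rw [← L.line_eq_left hc hpc hε hεc, L.mem_line_iff hc hεperp]
    exact ⟨hw.1, hw.2.2, hh⟩)
  have ht : ¬ Commute (ε * w * ε) y := fun hh => by
    have htD := L.h.conj_mem' hε.1 hw.1
    have hct : Commute c (ε * w * ε) := commute_third hεc' hw.2.2
    have e1 := huniq hc hy hay ⟨htD, hct, hh.symm⟩ ⟨hpc.1, hpc.2.2, hpy.2.2⟩
    exact L.h.third_not_commute hε.1 hw.1 hεw (e1.symm ▸ hεp')
  obtain ⟨N, hN, hNw, hNy⟩ := exists_plane_group L.h hε.1 hw.1 hy hεw hεy hwy ht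
  -- the part of `N` fixing `c` is its own normaliser in `N`
  haveI : Fact (Nat.Prime 3) := ⟨Nat.prime_three⟩
  haveI := hN.isNilpotent
  set A : Subgroup ↥N := (Subgroup.centralizer ({c} : Set G)).subgroupOf N with hAdef
  have hA : A ≠ ⊤ := fun hA => by
    have := hA ▸ Subgroup.mem_top (⟨ε * y, hNy⟩ : ↥N)
    rw [hAdef, Subgroup.mem_subgroupOf, Subgroup.mem_centralizer_singleton_iff] at this
    have hc2 : Commute c (ε * y) := this.symm
    refine hay ?_
    have h3 := hεc'.mul_right hc2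
    rwa [← mul_assoc, L.h.mul_self hε.1, one_mul] at h3
  have hlt := normalizerCondition_of_isNilpotent (G := ↥N) A (lt_top_iff_ne_top.2 hA)
  obtain ⟨n, hn, hnA⟩ := SetLike.exists_of_lt hlt
  apply hnA
  have hu : (⟨ε * w, hNw⟩ : ↥N) ∈ A := by
    rw [hAdef, Subgroup.mem_subgroupOf, Subgroup.mem_centralizer_singleton_iff]
    exact (hεc'.mul_right hw.2.2).symm.eq
  have hnu := (Subgroup.mem_normalizer_iff.1 hn _).1 hu
  rw [hAdef, Subgroup.mem_subgroupOf, Subgroup.mem_centralizer_singleton_iff] at hnu ⊢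
  push_cast at hnu
  set c' : G := (n : G) * c * (n : G)⁻¹ with hc'
  have hc'D : c' ∈ D := L.h.conj _ c hc
  have hεn : ¬ Commute ((n : G) * ε * (n : G)⁻¹) ((n : G) * w * (n : G)⁻¹) := fun hh =>
    hεw ((Commute.conj_iff _).1 hh)
  have hfix : ((n : G) * ε * (n : G)⁻¹) * ((n : G) * w * (n : G)⁻¹) * c *
      (((n : G) * ε * (n : G)⁻¹) * ((n : G) * w * (n : G)⁻¹))⁻¹ = c := by
    rw [show ((n : G) * ε * (n : G)⁻¹) * ((n : G) * w * (n : G)⁻¹) = (n : G) * (ε * w) * (n : G)⁻¹ by group,
      hnu, mul_inv_cancel_right]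
  have h2 := commute_of_fixed L.h (L.h.conj _ ε hε.1) (L.h.conj _ w hw.1) hc hεn hfix
  have e1 : c' = c := huniq (L.h.conj _ ε hε.1) (L.h.conj _ w hw.1) hεn
    ⟨hc'D, (Commute.conj_iff _).2 hεc'.symm, (Commute.conj_iff _).2 hw.2.2.symm⟩ ⟨hc, h2.1, h2.2⟩
  rw [hc', mul_inv_eq_iff_eq_mul] at e1
  exact e1

/-- Non-commuting members have one common neighbour on every line through them. -/
theorem both_card {c d : G} (hc : c ∈ D) (hd : d ∈ D) (hcd : ¬ Commute c d) :
    (both D c d).ncard = 3 ^ j := by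
  set μ := (both D c d).ncard with hμ
  have hle : μ ≤ 3 ^ j := L.both_le hc hd hcd
  have h1 : μ ≠ 1 := L.both_ne_one hc hd hcd
  obtain ⟨u, hu, hu'⟩ := exists_common_perp L.h L.rad L.perf hc hd hcd
  have hpos : 0 < μ := (Set.ncard_pos (Set.toFinite _)).2 ⟨u, hu.1, hu.2.2, hu'.2.2⟩
  obtain ⟨x, x', hx, hx', hne⟩ := (Set.one_lt_ncard_iff (Set.toFinite _)).1 (show 1 < (both D c d).ncard by omega)
  have hn := L.not_commute_common hc hd hcd hx hx' hne
  have h3 : μ ≡ 0 [MOD 3] := by
    refine (ncard_mod_three (g := x * x') (L.h.cube hx.1 hx'.1 hn) ?_).trans (congrArg (· % 3) ?_)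
    · intro y hy
      have hgc : Commute (x * x') c := (hx.2.1.symm.mul_left hx'.2.1.symm)
      have hgd : Commute (x * x') d := (hx.2.2.symm.mul_left hx'.2.2.symm)
      have := both_conj L.h (x * x') c d
      rw [conj_eq_of_commute hgc, conj_eq_of_commute hgd] at this
      rw [this]
      exact ⟨y, hy, rfl⟩
    · rw [Set.ncard_eq_zero]
      refine Set.eq_empty_iff_forall_notMem.2 fun y ⟨hy, hf⟩ => ?_
      obtain ⟨k1, k2⟩ := commute_of_fixed L.h hx.1 hx'.1 hy.1 hn hf
      by_cases e : y = x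
      · subst e; exact hn k2.symm
      · exact L.not_commute_common hc hd hcd hy hx e k1.symm
  have hv : D.ncard ≡ μ [MOD 3] := by
    refine (ncard_mod_three (g := c * d) (L.h.cube hc hd hcd) (fun y hy => L.h.conj _ y hy)).trans
      (congrArg (· % 3) ?_)
    congr 1
    ext y
    exact ⟨fun ⟨hy, hf⟩ => ⟨hy, (commute_iff_fixed L.h hc hd hy hcd).1 hf⟩,
      fun ⟨hy, hh⟩ => ⟨hy, (commute_iff_fixed L.h hc hd hy hcd).2 hh⟩⟩
  have hcount := L.count_far hc hd hcd
  rw [← hμ] at hcount
  set l := {y | y ∈ D ∧ ¬ Commute c y}.ncard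
  rw [L.card_D hc] at hv
  have h3k : 3 ∣ 2 ^ e * 3 ^ j := Dvd.dvd.mul_left (dvd_pow_self 3 (by have := L.j_pos; omega)) _
  have hl : ¬ 3 ∣ l := by
    intro hl
    have h4 := hv.trans h3
    simp only [Nat.ModEq] at h4
    omega
  have hdvd : 3 ^ j ∣ μ := by
    refine (Nat.Coprime.dvd_of_dvd_mul_left ?_ (m := l) ?_)
    · exact Nat.Coprime.pow_left _ ((Nat.Prime.coprime_iff_not_dvd Nat.prime_three).2 hl)
    · rw [hcount]
      exact Dvd.dvd.mul_right (dvd_mul_left _ _) _
  exact le_antisymm hle (Nat.le_of_dvd hpos hdvd)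

/-- The quadrangle axiom: a member commutes with a point of every line. -/
theorem exists_on_line {a b c : G} (ha : a ∈ D) (hb : b ∈ perp D a) (hc : c ∈ D) :
    ∃ p ∈ line D a b, Commute c p := by
  classical
  haveI : Fintype G := Fintype.ofFinite G
  by_cases hca : Commute c a
  · exact ⟨a, left_mem_line ha, hca⟩
  by_contra hcon
  push Not at hcon
  have hac : ¬ Commute a c := fun h => hca h.symm
  have hmem : ∀ {u}, u ∈ both D a c → u ∈ perp D a := fun hu => L.perp_of hu.1 hu.2.1 (L.ne_of_both hac hu).1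
  let f : G → Finset G := fun u => (line D a u \ {a}).toFinset
  have hdisj : ((both D a c).toFinset : Set G).PairwiseDisjoint f := by
    intro u hu v hv hne
    rw [Function.onFun, Finset.disjoint_left]
    intro y h1 h2
    simp only [f, Set.mem_toFinset, Finset.mem_coe, Set.mem_sdiff, Set.mem_singleton_iff] at h1 h2 hu hv
    have e1 := L.line_eq_left ha (hmem hu) h1.1 h1.2
    have e2 := L.line_eq_left ha (hmem hv) h2.1 h2.2
    have hvl : v ∈ line D a u := by rw [← e1, e2]; exact right_mem_line hv.1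
    exact L.not_commute_common ha hc hac hu hv hne (commute_line ha hu.1 hu.2.1 (right_mem_line hu.1) hvl)
  have hcard : ((both D a c).toFinset.biUnion f).card = (perp D a).toFinset.card := by
    rw [Finset.card_biUnion hdisj, Finset.sum_const_nat (m := 2 ^ e), ← Set.ncard_eq_toFinset_card',
      ← Set.ncard_eq_toFinset_card', L.both_card ha hc hac, L.perp_card a ha, mul_comm]
    intro u hu
    rw [Set.mem_toFinset] at hu
    simp only [f]
    rw [← Set.ncard_eq_toFinset_card', Set.ncard_sdiff_singleton_of_mem (left_mem_line ha),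
      L.line_card a ha u (hmem hu), Nat.add_sub_cancel]
  have heq := Finset.eq_of_subset_of_card_le (s := (both D a c).toFinset.biUnion f) (t := (perp D a).toFinset)
    (fun y hy => by
      simp only [f, Finset.mem_biUnion, Set.mem_toFinset, Set.mem_sdiff, Set.mem_singleton_iff] at hy ⊢
      obtain ⟨u, hu, hy1, hy2⟩ := hy
      exact L.line_subset_perp ha (hmem hu) hy1 hy2) hcard.ge
  have hbm : b ∈ (both D a c).toFinset.biUnion f := heq ▸ Set.mem_toFinset.2 hb
  simp only [f, Finset.mem_biUnion, Set.mem_toFinset, Set.mem_sdiff, Set.mem_singleton_iff] at hbm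
  obtain ⟨u, hu, hb1, hb2⟩ := hbm
  exact hcon u (by rw [L.line_eq_left ha (hmem hu) hb1 hb2]; exact right_mem_line hu.1) hu.2.2

/-- The number of members. -/
theorem card_points {c : G} (hc : c ∈ D) :
    D.ncard = 1 + 2 ^ e * 3 ^ j + 2 ^ e * 2 ^ e * (3 ^ j - 1) := by
  obtain ⟨d, hd, hcd⟩ := L.exists_far hc
  have h := L.count_far hc hd hcd
  rw [L.both_card hc hd hcd] at h
  rw [L.card_D hc]
  congr 1
  refine Nat.eq_of_mul_eq_mul_right (Nat.pow_pos (n := j) (by norm_num : 0 < 3)) (h.trans ?_)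
  rw [show 2 ^ e * 3 ^ j - 2 ^ e = 2 ^ e * (3 ^ j - 1) by rw [Nat.mul_sub, mul_one]]
  ring

theorem card_far {c : G} (hc : c ∈ D) : {y | y ∈ D ∧ ¬ Commute c y}.ncard = 2 ^ e * 2 ^ e * (3 ^ j - 1) := by
  have h1 := L.card_D hc
  have h2 := L.card_points hc
  omega

end Geo

end CfsgLib.Invol.TriSolv
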