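import Cfsg.Agent.Lib.Invol.TriSolv.ModelTab
import Cfsg.Agent.Lib.Invol.TriSolv.Axiom

/-!
# Members satisfying the relators span a copy of the model's points

A cover of a simple group with kernel of order at most two is central, so a non-commutative image of it
separates the simple group, and the members named by the table's words behave as the transvections do.
-/

set_option autoImplicit false

namespace CfsgLib.Invol.TriSolv

open CfsgLib.Spor.Tri CfsgLib.Spor.TC
open CfsgLib.Spor.Fi22.U6 (Four)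

universe u

section abstract

variable {Γ S H : Type*} [Group Γ] [Group S] [Group H] {ψ : Γ →* S} (hψ : Function.Surjective ψ)
include hψ

theorem ker_central (h0 : Nat.card Γ ≠ 0) (hle : Nat.card Γ ≤ 2 * Nat.card S) :
    ψ.ker ≤ Subgroup.center Γ := by
  haveI := Nat.finite_of_card_ne_zero h0
  haveI := Finite.of_surjective _ hψ
  have h1 := Subgroup.card_eq_card_quotient_mul_card_subgroup ψ.ker
  rw [Nat.card_congr (QuotientGroup.quotientKerEquivOfSurjective ψ hψ).toEquiv] at h1
  have hk : Nat.card ψ.ker ≤ 2 := by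
    refine Nat.le_of_mul_le_mul_left ?_ (Nat.card_pos : 0 < Nat.card S)
    rw [← h1, mul_comm]; exact hle
  intro κ hκ
  rw [Subgroup.mem_center_iff]
  intro γ
  by_cases e : κ = 1
  · simp [e]
  have hc : γ * κ * γ⁻¹ ∈ ψ.ker := (MonoidHom.normal_ker ψ).conj_mem κ hκ γ
  haveI : Fintype ψ.ker := Fintype.ofFinite _
  classical
  have h3 : ({1, κ, γ * κ * γ⁻¹} : Finset Γ).card ≤ 2 := by
    refine le_trans ?_ hk
    rw [← Nat.card_eq_finsetCard]
    exact Nat.card_le_card_of_injective (fun x => ⟨x.1, by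
      have := x.2; simp only [Finset.mem_insert, Finset.mem_singleton] at this
      rcases this with r | r | r <;> rw [r] <;> first | exact one_mem _ | assumption⟩)
      fun x y h => Subtype.ext (congrArg Subtype.val h :)
  by_contra hne
  have h4 : γ * κ * γ⁻¹ ≠ κ := fun r => hne (mul_inv_eq_iff_eq_mul.1 r)
  have h5 : γ * κ * γ⁻¹ ≠ 1 := by simpa using e
  rw [Finset.card_eq_three.2 ⟨1, κ, _, Ne.symm e, h5.symm, h4.symm, rfl⟩] at h3
  omega

theorem ker_sq (h0 : Nat.card Γ ≠ 0) (hle : Nat.card Γ ≤ 2 * Nat.card S) {κ : Γ} (hκ : κ ∈ ψ.ker) :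
    κ ^ 2 = 1 := by
  haveI := Nat.finite_of_card_ne_zero h0
  haveI := Finite.of_surjective _ hψ
  have h1 := Subgroup.card_eq_card_quotient_mul_card_subgroup ψ.ker
  rw [Nat.card_congr (QuotientGroup.quotientKerEquivOfSurjective ψ hψ).toEquiv] at h1
  have hk : Nat.card ψ.ker ≤ 2 := by
    refine Nat.le_of_mul_le_mul_left ?_ (Nat.card_pos : 0 < Nat.card S)
    rw [← h1, mul_comm (Nat.card S) 2]; exact hle
  have hpow : (⟨κ, hκ⟩ : ψ.ker) ^ Nat.card ψ.ker = 1 := pow_card_eq_one'
  have hpos : 0 < Nat.card ψ.ker := Nat.card_pos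
  rcases (by omega : Nat.card ψ.ker = 1 ∨ Nat.card ψ.ker = 2) with e | e <;> rw [e] at hpow
  · have := congrArg Subtype.val hpow
    rw [pow_one] at this
    simp only [OneMemClass.coe_one] at this
    rw [this, one_pow]
  · simpa using congrArg Subtype.val hpow

variable (hK : ψ.ker ≤ Subgroup.center Γ) (hS : IsSimpleGroup S) (θ : Γ →* H)
  (hna : ∃ a b, ¬ Commute (θ a) (θ b))
include hK hS hna

theorem separates {γ γ' : Γ} (h : θ γ = θ γ') : ψ γ = ψ γ' := by
  haveI := hS
  haveI : (θ.ker.map ψ).Normal := Subgroup.Normal.map inferInstance ψ hψ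
  rcases IsSimpleGroup.eq_bot_or_eq_top_of_normal (θ.ker.map ψ) inferInstance with e | e
  · have : ψ (γ * γ'⁻¹) ∈ θ.ker.map ψ :=
      Subgroup.mem_map_of_mem ψ (by rw [MonoidHom.mem_ker, map_mul, map_inv, h, mul_inv_cancel])
    rw [e, Subgroup.mem_bot, map_mul, map_inv, mul_inv_eq_one] at this
    exact this
  · obtain ⟨a, b, hab⟩ := hna
    refine absurd ?_ hab
    have : ∀ x : Γ, ∃ κ ∈ ψ.ker, θ x = θ κ := fun x => by
      obtain ⟨m, hm, hmx⟩ := (show ψ x ∈ θ.ker.map ψ by rw [e]; exact Subgroup.mem_top _)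
      exact ⟨m⁻¹ * x, by rw [MonoidHom.mem_ker, map_mul, map_inv, hmx, inv_mul_cancel],
        by rw [map_mul, map_inv, MonoidHom.mem_ker.1 hm, inv_one, one_mul]⟩
    obtain ⟨κ, hκ, hκa⟩ := this a
    rw [hκa]
    exact Commute.map (show Commute κ b from (Subgroup.mem_center_iff.1 (hK hκ) b).symm) θ

theorem iso_of_surjective (hθ : Function.Surjective θ) (hH : Subgroup.center H = ⊥) : Nonempty (H ≃* S) := by
  have hker : ψ.ker ≤ θ.ker := fun κ hκ => by
    rw [MonoidHom.mem_ker, ← Subgroup.mem_bot, ← hH, Subgroup.mem_center_iff]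
    intro y
    obtain ⟨x, rfl⟩ := hθ y
    rw [← map_mul, ← map_mul, Subgroup.mem_center_iff.1 (hK hκ) x]
  obtain ⟨σ, hσ⟩ := Function.Surjective.hasRightInverse hψ
  let η := ψ.liftOfRightInverse σ hσ ⟨θ, hker⟩
  have hη : ∀ x, η (ψ x) = θ x := fun x => ψ.liftOfRightInverse_comp_apply σ hσ ⟨θ, hker⟩ x
  refine ⟨(MulEquiv.ofBijective η ⟨?_, fun y => ?_⟩).symm⟩
  · rw [← MonoidHom.ker_eq_bot_iff, Subgroup.eq_bot_iff_forall]
    intro s hs
    obtain ⟨x, rfl⟩ := hψ s
    rw [MonoidHom.mem_ker, hη, ← map_one θ] at hs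
    rw [separates hψ hK hS θ hna hs, map_one]
  · obtain ⟨x, rfl⟩ := hθ y
    exact ⟨ψ x, hη x⟩

end abstract

variable {G : Type u} [Group G] [Finite G] {D : Set G}

theorem ev_mem_of_palindrome (h : Hyp D) {g : ℕ → G} (hsq : ∀ x, g x * g x = 1) (w : List ℕ) {i : ℕ}
    (hi : g i ∈ D) : ev g (w ++ [i] ++ w.reverse) ∈ D := by
  have e : ev g w.reverse = (ev g w)⁻¹ := by
    induction w with
    | nil => simp [ev]
    | cons x w ih =>
      rw [List.reverse_cons, ev_append, ih]
      simp [ev, inv_eq_of_mul_eq_one_right (hsq x)]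
  rw [ev_append, ev_append, e, show ev g [i] = g i by simp [ev]]
  exact h.conj _ _ hi

/-- Members satisfying the relators of a cover of the model. -/
structure Embed (D : Set G) (n k : ℕ) (rels : List PowRel) (V : List (Model.Vec n))
    (T : List (ℕ × ℕ × List ℕ)) (g : ℕ → G) : Prop where
  h : Hyp D
  tab : Model.TabOK V T
  len : V.length = k
  card : Nat.card (Pres k rels) ≠ 0 ∧ Nat.card (Pres k rels) ≤ 2 * Nat.card (Model.SUn n)
  model : Sat k rels (Model.letter V)
  sat : Sat k rels g
  mem : ∀ x < k, g x ∈ D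
  na : ¬ Commute (g 0) (g 1)
  rich : ∀ q < T.length, ∃ r < T.length, ∃ r' < T.length,
    Model.hf (Model.vec n T r) (Model.vec n T q) = 0 ∧ Model.hf (Model.vec n T r') (Model.vec n T q) = 0 ∧
      Model.hf (Model.vec n T r') (Model.vec n T r) ≠ 0

namespace Embed

variable {n k : ℕ} {rels : List PowRel} {V : List (Model.Vec n)} {T : List (ℕ × ℕ × List ℕ)} {g : ℕ → G}
  (E : Embed D n k rels V T g)

/-- The member of a point. -/
def pt (g : ℕ → G) (T : List (ℕ × ℕ × List ℕ)) (p : ℕ) : G := ev g (Model.pword T p)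

include E

theorem surj : Function.Surjective (presHom E.model) := E.tab.presHom_sat_surjective E.model E.len

theorem central : (presHom E.model).ker ≤ Subgroup.center _ := ker_central E.surj E.card.1 E.card.2

theorem na' : ∃ a b, ¬ Commute (presHom E.sat a) (presHom E.sat b) :=
  ⟨presGen k rels 0, presGen k rels 1, by rw [presHom_gen, presHom_gen]; exact E.na⟩

theorem sep {γ γ' : Pres k rels} (h : presHom E.sat γ = presHom E.sat γ') :
    presHom E.model γ = presHom E.model γ' :=
  separates E.surj E.central E.tab.simple _ E.na' h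

omit [Finite G] in
theorem map_word (w : List ℕ) : presHom E.sat (ev (presGen k rels) w) = ev g w ∧
    presHom E.model (ev (presGen k rels) w) = ev (Model.letter V) w := by
  simp only [map_ev, presHom_gen, and_self]

theorem sep_word {w w' : List ℕ} (h : ev g w = ev g w') : ev (Model.letter V) w = ev (Model.letter V) w' := by
  rw [← (E.map_word w).2, ← (E.map_word w').2]
  exact E.sep (by rw [(E.map_word w).1, (E.map_word w').1, h])

theorem pt_mem {p : ℕ} (hp : p < T.length) : pt g T p ∈ D := by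
  obtain ⟨h1, -⟩ := E.tab.pt p hp
  exact ev_mem_of_palindrome E.h E.sat.sq _ (E.mem _ (E.len ▸ h1))

theorem pt_inj {p q : ℕ} (hp : p < T.length) (hq : q < T.length) (h : pt g T p = pt g T q) : p = q := by
  have := E.sep_word h
  rw [E.tab.ev_pword hp, E.tab.ev_pword hq] at this
  exact E.tab.tr_inj hp hq this

theorem pt_commute_iff {p q : ℕ} (hp : p < T.length) (hq : q < T.length) :
    Commute (pt g T p) (pt g T q) ↔ Model.hf (Model.vec n T q) (Model.vec n T p) = 0 := by
  rw [← E.tab.commute_iff hp hq, ← E.tab.ev_pword hp, ← E.tab.ev_pword hq]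
  constructor
  · intro h
    have := E.sep_word (w := Model.pword T p ++ Model.pword T q) (w' := Model.pword T q ++ Model.pword T p)
      (by rw [ev_append, ev_append]; exact h.eq)
    rwa [ev_append, ev_append] at this
  · intro h
    by_contra hne
    have h3 := E.h.cube (E.pt_mem hp) (E.pt_mem hq) hne
    have h3' := E.sep_word (w := powWord (Model.pword T p ++ Model.pword T q) 3) (w' := [])
      (by rw [ev_powWord, ev_append]; simpa [ev, pt] using h3)
    rw [ev_powWord, ev_append, show ev (Model.letter V) [] = 1 from rfl, E.tab.ev_pword hp,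
      E.tab.ev_pword hq] at h3'
    rw [E.tab.ev_pword hp, E.tab.ev_pword hq] at h
    rw [h.mul_pow] at h3'
    simp only [pow_succ, pow_zero, one_mul, Model.tr_mul_self] at h3'
    have heq : Model.tr (Model.vec n T p) = Model.tr (Model.vec n T q) := by
      rw [eq_inv_of_mul_eq_one_left h3', inv_eq_of_mul_eq_one_right (Model.tr_mul_self _)]
    exact hne (by rw [E.tab.tr_inj hp hq heq])

/-- A member named by a word is the point its transvection names. -/
theorem eq_pt {γ : Pres k rels} (hd : presHom E.sat γ ∈ D) {q : ℕ} (hq : q < T.length)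
    (hγ : presHom E.model γ = Model.tr (Model.vec n T q)) (L : ∀ a ∈ D, ∀ b ∈ D, Commute a b → a ≠ b →
      ∀ u ∈ D, ∀ v ∈ D, Commute a u → Commute b u → Commute a v → Commute b v → Commute u v) :
    presHom E.sat γ = pt g T q := by
  have hqm : presHom E.model (ev (presGen k rels) (Model.pword T q)) = Model.tr (Model.vec n T q) := by
    rw [(E.map_word _).2, E.tab.ev_pword hq]
  set δ := ev (presGen k rels) (Model.pword T q) with hδ
  have hδd : presHom E.sat δ = pt g T q := (E.map_word _).1
  have hker : γ * δ⁻¹ ∈ (presHom E.model).ker := by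
    rw [MonoidHom.mem_ker, map_mul, map_inv, hγ, hqm, mul_inv_cancel]
  set c := presHom E.sat (γ * δ⁻¹) with hcdef
  have hc : ∀ ξ, Commute c (presHom E.sat ξ) := fun ξ =>
    Commute.map (show Commute (γ * δ⁻¹) ξ from (Subgroup.mem_center_iff.1 (E.central hker) ξ).symm) _
  have hdc : presHom E.sat γ = c * pt g T q := by rw [hcdef, ← hδd, ← map_mul, inv_mul_cancel_right]
  by_contra hne
  obtain ⟨r, hr, r', hr', o1, o2, o3⟩ := E.rich q hq
  have key : ∀ s < T.length, Model.hf (Model.vec n T s) (Model.vec n T q) = 0 →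
      Commute (pt g T q) (pt g T s) ∧ Commute (presHom E.sat γ) (pt g T s) := by
    intro s hs o
    have h1 := (E.pt_commute_iff hq hs).2 o
    refine ⟨h1, hdc ▸ Commute.mul_left ?_ h1⟩
    rw [pt, ← (E.map_word _).1]; exact hc _
  have hcom : Commute (presHom E.sat γ) (pt g T q) :=
    hdc ▸ Commute.mul_left (by rw [pt, ← (E.map_word _).1]; exact hc _) (Commute.refl _)
  exact (fun h => o3 ((E.pt_commute_iff hr hr').1 h)) (L _ hd _ (E.pt_mem hq) hcom hne _ (E.pt_mem hr) _
    (E.pt_mem hr') (key r hr o1).2 (key r hr o1).1 (key r' hr' o2).2 (key r' hr' o2).1)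

/-- Words carry points as they do in the model. -/
theorem conj_pt {w : List ℕ} {p q : ℕ} (hp : p < T.length) (hq : q < T.length)
    (hw : ∃ c : Four, c ≠ 0 ∧ Model.move_pt n V T w p = c • Model.vec n T q)
    (L : ∀ a ∈ D, ∀ b ∈ D, Commute a b → a ≠ b →
      ∀ u ∈ D, ∀ v ∈ D, Commute a u → Commute b u → Commute a v → Commute b v → Commute u v) :
    ev g w * pt g T p * (ev g w)⁻¹ = pt g T q := by
  obtain ⟨c, hc, e⟩ := hw
  set γ := ev (presGen k rels) w * ev (presGen k rels) (Model.pword T p) * (ev (presGen k rels) w)⁻¹ with hγ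
  have h1 : presHom E.sat γ = ev g w * pt g T p * (ev g w)⁻¹ := by
    rw [hγ, map_mul, map_mul, map_inv, (E.map_word _).1, (E.map_word _).1, pt]
  rw [← h1]
  refine E.eq_pt (h1 ▸ E.h.conj _ _ (E.pt_mem hp)) hq ?_ L
  rw [hγ, map_mul, map_mul, map_inv, (E.map_word _).2, (E.map_word _).2, E.tab.ev_pword hp,
    Model.tr_conj _ (E.tab.vec_iso hp), Model.ev_mulVec E.tab.iso, show Model.act V w (Model.vec n T p) = _ from e,
    Model.tr_smul (E.tab.vec_iso hq) hc]

/-- As many points as members: the group is the model. -/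
theorem iso (hD : D.ncard = T.length) (hZ : Subgroup.center G = ⊥) : Nonempty (G ≃* Model.SUn n) := by
  refine iso_of_surjective E.surj E.central E.tab.simple _ E.na' ?_ hZ
  rw [← MonoidHom.range_eq_top, eq_top_iff, ← E.h.gen, Subgroup.closure_le]
  classical
  have hsub : (((Finset.range T.length).image (pt g T) : Finset G) : Set G) ⊆ D := by
    intro x hx
    simp only [Finset.coe_image, Set.mem_image, Finset.coe_range, Set.mem_Iio] at hx
    obtain ⟨p, hp, rfl⟩ := hx
    exact E.pt_mem hp
  have heq := Set.eq_of_subset_of_ncard_le hsub (by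
    rw [Set.ncard_coe_finset, Finset.card_image_of_injOn (fun p hp q hq h => E.pt_inj
      (Finset.mem_range.1 hp) (Finset.mem_range.1 hq) h), Finset.card_range, hD]) (Set.toFinite _)
  intro d hd
  rw [← heq, Finset.mem_coe, Finset.mem_image] at hd
  obtain ⟨p, -, rfl⟩ := hd
  exact ⟨ev (presGen k rels) (Model.pword T p), (E.map_word _).1⟩

end Embed

/-- The condition on lines which the identification of points uses. -/
theorem Geo.commute_triangle {e j : ℕ} (L : Geo D e j) : ∀ a ∈ D, ∀ b ∈ D, Commute a b → a ≠ b →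
    ∀ u ∈ D, ∀ v ∈ D, Commute a u → Commute b u → Commute a v → Commute b v → Commute u v := by
  intro a ha b hb hab hne u hu v hv h1 h2 h3 h4
  have hp : b ∈ perp D a := ⟨hb, hne.symm, hab⟩
  exact commute_line ha hb hab ((L.mem_line_iff ha hp).2 ⟨hu, h1, h2⟩) ((L.mem_line_iff ha hp).2 ⟨hv, h3, h4⟩)

end CfsgLib.Invol.TriSolv
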