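import Cfsg.Agent.Lib.Invol.TriSolv.Generators

/-!
# Forty-five members: `PSU(4, 2)`
-/

set_option autoImplicit false

namespace CfsgLib.Invol.TriSolv

open CfsgLib.Spor.Tri CfsgLib.Spor.TC
open CfsgLib.Invol.TriSolv.Cert (relsU4 relsU5)
open CfsgLib.Spor.Fi22.U6 (Four)

universe u

variable {G : Type u} [Group G] [Finite G] {D : Set G}

theorem gens_sq (h : Hyp D) {f : Fin 5 → G} {z w : G} (hf : ∀ i, f i ∈ D) (hz : z * z = 1) (hw : w * w = 1)
    (x : ℕ) : gens f z w x * gens f z w x = 1 := by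
  unfold gens
  split_ifs
  exacts [h.mul_self (hf _), hz, hw, one_mul 1]

theorem sat_four {g : ℕ → G} (h : Hyp D) (hsq : ∀ x, g x * g x = 1) (hout : ∀ x, 6 ≤ x → g x = 1)
    (P : Pattern D g 6) (hrho : ev g rhoWord * g 5 * (ev g rhoWord)⁻¹ = g 5) : Sat 6 relsU4 g := by
  refine ⟨hsq, hout, fun r hr => ?_⟩
  rcases shape_four r hr with ⟨hw, hlt, h6, hm⟩ | rfl
  · rw [hw, hm]
    simp only [ev, List.map_cons, List.map_nil, List.prod_cons, List.prod_nil, mul_one]
    exact pair_rel h (P.mem _ (by omega)) (P.mem _ h6) (P.pat _ _ hlt h6)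
  · exact ev_fix hsq hrho

namespace Sixth

variable {e j : ℕ} (L : Geo D e j) {f : Fin 5 → G} {z : G} (s : Sixth D f z)
include L s

/-- The six generators give forty-five points. -/
theorem embed (he : e = 2) : Embed D 4 6 relsU4 Model.vecsFour Model.tabFour (gens f z 1) where
  h := L.h
  tab := Model.tabOK_four
  len := Model.length_vecsFour
  card := ⟨Cert.card_presU4.1, by rw [Model.card_su_four]; exact Cert.card_presU4.2⟩
  model := Model.sat_four
  sat := sat_four L.h (gens_sq L.h s.chain.mem (L.h.mul_self s.mem.1) (one_mul 1))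
    (fun x hx => by unfold gens; rw [dif_neg (by omega), if_neg (by omega)]; split_ifs <;> rfl)
    (s.pattern L 1) (by
      have := s.rho_fixes L 1 he
      rwa [show gens f z 1 5 = z by simp [gens]])
  mem := (s.pattern L 1).mem
  na := by
    rw [show gens f z 1 0 = f 0 by simp [gens], show gens f z 1 1 = f 1 by simp [gens]]
    exact s.chain.near 0 1 rfl
  rich := Model.rich_four

end Sixth

namespace Geo

variable {e j : ℕ} (L : Geo D e j)
include L

/-- Forty-five members: `PSU(4, 2)`. -/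
theorem iso_psu_four (he : e = 2) (hj : j = 1) (hZ : Subgroup.center G = ⊥) :
    Nonempty (G ≃* Cfsg.PSU 4 Four 2) := by
  obtain ⟨f, z, s⟩ := L.exists_sixth he
  obtain ⟨φ⟩ := (s.embed L he).iso (by
    rw [L.card_points (s.chain.mem 0), Model.length_tabFour, he, hj]; norm_num) hZ
  exact ⟨φ.trans Model.tabOK_four.psuEquiv.symm⟩

end Geo

end CfsgLib.Invol.TriSolv
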