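import Cfsg.Agent.Lib.Invol.TriSolv.ModelTab
import Cfsg.Agent.Lib.Invol.TriSolv.Cert.Rels

/-!
# The transvection model with 165 points
-/

set_option autoImplicit false
set_option maxRecDepth 100000
set_option synthInstance.maxSize 2000
set_option synthInstance.maxHeartbeats 200000

namespace CfsgLib.Invol.TriSolv.Model

open CfsgLib.Spor.TC CfsgLib.Invol.TriSolv.Cert
open CfsgLib.Spor.Fi22.U6 (Four)

/-- The generating vectors. -/
def vecsFive : List (Vec 5) := gensFive.map (dec 5)

theorem length_vecsFive : vecsFive.length = 7 := by decide +kernel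

theorem length_tabFive : tabFive.length = 165 := by decide +kernel

theorem tabOK_five : TabOK vecsFive tabFive where
  three := by norm_num
  cop := by decide
  iso := by decide +kernel
  pt := by rw [length_tabFive, length_vecsFive]; decide +kernel
  pt_ne := by rw [length_tabFive]; decide +kernel
  apart := by rw [length_tabFive]; decide +kernel
  code_lt := by rw [length_tabFive]; decide +kernel
  enc_dec := by decide +kernel
  cover := by decide +kernel

theorem relOK_five : ∀ r ∈ relsU5, RelOK vecsFive r := by decide +kernel

theorem sat_five : Sat 7 relsU5 (letter vecsFive) :=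
  sat_letter tabOK_five.iso length_vecsFive relOK_five

theorem rich_five : ∀ q < tabFive.length, ∃ r < tabFive.length, ∃ r' < tabFive.length,
    hf (vec 5 tabFive r) (vec 5 tabFive q) = 0 ∧ hf (vec 5 tabFive r') (vec 5 tabFive q) = 0 ∧
      hf (vec 5 tabFive r') (vec 5 tabFive r) ≠ 0 := by
  rw [length_tabFive]; decide +kernel

theorem card_su_five : Nat.card (SUn 5) = 13685760 := by
  obtain ⟨C⟩ := CfsgLib.Classical.uctx_exists (F := Four) (q := 2) card_four
  rw [CfsgLib.SU.SemisimpleCentral.card_su C card_four (by norm_num)]
  decide +kernel

end CfsgLib.Invol.TriSolv.Model
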