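import Cfsg.Agent.Lib.Invol.TriSolv.Six
import Cfsg.Agent.Lib.Invol.TriSolv.Cover
import Cfsg.Agent.Lib.Invol.TriSolv.ModelFour
import Cfsg.Agent.Lib.Invol.TriSolv.ModelFive
import Cfsg.Agent.Lib.Invol.TriSolv.Cert.Bound

/-!
# Lines of five points: a sixth generator

The five adjacent transpositions extend by a point of the line through three of them; it satisfies the
relators of the cover of the forty-five points.
-/

set_option autoImplicit false

namespace CfsgLib.Invol.TriSolv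

open CfsgLib.Spor.Tri CfsgLib.Spor.TC Equiv
open CfsgLib.Invol.TriSolv.Cert (relsU4 relsU5)

universe u

variable {G : Type u} [Group G] [Finite G] {D : Set G}

/-- The seven letters. -/
def gens (f : Fin 5 → G) (z w : G) (x : ℕ) : G :=
  if h : x < 5 then f ⟨x, h⟩ else if x = 5 then z else if x = 6 then w else 1

/-- Which letters commute. -/
def com (i j : ℕ) : Bool :=
  (decide (j < 5) && decide (i + 1 < j)) || (decide (j = 5) && decide (i % 2 = 0)) ||
    (decide (j = 6) && (decide (i = 3) || decide (i = 4)))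

/-- The three-cycles' word. -/
def rhoWord : List ℕ := [0, 1, 0, 0, 1, 2, 3, 2, 1, 0, 1, 2, 1, 1, 2, 3, 4, 3, 2, 1]

/-- The word fixing the seventh letter. -/
def fixWord : List ℕ := [1, 0, 2, 1, 5, 0, 0, 1, 0, 5, 1, 2]

/-- The relator saying that a word fixes a letter. -/
def fixRel (w : List ℕ) (i : ℕ) : PowRel := (w ++ [i] ++ w.reverse ++ [i], 1)

theorem shape_four : ∀ r ∈ relsU4,
    (r.1 = [r.1.getD 0 0, r.1.getD 1 0] ∧ r.1.getD 0 0 < r.1.getD 1 0 ∧ r.1.getD 1 0 < 6 ∧
      r.2 = if com (r.1.getD 0 0) (r.1.getD 1 0) then 2 else 3) ∨ r = fixRel rhoWord 5 := by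
  decide +kernel

theorem shape_five : ∀ r ∈ relsU5,
    (r.1 = [r.1.getD 0 0, r.1.getD 1 0] ∧ r.1.getD 0 0 < r.1.getD 1 0 ∧ r.1.getD 1 0 < 7 ∧
      r.2 = if com (r.1.getD 0 0) (r.1.getD 1 0) then 2 else 3) ∨ r = fixRel rhoWord 5 ∨ r = fixRel fixWord 6 := by
  decide +kernel

/-- The letters as transpositions of six letters. -/
def swapLetter (x : ℕ) : Perm (Fin 6) :=
  if h : x < 5 then swap (Fin.castSucc ⟨x, h⟩) (Fin.succ ⟨x, h⟩) else 1

theorem rho_triple : ∀ i ∈ [0, 2, 4], ∃ j ∈ [0, 2, 4],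
    ev swapLetter rhoWord * swapLetter i * (ev swapLetter rhoWord)⁻¹ = swapLetter j := by decide +kernel

theorem rho_cube : ev swapLetter rhoWord ^ 3 = 1 := by decide +kernel

theorem ev_fix {g : ℕ → G} (hsq : ∀ x, g x * g x = 1) {w : List ℕ} {i : ℕ}
    (h : ev g w * g i * (ev g w)⁻¹ = g i) : ev g (fixRel w i).1 ^ (fixRel w i).2 = 1 := by
  have e : ev g w.reverse = (ev g w)⁻¹ := by
    clear h
    induction w with
    | nil => simp [ev]
    | cons x w ih =>
      rw [List.reverse_cons, ev_append, ih]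
      simp [ev, inv_eq_of_mul_eq_one_right (hsq x)]
  simp only [fixRel, ev_append, e, pow_one]
  rw [show ev g [i] = g i by simp [ev], h, hsq]

theorem pair_rel (h : Hyp D) {p q : G} (hp : p ∈ D) (hq : q ∈ D) {c : Bool}
    (hc : (c = true → Commute p q) ∧ (c = false → ¬ Commute p q)) : (p * q) ^ (if c then 2 else 3) = 1 := by
  cases c
  · exact h.cube hp hq (hc.2 rfl)
  · exact (h.commute_iff_sq hp hq).1 (hc.1 rfl)

/-- The seven letters are members with the pattern `com`. -/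
structure Pattern (D : Set G) (g : ℕ → G) (k : ℕ) : Prop where
  mem : ∀ x < k, g x ∈ D
  pat : ∀ i j, i < j → j < k → (com i j = true → Commute (g i) (g j)) ∧ (com i j = false → ¬ Commute (g i) (g j))

/-- The sixth generator. -/
structure Sixth (D : Set G) (f : Fin 5 → G) (z : G) : Prop where
  chain : Chain D f
  mem : z ∈ line D (f 0) (f 2)
  ne0 : z ≠ f 0
  ne2 : z ≠ f 2
  ne4 : z ≠ f 4

namespace Geo

variable {e j : ℕ} (L : Geo D e j)
include L

theorem exists_sixth (he : e = 2) : ∃ f z, Sixth D f z := by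
  obtain ⟨f, c⟩ := L.exists_chain
  have h02 : f 2 ∈ perp D (f 0) := ⟨c.mem 2, fun h => c.near 2 3 rfl (by rw [h]; exact c.far 0 3 (by decide)),
    c.far 0 2 (by decide)⟩
  have hl := L.line_card (f 0) (c.mem 0) (f 2) h02
  subst he
  obtain ⟨z, hz, h1, h2, h3⟩ : ∃ z ∈ line D (f 0) (f 2), z ≠ f 0 ∧ z ≠ f 2 ∧ z ≠ f 4 := by
    by_contra hcon
    push Not at hcon
    have hsub : line D (f 0) (f 2) ⊆ {f 0, f 2, f 4} := fun w hw => by
      by_contra hn
      simp only [Set.mem_insert_iff, Set.mem_singleton_iff, not_or] at hn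
      exact hn.2.2 (hcon w hw hn.1 hn.2.1)
    have h5 := Set.ncard_le_ncard hsub (Set.toFinite _)
    have h6 := Set.ncard_insert_le (f 0) ({f 2, f 4} : Set G)
    have h7 := Set.ncard_insert_le (f 2) ({f 4} : Set G)
    rw [Set.ncard_singleton] at h7
    omega
  exact ⟨f, z, c, hz, h1, h2, h3⟩

end Geo

namespace Sixth

variable {e j : ℕ} (L : Geo D e j) {f : Fin 5 → G} {z : G} (s : Sixth D f z) (w : G)
include L s

theorem ne_pairs : f 0 ≠ f 2 ∧ f 0 ≠ f 4 ∧ f 2 ≠ f 4 :=
  ⟨fun h => s.chain.near 2 3 rfl (by rw [← h]; exact s.chain.far 0 3 (by decide)),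
    fun h => s.chain.near 3 4 rfl (by rw [← h]; exact (s.chain.far 0 3 (by decide)).symm),
    fun h => s.chain.near 1 2 rfl (by rw [h]; exact s.chain.far 1 4 (by decide))⟩

theorem perp_two : f 2 ∈ perp D (f 0) :=
  ⟨s.chain.mem 2, (s.ne_pairs L).1.symm, s.chain.far 0 2 (by decide)⟩

theorem four_mem : f 4 ∈ line D (f 0) (f 2) :=
  (L.mem_line_iff (s.chain.mem 0) (s.perp_two L)).2
    ⟨s.chain.mem 4, s.chain.far 0 4 (by decide), s.chain.far 2 4 (by decide)⟩

theorem pattern : Pattern D (gens f z w) 6 := by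
  have hc := s.chain
  have hln : ∀ {v}, v ∈ line D (f 0) (f 2) → Commute v z := fun hv =>
    commute_line (hc.mem 0) (hc.mem 2) (hc.far 0 2 (by decide)) hv s.mem
  have h0 := hln (left_mem_line (hc.mem 0))
  have h2 := hln (right_mem_line (hc.mem 2))
  have h4 := hln (s.four_mem L)
  have h1 : ¬ Commute (f 1) z := fun hh => hc.near 0 1 rfl
    (commute_left (hc.mem 0) (hc.far 0 2 (by decide)) (L.line_meet (hc.mem 0) (s.perp_two L) s.mem
      (s.four_mem L) (hc.mem 1) hh (hc.far 1 4 (by decide)) s.ne4)).symm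
  have h3 : ¬ Commute (f 3) z := fun hh => hc.near 3 4 rfl
    (commute_line (hc.mem 0) (hc.mem 2) (hc.far 0 2 (by decide)) (L.line_meet (hc.mem 0) (s.perp_two L) s.mem
      (left_mem_line (hc.mem 0)) (hc.mem 3) hh (hc.far 0 3 (by decide)).symm s.ne0) (s.four_mem L))
  refine ⟨fun x hx => ?_, fun i k hik hk => ?_⟩
  · by_cases h : x < 5
    · rw [gens, dif_pos h]; exact hc.mem _
    · rw [gens, dif_neg h, if_pos (by omega)]; exact s.mem.1
  · by_cases hk5 : k < 5
    · rw [gens, gens, dif_pos hk5, dif_pos (by omega : i < 5)]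
      rcases (by omega : i + 1 = k ∨ i + 1 < k) with h | h
      · refine ⟨fun hh => absurd hh ?_, fun _ => hc.near _ _ h⟩
        simp [com]; omega
      · exact ⟨fun _ => hc.far _ _ h, fun hh => absurd hh (by simp [com]; omega)⟩
    · obtain rfl : k = 5 := by omega
      rw [gens, gens, dif_neg hk5, if_pos rfl, dif_pos (by omega : i < 5)]
      interval_cases i
      exacts [⟨fun _ => h0, fun h => absurd h (by decide)⟩, ⟨fun h => absurd h (by decide), fun _ => h1⟩,
        ⟨fun _ => h2, fun h => absurd h (by decide)⟩, ⟨fun h => absurd h (by decide), fun _ => h3⟩,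
        ⟨fun _ => h4, fun h => absurd h (by decide)⟩]

theorem rho_fixes (he : e = 2) : ev (gens f z w) rhoWord * z * (ev (gens f z w) rhoWord)⁻¹ = z := by
  obtain ⟨φ, hφ⟩ := s.chain.exists_hom L.h
  have hg : ∀ x, x < 5 → gens f z w x = φ (swapLetter x) := fun x hx => by
    rw [gens, swapLetter, dif_pos hx, dif_pos hx, hφ]
  set E := ev (gens f z w) rhoWord with hE
  have hEφ : E = φ (ev swapLetter rhoWord) := by
    rw [hE, map_ev]
    exact ev_congr fun x hx => hg x ((by decide : ∀ x ∈ rhoWord, x < 5) x hx)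
  have hE3 : E ^ 3 = 1 := by rw [hEφ, ← map_pow, rho_cube, map_one]
  set T : Set G := {f 0, f 2, f 4} with hT
  have hTmem : ∀ i, i ∈ ([0, 2, 4] : List ℕ) → φ (swapLetter i) ∈ T := by
    intro i hi
    fin_cases hi
    · exact Or.inl (hg 0 (by norm_num)).symm
    · exact Or.inr (Or.inl (hg 2 (by norm_num)).symm)
    · exact Or.inr (Or.inr (hg 4 (by norm_num)).symm)
  have hTE : ∀ y ∈ T, E * y * E⁻¹ ∈ T := by
    intro y hy
    obtain ⟨i, hi, rfl⟩ : ∃ i ∈ ([0, 2, 4] : List ℕ), φ (swapLetter i) = y := by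
      rcases hy with rfl | rfl | rfl
      · exact ⟨0, by simp, (hg 0 (by norm_num)).symm⟩
      · exact ⟨2, by simp, (hg 2 (by norm_num)).symm⟩
      · exact ⟨4, by simp, (hg 4 (by norm_num)).symm⟩
    obtain ⟨k, hk, hik⟩ := rho_triple i hi
    rw [hEφ, ← map_inv, ← map_mul, ← map_mul, hik]
    exact hTmem k hk
  have hsubT : T ⊆ line D (f 0) (f 2) := by
    rintro y (rfl | rfl | rfl)
    exacts [left_mem_line (s.chain.mem 0), right_mem_line (s.chain.mem 2), s.four_mem L]
  have hline : ∀ y ∈ line D (f 0) (f 2), E * y * E⁻¹ ∈ line D (f 0) (f 2) := by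
    intro y hy
    have h1 := mem_line_conj L.h E hy
    rwa [L.line_eq (s.chain.mem 0) (s.perp_two L) (hsubT (hTE _ (Or.inl rfl))) (hsubT (hTE _ (Or.inr (Or.inl rfl))))
      (fun hh => (s.ne_pairs L).1 (by simpa using hh))] at h1
  have hback : ∀ y, E * y * E⁻¹ ∈ T → y ∈ T := by
    intro y hy
    have h2 := hTE _ (hTE _ hy)
    have : E * (E * (E * y * E⁻¹) * E⁻¹) * E⁻¹ = E ^ 3 * y * (E ^ 3)⁻¹ := by simp [pow_succ, mul_assoc]
    rw [this, hE3, one_mul, inv_one, mul_one] at h2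
    exact h2
  have hcard : (line D (f 0) (f 2) \ T).ncard ≤ 2 → E * z * E⁻¹ = z := by
    intro hc
    have hzS : z ∈ line D (f 0) (f 2) \ T :=
      ⟨s.mem, by rintro (h | h | h); exacts [s.ne0 h, s.ne2 h, s.ne4 h]⟩
    have hS : ∀ y ∈ line D (f 0) (f 2) \ T, E * y * E⁻¹ ∈ line D (f 0) (f 2) \ T :=
      fun y hy => ⟨hline y hy.1, fun hh => hy.2 (hback y hh)⟩
    by_contra hne
    have h1 := hS z hzS
    have h2 := hS _ h1
    have hne2 : E * (E * z * E⁻¹) * E⁻¹ ≠ E * z * E⁻¹ := fun hh => hne (by simpa using hh)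
    have hpair : ({z, E * z * E⁻¹} : Set G) = line D (f 0) (f 2) \ T :=
      Set.eq_of_subset_of_ncard_le (by rintro y (rfl | rfl); exacts [hzS, h1])
        (by rw [Set.ncard_pair (Ne.symm hne)]; exact hc) (Set.toFinite _)
    rw [← hpair] at h2
    rcases h2 with hh | hh
    · apply hne
      have e3 : E ^ 3 * z * (E ^ 3)⁻¹ = E * (E * (E * z * E⁻¹) * E⁻¹) * E⁻¹ := by simp [pow_succ, mul_assoc]
      rw [hh, hE3, one_mul, inv_one, mul_one] at e3
      exact e3.symm
    · exact hne2 hh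
  refine hcard ?_
  have h3 : T.ncard = 3 := Set.ncard_eq_three.2
    ⟨f 0, f 2, f 4, (s.ne_pairs L).1, (s.ne_pairs L).2.1, (s.ne_pairs L).2.2, rfl⟩
  rw [Set.ncard_sdiff hsubT (Set.toFinite _), h3, L.line_card (f 0) (s.chain.mem 0) (f 2) (s.perp_two L)]
  simp [he]

end Sixth

end CfsgLib.Invol.TriSolv
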