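import Cfsg.Agent.Lib.Invol.TriOddCore.Final

/-!
# Fischer, `D_x` solvable: singular lines

If `⟨D_x⟩` is solvable with central odd core, its 2-core moves some member, so the sets
`{w : C(a) ∩ C(b) ⊆ C(w)}` of commuting pairs have at least three points, and a pair of members which are
twins modulo the 2-core shows that these lines are the maximal commuting sets through two points.
-/

set_option autoImplicit false

namespace CfsgLib.Invol.TriSolv

open CfsgLib.Spor.Tri
open scoped commutatorElement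

universe u

variable {G : Type u} [Group G] {D : Set G}

/-- The members commuting with everything that commutes with both `a` and `b`. -/
def line (D : Set G) (a b : G) : Set G := {w | w ∈ D ∧ ∀ x ∈ D, Commute a x → Commute b x → Commute w x}

/-- The members commuting with both. -/
def both (D : Set G) (a b : G) : Set G := {x | x ∈ D ∧ Commute a x ∧ Commute b x}

theorem left_mem_line {a b : G} (ha : a ∈ D) : a ∈ line D a b := ⟨ha, fun _ _ h _ => h⟩

theorem right_mem_line {a b : G} (hb : b ∈ D) : b ∈ line D a b := ⟨hb, fun _ _ _ h => h⟩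

theorem line_comm (a b : G) : line D a b = line D b a := by
  ext w; exact ⟨fun h => ⟨h.1, fun x hx h1 h2 => h.2 x hx h2 h1⟩, fun h => ⟨h.1, fun x hx h1 h2 => h.2 x hx h2 h1⟩⟩

theorem commute_left {a b w : G} (ha : a ∈ D) (hab : Commute a b) (hw : w ∈ line D a b) : Commute w a :=
  hw.2 a ha (Commute.refl a) hab.symm

theorem commute_right {a b w : G} (hb : b ∈ D) (hab : Commute a b) (hw : w ∈ line D a b) : Commute w b :=
  hw.2 b hb hab (Commute.refl b)

theorem commute_line {a b u v : G} (ha : a ∈ D) (hb : b ∈ D) (hab : Commute a b) (hu : u ∈ line D a b)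
    (hv : v ∈ line D a b) : Commute u v :=
  hu.2 v hv.1 (commute_left ha hab hv).symm (commute_right hb hab hv).symm

theorem both_subset {a b u v : G} (hu : u ∈ line D a b) (hv : v ∈ line D a b) : both D a b ⊆ both D u v :=
  fun x hx => ⟨hx.1, hu.2 x hx.1 hx.2.1 hx.2.2, hv.2 x hx.1 hx.2.1 hx.2.2⟩

/-- The setting: a class of 3-transpositions with central radical and perfect derived group. -/
structure Ctx (D : Set G) : Prop where
  h : Hyp D
  rad : CentralRadical G
  perf : ⁅commutator G, commutator G⁆ = commutator G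

theorem both_conj (h : Hyp D) (g a b : G) :
    both D (g * a * g⁻¹) (g * b * g⁻¹) = (fun x => g * x * g⁻¹) '' both D a b := by
  ext x
  constructor
  · rintro ⟨hx, h1, h2⟩
    refine ⟨g⁻¹ * x * g, ⟨by simpa using h.conj g⁻¹ x hx, ?_, ?_⟩, by group⟩
    · exact (Commute.conj_iff g).1 (by rwa [show g * (g⁻¹ * x * g) * g⁻¹ = x by group])
    · exact (Commute.conj_iff g).1 (by rwa [show g * (g⁻¹ * x * g) * g⁻¹ = x by group])
  · rintro ⟨y, ⟨hy, h1, h2⟩, rfl⟩
    exact ⟨h.conj g y hy, (Commute.conj_iff g).2 h1, (Commute.conj_iff g).2 h2⟩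

theorem mem_line_conj (h : Hyp D) (g : G) {a b w : G} (hw : w ∈ line D a b) :
    g * w * g⁻¹ ∈ line D (g * a * g⁻¹) (g * b * g⁻¹) := by
  refine ⟨h.conj g w hw.1, fun x hx h1 h2 => ?_⟩
  obtain ⟨y, ⟨hy, k1, k2⟩, rfl⟩ : x ∈ (fun x => g * x * g⁻¹) '' both D a b := both_conj h g a b ▸ ⟨hx, h1, h2⟩
  exact (Commute.conj_iff g).2 (hw.2 y hy k1 k2)

theorem line_conj (h : Hyp D) (g a b : G) :
    line D (g * a * g⁻¹) (g * b * g⁻¹) = (fun x => g * x * g⁻¹) '' line D a b := by
  ext x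
  constructor
  · intro hx
    have := mem_line_conj h g⁻¹ hx
    simp only [inv_inv, ← mul_assoc, inv_mul_cancel, one_mul] at this
    rw [inv_mul_cancel_right, inv_mul_cancel_right] at this
    exact ⟨g⁻¹ * x * g, this, by group⟩
  · rintro ⟨y, hy, rfl⟩
    exact mem_line_conj h g hy

variable [Finite G]

/-- A subgroup which is solvable and has all pieces of its Fitting subgroup central is commutative. -/
theorem comm_of_cores {H : Type*} [Group H] [Finite H] [Group.IsSolvable H]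
    (h2 : Cfsg.pCore 2 H ≤ Subgroup.center H) (hodd : Cfsg.pPrimeCore 2 H ≤ Subgroup.center H) (u v : H) :
    Commute u v := by
  have hF : Cfsg.fittingSubgroup H ≤ Subgroup.center H := by
    rw [CfsgLib.Coprime.fitting_eq_iSup_pCore]
    refine iSup_le fun p => ?_
    by_cases hp : (p : ℕ) = 2
    · exact hp ▸ h2
    · haveI : (Cfsg.pCore p H).Normal := CfsgLib.Coprime.pCore_normal' p
      haveI : Fact (Nat.Prime (p : ℕ)) := ⟨p.2⟩
      refine le_trans (CfsgLib.Coprime.le_pPrimeCore ?_) hodd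
      obtain ⟨k, hk⟩ := IsPGroup.iff_card.1 (CfsgLib.Coprime.pCore_isPGroup (G := H) p)
      rw [hk]
      exact Nat.Coprime.pow_left k ((Nat.coprime_primes p.2 Nat.prime_two).2 hp)
  have hC : Subgroup.centralizer (Cfsg.fittingSubgroup H : Set H) = ⊤ :=
    Subgroup.centralizer_eq_top_iff_subset.2 hF
  have htop : (⊤ : Subgroup H) ≤ Subgroup.center H := by
    rw [← hC]; exact CfsgLib.Coprime.centralizer_fitting_le.trans hF
  exact (Subgroup.mem_center_iff.1 (htop (Subgroup.mem_top v)) u)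

namespace Ctx

variable (c : Ctx D)
include c

theorem hne (hD2 : ∃ a ∈ D, ∃ b ∈ D, a ≠ b) : commutator G ≠ ⊥ := by
  intro hcb
  obtain ⟨a, ha, b, hb, hab⟩ := hD2
  obtain ⟨g, hg⟩ := c.h.transitive a ha b hb
  apply hab
  have : ⁅g, a⁆ = 1 := Subgroup.mem_bot.1 (hcb ▸ Subgroup.commutator_mem_commutator (Subgroup.mem_top g)
    (Subgroup.mem_top a))
  rw [commutatorElement_def, mul_inv_eq_one] at this
  rw [← hg, this]

theorem ncard_both {a b a' b' : G} (ha : a ∈ D) (hb : b ∈ perp D a) (ha' : a' ∈ D) (hb' : b' ∈ perp D a') :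
    (both D a b).ncard = (both D a' b').ncard := by
  obtain ⟨g, rfl, rfl⟩ := conj2_commuting c.h c.rad c.perf ha hb ha' hb'
  rw [both_conj c.h, Set.ncard_image_of_injective _ fun x y e => by simpa using e]

theorem line_eq {a b u v : G} (ha : a ∈ D) (hb : b ∈ perp D a) (hu : u ∈ line D a b) (hv : v ∈ line D a b)
    (huv : u ≠ v) : line D u v = line D a b := by
  have hp : v ∈ perp D u := ⟨hv.1, huv.symm, commute_line ha hb.1 hb.2.2 hu hv⟩
  have e : both D a b = both D u v :=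
    Set.eq_of_subset_of_ncard_le (both_subset hu hv) (c.ncard_both hu.1 hp ha hb).le (Set.toFinite _)
  ext w
  exact ⟨fun h => ⟨h.1, fun x hx h1 h2 =>
      have hh : x ∈ both D u v := e ▸ ⟨hx, h1, h2⟩
      h.2 x hx hh.2.1 hh.2.2⟩,
    fun h => ⟨h.1, fun x hx h1 h2 =>
      have hh : x ∈ both D a b := e.symm ▸ ⟨hx, h1, h2⟩
      h.2 x hx hh.2.1 hh.2.2⟩⟩

theorem line_eq_left {a b v : G} (ha : a ∈ D) (hb : b ∈ perp D a) (hv : v ∈ line D a b) (hva : v ≠ a) :
    line D a v = line D a b := c.line_eq ha hb (left_mem_line ha) hv hva.symm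

end Ctx

/-- The local group at `x` is solvable with central odd core. -/
structure Loc (D : Set G) (x : G) : Prop extends Ctx D where
  mem : x ∈ D
  two : ∃ a ∈ D, ∃ b ∈ D, a ≠ b
  solv : Group.IsSolvable ↥(Subgroup.closure (perp D x))
  odd : Cfsg.oddCore ↥(Subgroup.closure (perp D x)) ≤ Subgroup.center ↥(Subgroup.closure (perp D x))

namespace Loc

variable {x : G} (L : Loc D x)
include L

set_option quotPrecheck false
local notation "K" => ↥(Subgroup.closure (perp D x))
local notation "Dx" => (Subtype.val ⁻¹' perp D x : Set ↥(Subgroup.closure (perp D x)))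

theorem hypK : Hyp Dx :=
  CfsgLib.Invol.TriOddCore.hyp_local L.h L.rad L.perf L.mem

theorem not_all_commute : ∃ u ∈ perp D x, ∃ v ∈ perp D x, ¬ Commute u v := by
  by_contra hcon
  push Not at hcon
  have hone : ∀ u ∈ perp D x, ∀ v ∈ perp D x, u = v := by
    intro u hu v hv
    rcases (perp_connected L.h L.rad L.perf L.mem hu hv).cases_head with e | ⟨w, hw, -⟩
    · exact e
    · exact absurd (hcon u hw.1 w hw.2.1) hw.2.2
  obtain ⟨b, hb, hbx, hxb⟩ := exists_commute_ne L.h L.perf (L.hne L.two) L.mem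
  have hbp : b ∈ perp D x := ⟨hb, hbx, hxb⟩
  have hxp : x ∈ perp D b := ⟨L.mem, hbx.symm, hxb.symm⟩
  have hD : ∀ y ∈ D, y = x ∨ y = b := by
    intro y hy
    have hr := commuting_connected L.h L.perf L.mem hy
    induction hr with
    | refl => exact Or.inl rfl
    | @tail p q _ hpq ih =>
      rcases ih hpq.1 with rfl | rfl
      · by_cases e : q = p
        · exact Or.inl e
        · exact Or.inr (hone q ⟨hpq.2.1, e, hpq.2.2⟩ b hbp)
      · by_cases e : q = p
        · exact Or.inr e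
        · left
          obtain ⟨g, hg⟩ := L.h.transitive x L.mem p hb
          have hq : q ∈ perp D (g * x * g⁻¹) := by rw [hg]; exact ⟨hpq.2.1, e, hpq.2.2⟩
          have hx' : x ∈ perp D (g * x * g⁻¹) := by rw [hg]; exact hxp
          rw [L.h.perp_conj] at hq hx'
          obtain ⟨q', hq', rfl⟩ := hq
          obtain ⟨x', hx'', hxe⟩ := hx'
          rw [hone q' hq' x' hx'']
          exact hxe
  obtain ⟨g, hg⟩ := L.h.transitive x L.mem b hb
  have hg' : g ∈ Subgroup.centralizer ({x} : Set G) := by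
    have hle : Subgroup.closure D ≤ Subgroup.centralizer ({x} : Set G) := by
      rw [Subgroup.closure_le]
      intro y hy
      rw [SetLike.mem_coe, Subgroup.mem_centralizer_singleton_iff]
      rcases hD y hy with rfl | rfl
      · rfl
      · exact hxb.symm.eq
    exact hle (L.h.gen ▸ Subgroup.mem_top g)
  rw [Subgroup.mem_centralizer_singleton_iff] at hg'
  exact hbx (by rw [← hg, hg', mul_inv_cancel_right])

theorem exists_two_twin : ∃ d : K, ∃ v : K, d ∈ Dx ∧ v ∈ Dx ∧ v ≠ d ∧ d⁻¹ * v ∈ Cfsg.pCore 2 K := by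
  haveI := L.solv
  haveI : (Cfsg.pCore 2 K).Normal := CfsgLib.Coprime.pCore_normal' 2
  by_contra hcon
  push Not at hcon
  obtain ⟨u, hu, v, hv, huv⟩ := L.not_all_commute
  have h2 : Cfsg.pCore 2 K ≤ Subgroup.center K := by
    refine L.hypK.le_center_of_commute fun d hd q hq => ?_
    by_contra hdq
    refine hcon d (q * d * q⁻¹) hd (L.hypK.conj q d hd) (fun e => hdq ?_) (L.hypK.mul_conj_mem hd hq)
    show d * q = q * d
    rw [mul_inv_eq_iff_eq_mul] at e
    exact e.symm
  exact huv (congrArg Subtype.val (comm_of_cores h2 L.odd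
    ⟨u, Subgroup.subset_closure hu⟩ ⟨v, Subgroup.subset_closure hv⟩).eq)

theorem mem_line_of_core {d v : K} (hd : d ∈ Dx) (hv : v ∈ Dx) (hdv : d⁻¹ * v ∈ Cfsg.pCore 2 K) :
    (v : G) ∈ line D x d := by
  refine ⟨hv.1, fun y hy hxy hdy => ?_⟩
  by_cases e : y = x
  · rw [e]; exact hv.2.2.symm
  · have hyp : y ∈ perp D x := ⟨hy, e, hxy⟩
    have := ((L.hypK.nbhd_iff_two_core hd hv).2 hdv ⟨y, Subgroup.subset_closure hyp⟩ hyp).2 (Subtype.ext hdy)
    exact congrArg Subtype.val this.eq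

theorem exists_third : ∃ d ∈ perp D x, ∃ v ∈ line D x d, v ≠ x ∧ v ≠ d := by
  obtain ⟨d, v, hd, hv, hne, hdv⟩ := L.exists_two_twin
  exact ⟨d, hd, v, L.mem_line_of_core hd hv hdv, hv.2.1, fun e => hne (Subtype.ext e)⟩

theorem not_mem_core {d : K} (hd : d ∈ Dx) : d ∉ Cfsg.pCore 2 K := by
  haveI : (Cfsg.pCore 2 K).Normal := CfsgLib.Coprime.pCore_normal' 2
  intro hdQ
  obtain ⟨u, hu, v, hv, huv⟩ := L.not_all_commute
  have hmem : ∀ y : G, ∀ hy : y ∈ perp D x,
      (⟨y, Subgroup.subset_closure hy⟩ : K) ∈ Cfsg.pCore 2 K := by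
    intro y hy
    obtain ⟨g, hg⟩ := L.hypK.transitive d hd ⟨y, Subgroup.subset_closure hy⟩ hy
    exact hg ▸ Subgroup.Normal.conj_mem inferInstance d hdQ g
  exact huv (congrArg Subtype.val (commute_of_mem_two_group L.hypK (CfsgLib.Coprime.pCore_isPGroup 2)
    (a := ⟨u, Subgroup.subset_closure hu⟩) (b := ⟨v, Subgroup.subset_closure hv⟩) hu hv (hmem u hu) (hmem v hv)).eq)

theorem commute_of_mk {u v : K} (hu : u ∈ Dx) (hv : v ∈ Dx) [(Cfsg.pCore 2 K).Normal]
    (h : Commute (QuotientGroup.mk' (Cfsg.pCore 2 K) u) (QuotientGroup.mk' (Cfsg.pCore 2 K) v)) : Commute u v := by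
  by_contra hn
  refine hn (L.hypK.commute_of_mem_two_core hu hv ?_)
  have h3 := L.hypK.cube hu hv hn
  have h2 : (u * v) ^ 2 ∈ Cfsg.pCore 2 K := by
    rw [← QuotientGroup.eq_one_iff, ← QuotientGroup.mk'_apply, map_pow, map_mul, h.mul_pow, ← map_pow,
      ← map_pow, pow_two, pow_two, L.hypK.mul_self hu, L.hypK.mul_self hv, map_one, one_mul]
  rw [show u * v = ((u * v) ^ 2) ^ 2 by rw [← pow_mul, pow_succ, h3, one_mul]]
  exact pow_mem h2 2

theorem hyp_quotient [(Cfsg.pCore 2 K).Normal] :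
    Hyp (QuotientGroup.mk' (Cfsg.pCore 2 K) '' Dx) := by
  set f := QuotientGroup.mk' (Cfsg.pCore 2 K)
  have hfs : Function.Surjective f := QuotientGroup.mk'_surjective _
  have hK := L.hypK
  refine ⟨⟨?_, ?_⟩, ?_, ?_, ?_⟩
  · rintro _ ⟨a, ha, rfl⟩
    refine orderOf_eq_prime (by rw [← map_pow, pow_two, hK.mul_self ha, map_one]) fun e => ?_
    exact L.not_mem_core ha ((QuotientGroup.eq_one_iff a).1 e)
  · rintro _ ⟨a, ha, rfl⟩ _ ⟨b, hb, rfl⟩
    rw [← map_mul, ← map_pow, ← map_pow]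
    exact (hK.set.2 a ha b hb).imp (fun e => by rw [e, map_one]) (fun e => by rw [e, map_one])
  · rintro q _ ⟨a, ha, rfl⟩
    obtain ⟨g, rfl⟩ := hfs q
    exact ⟨_, hK.conj g a ha, by simp⟩
  · rintro _ ⟨a, ha, rfl⟩ _ ⟨b, hb, rfl⟩
    obtain ⟨g, hg⟩ := hK.transitive a ha b hb
    exact ⟨f g, by rw [← hg]; simp⟩
  · rw [← MonoidHom.map_closure, hK.gen, Subgroup.map_top_of_surjective f hfs]

/-- Two non-commuting members at `x` which are twins outside the line of the first. -/
theorem exists_twin : ∃ d ∈ perp D x, ∃ w ∈ perp D x, ¬ Commute d w ∧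
    ∀ y ∈ D, Commute x y → Commute d y → y ∉ line D x d → Commute w y := by
  haveI := L.solv
  haveI : (Cfsg.pCore 2 K).Normal := CfsgLib.Coprime.pCore_normal' 2
  set f := QuotientGroup.mk' (Cfsg.pCore 2 K) with hf
  set N := Cfsg.pPrimeCore 2 (K ⧸ Cfsg.pCore 2 K) with hN
  haveI : N.Normal := (inferInstance : (Cfsg.pPrimeCore 2 _).Normal)
  have hodd : (Nat.card N).Coprime 2 := CfsgLib.Coprime.pPrimeCore_coprime Nat.prime_two
  have hQ := L.hyp_quotient
  obtain ⟨u, hu, v, hv, huv⟩ := L.not_all_commute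
  by_cases hc : N ≤ Subgroup.center (K ⧸ Cfsg.pCore 2 K)
  · exfalso
    haveI : Fact (Nat.Prime 2) := ⟨Nat.prime_two⟩
    have h2 : Cfsg.pCore 2 (K ⧸ Cfsg.pCore 2 K) ≤ Subgroup.center _ := by
      rw [CfsgLib.Coprime.pCore_quotient_eq_bot]; exact bot_le
    exact huv (congrArg Subtype.val (L.commute_of_mk (u := ⟨u, Subgroup.subset_closure hu⟩)
      (v := ⟨v, Subgroup.subset_closure hv⟩) hu hv (comm_of_cores h2 hc _ _)).eq)
  · obtain ⟨_, ⟨d, hd, rfl⟩, n, hn, hdn⟩ : ∃ e ∈ f '' Dx, ∃ n ∈ N, ¬ Commute e n := by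
      by_contra hcon
      push Not at hcon
      exact hc (hQ.le_center_of_commute hcon)
    obtain ⟨w, hw, hfw⟩ := hQ.conj n _ ⟨d, hd, rfl⟩
    have hne : f d ≠ f w := fun e => hdn (by
      rw [← e] at hfw
      show f d * n = n * f d
      rw [eq_mul_inv_iff_mul_eq] at hfw
      exact hfw)
    have hmem : f d * f w ∈ N := by
      have := hQ.mul_conj_mem (N := N) (d := f d) ⟨d, hd, rfl⟩ hn
      rwa [hQ.inv_eq ⟨d, hd, rfl⟩, ← hfw] at this
    have hsub := CfsgLib.Invol.TriOddCore.perp_subset_of_odd hQ hodd ⟨d, hd, rfl⟩ ⟨w, hw, rfl⟩ hmem hne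
    refine ⟨d, hd, w, hw, fun hdw => ?_, fun y hy hxy hdy hyl => ?_⟩
    · have hsq : (f d * f w) ^ 2 = 1 := by
        rw [← map_mul, ← map_pow, (L.hypK.commute_iff_sq hd hw).1 (Subtype.ext hdw), map_one]
      have h1 := orderOf_eq_one_iff.1 (Nat.eq_one_of_dvd_coprimes hodd (Subgroup.orderOf_dvd_natCard N hmem)
        (orderOf_dvd_of_pow_eq_one hsq))
      exact hne (by rw [eq_inv_of_mul_eq_one_left h1, hQ.inv_eq ⟨w, hw, rfl⟩])
    · have hyx : y ≠ x := fun e => hyl (by rw [e]; exact left_mem_line L.mem)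
      have hyp : y ∈ perp D x := ⟨hy, hyx, hxy⟩
      set y' : K := ⟨y, Subgroup.subset_closure hyp⟩ with hy'
      have hfy : f y' ∈ perp (f '' Dx) (f d) := by
        refine ⟨⟨y', hyp, rfl⟩, fun e => hyl (L.mem_line_of_core (v := y') hd hyp ?_), ?_⟩
        · rw [← QuotientGroup.eq]; exact e.symm
        · exact ((show Commute d y' from Subtype.ext hdy).map f)
      exact congrArg Subtype.val (L.commute_of_mk hw (v := y') hyp (hsub hfy).2.2).eq

/-- The lines are the sets of members commuting with two of their points. -/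
theorem line_eq_both {a b : G} (ha : a ∈ D) (hb : b ∈ perp D a) : line D a b = both D a b := by
  refine Set.Subset.antisymm (fun w hw => ⟨hw.1, (commute_left ha hb.2.2 hw).symm,
    (commute_right hb.1 hb.2.2 hw).symm⟩) ?_
  suffices ∃ a₀ b₀, a₀ ∈ D ∧ b₀ ∈ perp D a₀ ∧ both D a₀ b₀ ⊆ line D a₀ b₀ by
    obtain ⟨a₀, b₀, ha₀, hb₀, hs⟩ := this
    obtain ⟨g, rfl, rfl⟩ := conj2_commuting L.h L.rad L.perf ha₀ hb₀ ha hb
    rw [both_conj L.h, line_conj L.h]
    exact Set.image_mono hs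
  obtain ⟨d, hd, w, hw, hdw, htw⟩ := L.exists_twin
  refine ⟨x, d, L.mem, hd, fun y ⟨hy, hxy, hdy⟩ => ?_⟩
  by_contra hyl
  have hyd : y ≠ d := fun e => hyl (by rw [e]; exact right_mem_line hd.1)
  have hyp : y ∈ perp D d := ⟨hy, hyd, hdy⟩
  obtain ⟨d₀, hd₀, v₀, hv₀, hv1, hv2⟩ := L.exists_third
  obtain ⟨g, g1, g2⟩ := conj2_commuting L.h L.rad L.perf L.mem hd₀ hd.1 hyp
  have hz := mem_line_conj L.h g hv₀
  rw [g1, g2] at hz
  set z := g * v₀ * g⁻¹ with hzdef
  have hzd : z ≠ d := fun e => hv1 (by rw [← g1, hzdef] at e; simpa using e)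
  have hzy : z ≠ y := fun e => hv2 (by rw [← g2, hzdef] at e; simpa using e)
  have hxz : Commute x z := (hz.2 x L.mem hd.2.2.symm hxy.symm).symm
  have hdz : Commute d z := (commute_left hd.1 hdy hz).symm
  have hzl : z ∉ line D x d := fun hzl => hyl (by
    have e1 := L.line_eq L.mem hd hzl (right_mem_line hd.1) hzd
    have e2 := L.line_eq hd.1 hyp hz (left_mem_line hd.1) hzd
    rw [← e1, e2]
    exact right_mem_line hy)
  have hwy := htw y hy hxy hdy hyl
  have hwz := htw z hz.1 hxz hdz hzl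
  have e3 := L.line_eq hd.1 hyp (right_mem_line hy) hz hzy.symm
  have hdl : d ∈ line D y z := e3 ▸ left_mem_line hd.1
  exact hdw (hdl.2 w hw.1 hwy.symm hwz.symm)

end Loc

end CfsgLib.Invol.TriSolv
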