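import Cfsg.Agent.Lib.Invol.TriSolv.Axiom

/-!
# Fischer, `D_x` solvable: an integrality condition

The projection to an eigenspace of the commuting graph commutes with conjugation by a member, so the trace
of their product is an integer: `s + t` divides `s t (t + 1)` for `s = 2 ^ e`, `t + 1 = 3 ^ j`.
-/

set_option autoImplicit false

namespace CfsgLib.Invol.TriSolv

open CfsgLib.Spor.Tri Matrix

universe u

section Matrices

variable {V : Type*} [Fintype V] [DecidableEq V]

/-- The adjacency matrix over the reals. -/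
noncomputable def adjMat (Adj : V → V → Prop) : Matrix V V ℝ := by
  classical exact Matrix.of fun a b => if Adj a b then 1 else 0

/-- The matrix of a permutation. -/
noncomputable def permMat (σ : V → V) : Matrix V V ℝ := Matrix.of fun a b => if σ a = b then 1 else 0

/-- The all-one matrix. -/
noncomputable def allOne (V : Type*) : Matrix V V ℝ := Matrix.of fun _ _ => 1

theorem mul_allOne_apply (M : Matrix V V ℝ) (a b : V) : (M * allOne V) a b = ∑ z, M a z := by
  simp [allOne, Matrix.mul_apply]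

theorem allOne_mul_apply (M : Matrix V V ℝ) (a b : V) : (allOne V * M) a b = ∑ z, M z b := by
  simp [allOne, Matrix.mul_apply]

theorem permMat_mul_apply (σ : V → V) (M : Matrix V V ℝ) (a b : V) : (permMat σ * M) a b = M (σ a) b := by
  simp [permMat, Matrix.mul_apply]

theorem mul_permMat_apply {σ : V → V} (hσ : Function.Involutive σ) (M : Matrix V V ℝ) (a b : V) :
    (M * permMat σ) a b = M a (σ b) := by
  simp only [permMat, Matrix.mul_apply, Matrix.of_apply, mul_ite, mul_one, mul_zero]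
  rw [Finset.sum_eq_single (σ b)]
  · rw [if_pos (hσ b)]
  · intro z _ hz
    rw [if_neg fun e => hz (by rw [← e, hσ z])]
  · intro h; exact absurd (Finset.mem_univ _) h

/-- The trace condition for a graph with parameters of a quadrangle and an automorphism of order two
moving every point to a non-neighbour or to itself. -/
theorem dvd_of_graph (Adj : V → V → Prop) [DecidableRel Adj] (hsymm : ∀ a b, Adj a b → Adj b a)
    (hirr : ∀ a, ¬ Adj a a) (s m : ℕ) (hs : 1 ≤ s) (hm : 1 ≤ m)
    (hk : ∀ a, (Finset.univ.filter fun z => Adj a z).card = s * m)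
    (hla : ∀ a b, Adj a b → (Finset.univ.filter fun z => Adj a z ∧ Adj z b).card = s - 1)
    (hmu : ∀ a b, a ≠ b → ¬ Adj a b → (Finset.univ.filter fun z => Adj a z ∧ Adj z b).card = m)
    (σ : V → V) (hσ : Function.Involutive σ) (hinv : ∀ a b, Adj a b → Adj (σ a) (σ b))
    (hmove : ∀ a, ¬ Adj (σ a) a) (hfix : (Finset.univ.filter fun a => σ a = a).card = 1 + s * m) :
    ((s + (m - 1) : ℕ) : ℤ) ∣ ((s * (m - 1) * m : ℕ) : ℤ) := by
  classical
  set v : ℝ := (Fintype.card V : ℝ) with hv
  have hV : 0 < Fintype.card V := lt_of_lt_of_le (by omega) (hfix.ge.trans (Finset.card_le_univ _))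
  have hv0 : v ≠ 0 := by rw [hv]; exact_mod_cast hV.ne'
  have hm1 : ((m - 1 : ℕ) : ℝ) = (m : ℝ) - 1 := by rw [Nat.cast_sub hm, Nat.cast_one]
  have hs1 : ((s - 1 : ℕ) : ℝ) = (s : ℝ) - 1 := by rw [Nat.cast_sub hs, Nat.cast_one]
  set A := adjMat Adj with hA
  have hAapp : ∀ a b, A a b = if Adj a b then (1 : ℝ) else 0 := fun a b => by
    simp only [hA, adjMat, Matrix.of_apply]; split_ifs <;> rfl
  have hrow : ∀ a, ∑ z, A a z = ((s * m : ℕ) : ℝ) := fun a => by
    simp only [hAapp, Finset.sum_boole, hk a]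
  have hcol : ∀ b, ∑ z, A z b = ((s * m : ℕ) : ℝ) := fun b => by
    simp only [hAapp, Finset.sum_boole]
    rw [← hk b]
    congr 2
    ext z
    simp only [Finset.mem_filter, Finset.mem_univ, true_and]
    exact ⟨hsymm _ _, hsymm _ _⟩
  set J := allOne V with hJ
  have hAJ : A * J = ((s * m : ℕ) : ℝ) • J := by
    ext a b; rw [hJ, mul_allOne_apply, hrow]; simp [allOne]
  have hJA : J * A = ((s * m : ℕ) : ℝ) • J := by
    ext a b; rw [hJ, allOne_mul_apply, hcol]; simp [allOne]
  have hJJ : J * J = v • J := by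
    ext a b; rw [hJ, mul_allOne_apply]; simp [allOne, hv]
  have hAA : A * A = ((s * m : ℕ) : ℝ) • (1 : Matrix V V ℝ) + ((s - 1 : ℕ) : ℝ) • A
      + (m : ℝ) • (J - 1 - A) := by
    ext a b
    have e : (A * A) a b = ((Finset.univ.filter fun z => Adj a z ∧ Adj z b).card : ℝ) := by
      rw [Matrix.mul_apply, ← Finset.sum_boole]
      refine Finset.sum_congr rfl fun z _ => ?_
      simp only [hAapp]
      split_ifs <;> simp_all
    rw [e]
    simp only [Matrix.add_apply, Matrix.smul_apply, Matrix.sub_apply, Matrix.one_apply, hJ, allOne, Matrix.of_apply,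
      hAapp, smul_eq_mul]
    by_cases hab : a = b
    · subst hab
      rw [if_pos rfl, if_neg (hirr a)]
      have : (Finset.univ.filter fun z => Adj a z ∧ Adj z a) = Finset.univ.filter fun z => Adj a z := by
        ext z; simp only [Finset.mem_filter, Finset.mem_univ, true_and]; exact ⟨And.left, fun h => ⟨h, hsymm _ _ h⟩⟩
      rw [this, hk a]
      ring
    · rw [if_neg hab]
      by_cases h : Adj a b
      · rw [if_pos h, hla a b h]; ring
      · rw [if_neg h, hmu a b hab h]; ring
  obtain ⟨a₀⟩ : Nonempty V := Fintype.card_pos_iff.1 hV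
  have hvc : (m : ℝ) * v = (m : ℝ) * ((s : ℝ) + 1) * ((s : ℝ) * ((m : ℝ) - 1) + 1) := by
    have h1 := congrArg (· * J) hAA
    simp only [Matrix.mul_assoc, Matrix.add_mul, Matrix.sub_mul, Matrix.smul_mul, Matrix.one_mul, Matrix.mul_smul,
      hAJ, hJJ, smul_smul] at h1
    have h2 := congrFun (congrFun h1 a₀) a₀
    simp only [Matrix.add_apply, Matrix.smul_apply, Matrix.sub_apply, hJ, allOne, Matrix.of_apply, smul_eq_mul,
      Nat.cast_mul, hs1] at h2
    linear_combination -h2
  have hvv : v = ((s : ℝ) + 1) * ((s : ℝ) * ((m : ℝ) - 1) + 1) :=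
    mul_left_cancel₀ (Nat.cast_ne_zero.2 (by omega : m ≠ 0)) (hvc.trans (mul_assoc _ _ _))
  set r : ℝ := ((s + (m - 1) : ℕ) : ℝ) with hr
  have hr' : r = (s : ℝ) + (m : ℝ) - 1 := by rw [hr, Nat.cast_add, hm1]; ring
  have hr0 : r ≠ 0 := by rw [hr]; exact_mod_cast (show s + (m - 1) ≠ 0 by omega)
  set E : Matrix V V ℝ := r⁻¹ • (A + (m : ℝ) • (1 : Matrix V V ℝ) - ((((s * m : ℕ) : ℝ) + m) / v) • J) with hE
  have hEE : E * E = E := by
    simp only [hE, Matrix.smul_mul, Matrix.mul_smul, Matrix.add_mul, Matrix.mul_add, Matrix.sub_mul, Matrix.mul_sub,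
      Matrix.one_mul, Matrix.mul_one, hAA, hAJ, hJA, hJJ, smul_add, smul_sub, smul_smul]
    match_scalars <;> field_simp <;> push_cast [hr', hs1] <;> (first | ring1 | linear_combination hvv)
  set P := permMat σ with hP
  have hinv' : ∀ a b, A (σ a) (σ b) = A a b := fun a b => by
    rw [hAapp, hAapp]
    by_cases h : Adj a b
    · rw [if_pos h, if_pos (hinv a b h)]
    · rw [if_neg h, if_neg fun h' => h (by have := hinv _ _ h'; rwa [hσ, hσ] at this)]
  have hPA : P * A = A * P := by
    ext a b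
    rw [hP, permMat_mul_apply, mul_permMat_apply hσ, ← hinv' a (σ b), hσ b]
  have hPJ : P * J = J := by ext a b; rw [hP, permMat_mul_apply]; simp [hJ, allOne]
  have hJP : J * P = J := by ext a b; rw [hP, mul_permMat_apply hσ]; simp [hJ, allOne]
  have hPP : P * P = 1 := by
    ext a b; rw [hP, permMat_mul_apply]; simp [permMat, Matrix.one_apply, hσ a]
  have hPE : P * E = E * P := by
    simp only [hE, Matrix.smul_mul, Matrix.mul_smul, Matrix.add_mul, Matrix.mul_add, Matrix.sub_mul, Matrix.mul_sub,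
      Matrix.one_mul, Matrix.mul_one, hPA, hPJ, hJP]
  set Fm : Matrix V V ℝ := (1 / 2 : ℝ) • (E + P * E) with hF
  have hFF : Fm * Fm = Fm := by
    have h1 : E * (P * E) = P * E := by rw [← Matrix.mul_assoc, ← hPE, Matrix.mul_assoc, hEE]
    have h2 : (P * E) * E = P * E := by rw [Matrix.mul_assoc, hEE]
    have h3 : (P * E) * (P * E) = E := by
      rw [Matrix.mul_assoc, h1, ← Matrix.mul_assoc, hPP, Matrix.one_mul]
    simp only [hF, Matrix.smul_mul, Matrix.mul_smul, Matrix.add_mul, Matrix.mul_add, hEE, h1, h2, h3, smul_add,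
      smul_smul]
    match_scalars <;> ring
  obtain ⟨n₀, hn₀⟩ := CfsgLib.Invol.TriOddCore.trace_idempotent E hEE
  obtain ⟨n₁, hn₁⟩ := CfsgLib.Invol.TriOddCore.trace_idempotent Fm hFF
  have hPA0 : (P * A).trace = 0 := by
    simp only [Matrix.trace, Matrix.diag, hP, permMat_mul_apply, hAapp]
    exact Finset.sum_eq_zero fun a _ => if_neg (hmove a)
  have hP1 : P.trace = ((1 + s * m : ℕ) : ℝ) := by
    simp only [Matrix.trace, Matrix.diag, hP, permMat, Matrix.of_apply, Finset.sum_boole, hfix]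
  have hJt : J.trace = v := by simp [hJ, allOne, Matrix.trace, Matrix.diag, hv]
  have htr : (P * E).trace = r⁻¹ * ((m : ℝ) * ((1 + s * m : ℕ) : ℝ) - (((s * m : ℕ) : ℝ) + m)) := by
    simp only [hE, Matrix.mul_smul, Matrix.mul_add, Matrix.mul_sub, Matrix.mul_one, hPJ, Matrix.trace_smul,
      Matrix.trace_add, Matrix.trace_sub, hPA0, hP1, hJt, smul_eq_mul]
    field_simp
    ring
  have key : ((2 * (n₁ : ℤ) - n₀ : ℤ) : ℝ) * r = (((s * (m - 1) * m : ℕ) : ℤ) : ℝ) := by
    have h1 : Fm.trace = (1 / 2 : ℝ) * (E.trace + (P * E).trace) := by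
      rw [hF, Matrix.trace_smul, Matrix.trace_add, smul_eq_mul]
    rw [hn₁, hn₀, htr] at h1
    push_cast [hm1] at h1 ⊢
    field_simp at h1
    linear_combination h1
  refine ⟨2 * (n₁ : ℤ) - n₀, ?_⟩
  have : (((s * (m - 1) * m : ℕ) : ℤ) : ℝ) =
      ((((s + (m - 1) : ℕ) : ℤ) * (2 * (n₁ : ℤ) - n₀) : ℤ) : ℝ) := by
    rw [← key, hr]; push_cast; ring
  exact_mod_cast this

end Matrices

variable {G : Type u} [Group G] [Finite G] {D : Set G}

theorem Geo.dvd_of_trace {e j : ℕ} (L : Geo D e j) :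
    2 ^ e + (3 ^ j - 1) ∣ 2 ^ e * (3 ^ j - 1) * 3 ^ j := by
  classical
  haveI : Fintype G := Fintype.ofFinite G
  haveI : Fintype ↥D := Fintype.ofFinite _
  obtain ⟨d, hd, d', -, -⟩ := L.two
  have hfil : ∀ (P : G → Prop) [DecidablePred P], (∀ z, P z → z ∈ D) →
      (Finset.univ.filter fun z : ↥D => P z).card = {z | P z}.ncard := by
    intro P _ hP
    rw [← Set.ncard_coe_finset, ← Set.ncard_image_of_injective _ Subtype.val_injective]
    congr 1
    ext z
    constructor
    · rintro ⟨z', hz', rfl⟩; simpa using hz'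
    · intro hz; exact ⟨⟨z, hP z hz⟩, by simpa using hz, rfl⟩
  have hcomm : ∀ {a b : G}, a ∈ D → b ∈ perp D a → a ∈ perp D b := fun ha hb => ⟨ha, hb.2.1.symm, hb.2.2.symm⟩
  refine Int.natCast_dvd_natCast.1 (dvd_of_graph (V := ↥D) (fun a b => (b : G) ∈ perp D a)
    (fun a b hab => hcomm a.2 hab) (fun a ha => ha.2.1 rfl) (2 ^ e) (3 ^ j) Nat.one_le_two_pow
    (Nat.one_le_pow _ _ (by norm_num)) ?_ ?_ ?_ (fun a => ⟨d * a * d, L.h.conj_mem' hd a.2⟩) ?_ ?_ ?_ ?_)
  · intro a
    rw [hfil (fun z => z ∈ perp D a) (fun z hz => hz.1)]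
    exact L.perp_card a a.2
  · intro a b hab
    rw [hfil (fun z => z ∈ perp D a ∧ (b : G) ∈ perp D z) (fun z hz => hz.1.1)]
    have e1 : {z | z ∈ perp D (a : G) ∧ (b : G) ∈ perp D z} = line D (a : G) b \ {(a : G), (b : G)} := by
      ext z
      constructor
      · rintro ⟨h1, h2⟩
        refine ⟨(L.mem_line_iff a.2 hab).2 ⟨h1.1, h1.2.2, h2.2.2.symm⟩, ?_⟩
        rintro (e | e)
        exacts [h1.2.1 e, h2.2.1 (Eq.symm e)]
      · rintro ⟨h1, h2⟩
        simp only [Set.mem_insert_iff, Set.mem_singleton_iff, not_or] at h2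
        exact ⟨L.line_subset_perp a.2 hab h1 h2.1,
          ⟨b.2, fun e => h2.2 e.symm, (commute_right b.2 hab.2.2 h1)⟩⟩
    rw [e1, Set.ncard_sdiff' ?_ (Set.toFinite _), L.line_card a a.2 b hab,
      Set.ncard_pair (fun e => hab.2.1 e.symm)]
    · omega
    · rintro z (rfl | rfl)
      exacts [left_mem_line a.2, right_mem_line b.2]
  · intro a b hab hnab
    rw [hfil (fun z => z ∈ perp D a ∧ (b : G) ∈ perp D z) (fun z hz => hz.1.1)]
    have hn : ¬ Commute (a : G) b := fun hc => hnab ⟨b.2, fun e => hab (Subtype.ext e.symm), hc⟩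
    rw [← L.both_card a.2 b.2 hn]
    congr 1
    ext z
    exact ⟨fun ⟨h1, h2⟩ => ⟨h1.1, h1.2.2, h2.2.2.symm⟩,
      fun h => ⟨L.perp_of h.1 h.2.1 (L.ne_of_both hn h).1,
        ⟨b.2, (L.ne_of_both hn h).2.symm, h.2.2.symm⟩⟩⟩
  · intro a
    exact Subtype.ext (L.h.conj_conj hd)
  · intro a b hab
    refine ⟨L.h.conj_mem' hd b.2, fun e => hab.2.1 ?_, (L.h.commute_conj hd).2 hab.2.2⟩
    have e' : d * (b : G) * d = d * (a : G) * d := e
    exact mul_left_cancel (mul_right_cancel e')
  · intro a ha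
    have ha' : (a : G) ∈ perp D (d * a * d) := ha
    by_cases hc : Commute d (a : G)
    · exact ha'.2.1 (L.h.conj_fix hd hc).symm
    · have h1 := ha'.2.2
      rw [L.h.braid hd a.2 hc] at h1
      exact L.h.third_not_commute a.2 hd (fun h => hc h.symm) h1.symm
  · have e1 : (Finset.univ.filter fun a : ↥D => (⟨d * a * d, L.h.conj_mem' hd a.2⟩ : ↥D) = a) =
        Finset.univ.filter fun a : ↥D => Commute d (a : G) := by
      ext a
      simp only [Finset.mem_filter, Finset.mem_univ, true_and, Subtype.ext_iff]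
      exact ⟨fun e => by by_contra hc; exact L.h.third_ne hd a.2 hc e, fun hc => L.h.conj_fix hd hc⟩
    rw [e1]
    have e2 : (Finset.univ.filter fun a : ↥D => Commute d (a : G)) =
        Finset.univ.filter fun a : ↥D => (a : G) ∈ insert d (perp D d) := by
      ext a
      simp only [Finset.mem_filter, Finset.mem_univ, true_and, Set.mem_insert_iff]
      constructor
      · intro hc
        by_cases e : (a : G) = d
        · exact Or.inl e
        · exact Or.inr ⟨a.2, e, hc⟩
      · rintro (e | e)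
        exacts [e ▸ Commute.refl _, e.2.2]
    rw [e2, hfil (fun z => z ∈ insert d (perp D d)) (fun z hz => by rcases hz with rfl | hz; exacts [hd, hz.1]),
      show {z | z ∈ insert d (perp D d)} = insert d (perp D d) from rfl,
      Set.ncard_insert_of_notMem (fun h => h.2.1 rfl) (Set.toFinite _), L.perp_card d hd]
    omega

end CfsgLib.Invol.TriSolv
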