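import Cfsg.Agent.Lib.Invol.TriSolv.Translations
import Cfsg.Agent.Lib.Invol.TriSolv.Trace
import Mathlib.NumberTheory.Multiplicity

/-!
# Fischer, `D_x` solvable: the parameters

Either three lines pass through a point and a line has 3 or 5 points, or nine lines and 5 points.
-/

set_option autoImplicit false

namespace CfsgLib.Invol.TriSolv

open CfsgLib.Spor.Tri

universe u

variable {G : Type u} [Group G] [Finite G] {D : Set G}

/-- The products of two points of a line through `x` and `x` itself generate a 2-group. -/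
theorem Loc.two_group {x : G} (L : Loc D x) (hline : ∀ b ∈ perp D x, line D x b = both D x b) :
    IsPGroup 2 (transGroup D x ⊔ Subgroup.zpowers x : Subgroup G) := by
  haveI : Fact (Nat.Prime 2) := ⟨Nat.prime_two⟩
  set K := Subgroup.closure (perp D x) with hK
  set N := (Cfsg.pCore 2 ↥K).map K.subtype with hN
  have hNp : IsPGroup 2 N := (CfsgLib.Coprime.pCore_isPGroup 2).map _
  have hle : transGroup D x ≤ N := by
    refine (Subgroup.closure_le _).2 ?_
    rintro _ ⟨d, hd, d', hd', hne, rfl⟩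
    have hd'p : d' ∈ perp D x := ⟨hd'.1, hne, (commute_left L.mem hd.2.2 hd').symm⟩
    have h := (L.line_iff_core (d := ⟨d, Subgroup.subset_closure hd⟩) (v := ⟨d', Subgroup.subset_closure hd'p⟩)
      hd hd'p).1 hd'
    rw [L.hypK.inv_eq (show (⟨d, Subgroup.subset_closure hd⟩ : ↥K) ∈ _ from hd)] at h
    exact ⟨_, h, rfl⟩
  have hx : IsPGroup 2 (Subgroup.zpowers x) := by
    refine IsPGroup.of_card (n := 1) ?_
    rw [Nat.card_zpowers, L.h.set.1 x L.mem, pow_one]
  refine (hNp.to_sup_of_normal_left' hx ?_).to_le (sup_le_sup_right hle _)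
  rw [Subgroup.zpowers_eq_closure, Subgroup.closure_le, Set.singleton_subset_iff, SetLike.mem_coe,
    Subgroup.mem_normalizer_iff]
  intro n
  constructor
  · intro hn
    obtain ⟨k, hk, rfl⟩ := hn
    show x * (k : G) * x⁻¹ ∈ N
    rw [(commute_of_mem_closure_perp k.2).symm.eq, mul_inv_cancel_right]
    exact ⟨k, hk, rfl⟩
  · intro hn
    obtain ⟨k, hk, e⟩ := hn
    refine ⟨k, hk, ?_⟩
    have hc : Commute x (k : G) := (commute_of_mem_closure_perp k.2).symm
    have e' : n = x⁻¹ * (k : G) * x := by rw [show (k : G) = x * n * x⁻¹ from e]; group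
    rw [e', mul_assoc, ← hc.eq, inv_mul_cancel_left]
    rfl

theorem mul_six {W : Type*} [Group W] (hc : ∀ u v : W, u * v = v * u) (a b c a' b' c' : W) :
    a * b * c * (a' * b' * c') = (a * a') * (b * b') * (c * c') := by
  letI : CommGroup W := { (inferInstance : Group W) with mul_comm := hc }
  rw [mul_mul_mul_comm (a * b) c, mul_mul_mul_comm a b]

/-- With at least nine lines on a point, `2 ^ (e + 1)` divides their number less one. -/
theorem Geo.two_pow_dvd {e j : ℕ} (L : Geo D e j) {x : G} (hL : Loc D x) (hj : 2 ≤ j) :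
    2 ^ (e + 1) ∣ 3 ^ j - 1 := by
  classical
  haveI : Fact (Nat.Prime 2) := ⟨Nat.prime_two⟩
  haveI : Fintype G := Fintype.ofFinite G
  set a := x with hadef
  have ha : a ∈ D := hL.mem
  obtain ⟨y, hy, hay⟩ := L.exists_far ha
  set V : Subgroup G := transGroup D a ⊔ Subgroup.zpowers a with hVdef
  have hV2 : IsPGroup 2 V := hL.two_group fun b hb => L.line_both a ha b hb
  have hVa : ∀ v ∈ V, Commute v a := fun v hv => by
    have hle : V ≤ Subgroup.centralizer ({a} : Set G) := by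
      refine sup_le ((Subgroup.closure_le _).2 ?_) ?_
      · rintro _ ⟨d, hd, d', hd', -, rfl⟩
        rw [SetLike.mem_coe, Subgroup.mem_centralizer_singleton_iff]
        exact (hd.2.2.symm.mul_left (commute_left ha hd.2.2 hd')).eq
      · rw [Subgroup.zpowers_eq_closure, Subgroup.closure_le, Set.singleton_subset_iff, SetLike.mem_coe,
          Subgroup.mem_centralizer_singleton_iff]
    exact Subgroup.mem_centralizer_singleton_iff.1 (hle hv)
  have hVn : ∀ g : G, Commute g a → ∀ v ∈ V, g * v * g⁻¹ ∈ V := by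
    intro g hg v hv
    have hle : V ≤ V.comap (MulAut.conj g).toMonoidHom := by
      refine sup_le (fun t ht => ?_) ?_
      · exact Subgroup.mem_sup_left (L.transGroup_conj hg ht)
      · rw [Subgroup.zpowers_eq_closure, Subgroup.closure_le, Set.singleton_subset_iff, SetLike.mem_coe,
          Subgroup.mem_comap]
        show g * a * g⁻¹ ∈ V
        rw [hg.eq, mul_inv_cancel_right]
        exact Subgroup.mem_sup_right (Subgroup.mem_zpowers a)
    exact hle hv
  -- the orbits on the members not commuting with `a`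
  set A := {z | z ∈ D ∧ ¬ Commute a z} with hA
  let orb : G → Set G := fun z => {b | ∃ t ∈ V, t * z * t⁻¹ = b}
  have horb : ∀ z ∈ A, orb z ⊆ A := by
    rintro z ⟨hz, hzn⟩ _ ⟨t, ht, rfl⟩
    refine ⟨L.h.conj t z hz, fun hc => hzn ?_⟩
    rw [← conj_eq_of_commute (hVa t ht)] at hc
    exact (Commute.conj_iff t).1 hc
  have hsize : ∀ z ∈ A, (orb z).ncard = (orb y).ncard := by
    rintro z ⟨hz, hzn⟩
    obtain ⟨g, hg, rfl⟩ := exists_conj_not_commute L.h L.rad L.perf ha hy hz hay hzn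
    have e : orb (g * y * g⁻¹) = (fun b => g * b * g⁻¹) '' orb y := by
      ext b
      constructor
      · rintro ⟨t, ht, rfl⟩
        refine ⟨(g⁻¹ * t * g) * y * (g⁻¹ * t * g)⁻¹, ⟨_, ?_, rfl⟩, by group⟩
        have := hVn g⁻¹ hg.inv_left t ht
        rwa [inv_inv] at this
      · rintro ⟨_, ⟨t, ht, rfl⟩, rfl⟩
        exact ⟨g * t * g⁻¹, hVn g hg t ht, by group⟩
    rw [e, Set.ncard_image_of_injective _ fun p q h => by simpa using h]
  obtain ⟨i, hi⟩ : ∃ i, (orb y).ncard = 2 ^ i := ncard_conj_orbit hV2 y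
  have hdvd : 2 ^ i ∣ A.ncard := by
    have hcard : A.toFinset.card = (A.toFinset.image orb).card * 2 ^ i := by
      rw [Finset.card_eq_sum_card_image orb, Finset.sum_const_nat]
      intro o ho
      obtain ⟨z, hz, rfl⟩ := Finset.mem_image.1 ho
      rw [Set.mem_toFinset] at hz
      rw [← hi, ← hsize z hz, ← Set.ncard_coe_finset]
      congr 1
      ext w
      simp only [Finset.coe_filter, Set.mem_toFinset, Set.mem_setOf_eq]
      constructor
      · rintro ⟨-, e⟩
        rw [← e]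
        exact ⟨1, one_mem V, by simp⟩
      · intro hw
        refine ⟨horb z hz hw, ?_⟩
        obtain ⟨t, ht, rfl⟩ := hw
        ext b
        constructor
        · rintro ⟨t', ht', rfl⟩
          exact ⟨t' * t, mul_mem ht' ht, by group⟩
        · rintro ⟨t', ht', rfl⟩
          exact ⟨t' * t⁻¹, mul_mem ht' (inv_mem ht), by group⟩
    rw [Set.ncard_eq_toFinset_card', hcard]
    exact dvd_mul_left _ _
  -- three lines
  set X := both D a y with hX
  have hXc : X.ncard = 3 ^ j := L.both_card ha hy hay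
  have hXp : ∀ {u}, u ∈ X → u ∈ perp D a := fun hu => L.perp_of hu.1 hu.2.1 (L.ne_of_both hay hu).1
  have h9 : 9 ≤ X.ncard := by
    rw [hXc]
    calc 9 = 3 ^ 2 := by norm_num
      _ ≤ 3 ^ j := Nat.pow_le_pow_right (by norm_num) hj
  obtain ⟨d, f, hdX, hfX, hdf'⟩ := (Set.one_lt_ncard_iff (Set.toFinite _)).1 (show 1 < X.ncard by omega)
  have hdf := L.not_commute_common ha hy hay hdX hfX hdf'
  obtain ⟨g, hgX, hgn⟩ : ∃ g ∈ X, g ∉ ({d, f, d * f * d} : Set G) := by
    by_contra hcon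
    push Not at hcon
    have h1 := Set.ncard_le_ncard (fun u hu => hcon u hu) (Set.toFinite ({d, f, d * f * d} : Set G))
    have h2 := Set.ncard_insert_le d ({f, d * f * d} : Set G)
    have h3 := Set.ncard_insert_le f ({d * f * d} : Set G)
    rw [Set.ncard_singleton] at h3
    omega
  simp only [Set.mem_insert_iff, Set.mem_singleton_iff, not_or] at hgn
  have htX : d * f * d ∈ X :=
    ⟨L.h.conj_mem' hdX.1 hfX.1, commute_third hdX.2.1 hfX.2.1, commute_third hdX.2.2 hfX.2.2⟩
  have hdg := L.not_commute_common ha hy hay hdX hgX (Ne.symm hgn.1)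
  have hfg := L.not_commute_common ha hy hay hfX hgX (Ne.symm hgn.2.1)
  have htg := L.not_commute_common ha hy hay htX hgX (Ne.symm hgn.2.2)
  -- points of the three lines
  have hpt : ∀ {u}, u ∈ X → Nat.card ↥(line D a u \ {a}) = 2 ^ e := fun hu => by
    rw [Nat.card_coe_set_eq, Set.ncard_sdiff_singleton_of_mem (left_mem_line ha), L.line_card a ha _ (hXp hu),
      Nat.add_sub_cancel]
  let T := (↥(line D a d \ {a}) × ↥(line D a f \ {a}) × ↥(line D a g \ {a})) × Bool
  let elt : T → G := fun p => d * p.1.1.1 * (f * p.1.2.1.1) * (g * p.1.2.2.1)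
  let img : T → G := fun p => elt p * (if p.2 then a * y * a else y) * (elt p)⁻¹
  have hmem : ∀ {u}, u ∈ X → ∀ z : ↥(line D a u \ {a}), u * (z : G) ∈ transGroup D a := fun {u} hu z =>
    Subgroup.subset_closure ⟨u, hXp hu, z, z.2.1, z.2.2, rfl⟩
  have helt : ∀ p, elt p ∈ transGroup D a := fun p =>
    mul_mem (mul_mem (hmem hdX _) (hmem hfX _)) (hmem hgX _)
  have himg : ∀ p, img p ∈ orb y := by
    intro p
    by_cases hb : p.2
    · refine ⟨elt p * a, mul_mem (Subgroup.mem_sup_left (helt p)) (Subgroup.mem_sup_right (Subgroup.mem_zpowers a)), ?_⟩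
      simp only [img, hb, if_true, mul_inv_rev, L.h.inv_eq ha]
      group
    · exact ⟨elt p, Subgroup.mem_sup_left (helt p), by simp only [img, hb]; rfl⟩
  have hinj : Function.Injective img := by
    intro p q hpq
    have hy' : ∀ r : T, ∀ u ∈ X, Commute (if r.2 then a * y * a else y) u := fun r u hu => by
      by_cases hb : r.2
      · rw [if_pos hb]; exact (commute_third hu.2.1.symm hu.2.2.symm).symm
      · rw [if_neg hb]; exact hu.2.2
    set z := img p with hz
    have hzA : z ∈ A := horb y ⟨hy, hay⟩ (himg p)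
    have hact : ∀ u (hu : u ∈ X), (L.act ha ⟨elt p, helt p⟩) ⟨u, hXp hu⟩ = (L.act ha ⟨elt q, helt q⟩) ⟨u, hXp hu⟩ := by
      intro u hu
      have key : ∀ r : T, img r = z → (elt r * u * (elt r)⁻¹ ∈ line D a u ∧ Commute z (elt r * u * (elt r)⁻¹)) :=
        fun r hr => ⟨(L.trans_fixes ha (helt r)).2 u (hXp hu), hr ▸ (Commute.conj_iff _).2 (hy' r u hu)⟩
      obtain ⟨p1, p2⟩ := key p rfl
      obtain ⟨q1, q2⟩ := key q hpq.symm
      refine Subtype.ext ?_
      rw [L.act_apply, L.act_apply]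
      by_contra hne
      exact hzA.2 (commute_left ha (hXp hu).2.2 (L.line_meet ha (hXp hu) p1 q1 hzA.1 p2 q2 hne)).symm
    -- the three factors
    set D' : ↥(perp D a) := ⟨d, hXp hdX⟩
    set F' : ↥(perp D a) := ⟨f, hXp hfX⟩
    set G' : ↥(perp D a) := ⟨g, hXp hgX⟩
    let sd : ↥(line D a d \ {a}) → (L.act ha).range := fun z => ⟨L.act ha ⟨d * z, hmem hdX z⟩, _, rfl⟩
    let sf : ↥(line D a f \ {a}) → (L.act ha).range := fun z => ⟨L.act ha ⟨f * z, hmem hfX z⟩, _, rfl⟩
    let sg : ↥(line D a g \ {a}) → (L.act ha).range := fun z => ⟨L.act ha ⟨g * z, hmem hgX z⟩, _, rfl⟩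
    have hprod : ∀ r : T, (⟨L.act ha ⟨elt r, helt r⟩, _, rfl⟩ : (L.act ha).range) =
        sd r.1.1 * sf r.1.2.1 * sg r.1.2.2 := fun r => Subtype.ext (by
      simp only [sd, sf, sg, Subgroup.coe_mul, ← map_mul]
      rfl)
    set σ := sd p.1.1 * sf p.1.2.1 * sg p.1.2.2 with hσ
    set τ := sd q.1.1 * sf q.1.2.1 * sg q.1.2.2 with hτ
    have hfix : ∀ u (hu : u ∈ X), (σ⁻¹ * τ).1 ⟨u, hXp hu⟩ = ⟨u, hXp hu⟩ := by
      intro u hu
      have h1 : σ.1 ⟨u, hXp hu⟩ = τ.1 ⟨u, hXp hu⟩ := by rw [hσ, hτ, ← hprod, ← hprod]; exact hact u hu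
      rw [Subgroup.coe_mul, Subgroup.coe_inv, Equiv.Perm.mul_apply, ← h1]
      exact Equiv.symm_apply_apply σ.1 _
    have hsplit : σ⁻¹ * τ = (sd p.1.1 * sd q.1.1) * (sf p.1.2.1 * sf q.1.2.1) * (sg p.1.2.2 * sg q.1.2.2) := by
      have hs : σ⁻¹ = σ := inv_eq_of_mul_eq_one_right (L.range_sq ha σ)
      rw [hs, hσ, hτ]
      exact mul_six (L.range_comm ha) _ _ _ _ _ _
    have hran : ∀ (U : ↥(perp D a)) (P Q : ↥(line D a (U : G) \ {a})) (hP : (U : G) * P ∈ transGroup D a)
        (hQ : (U : G) * Q ∈ transGroup D a), ∃ u, L.tau ha U u =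
          ⟨L.act ha ⟨_, hP⟩, _, rfl⟩ * ⟨L.act ha ⟨_, hQ⟩, _, rfl⟩ := by
      intro U P Q hP hQ
      obtain ⟨u, hu⟩ := L.mem_tau ha U P.2.1 P.2.2
      obtain ⟨v, hv⟩ := L.mem_tau ha U Q.2.1 Q.2.2
      exact ⟨u * v, by rw [map_mul]; exact congrArg₂ (· * ·) (Subtype.ext hu) (Subtype.ext hv)⟩
    obtain ⟨hx1, hy1, hz1⟩ := L.trans_independent ha D' F' G' hdf hdg hfg htg
      (x := sd p.1.1 * sd q.1.1) (y := sf p.1.2.1 * sf q.1.2.1) (z := sg p.1.2.2 * sg q.1.2.2)
      (hran D' _ _ _ _) (hran F' _ _ _ _) (hran G' _ _ _ _)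
      (by rw [← hsplit]; exact hfix d hdX) (by rw [← hsplit]; exact hfix f hfX) (by rw [← hsplit]; exact hfix g hgX)
    -- translations of a line are determined by their point
    have hone : ∀ {u w : G} (hu : u ∈ X) (hw : w ∈ X), u ≠ w → ∀ (P Q : ↥(line D a u \ {a})),
        (⟨L.act ha ⟨_, hmem hu P⟩, _, rfl⟩ : (L.act ha).range) * ⟨L.act ha ⟨_, hmem hu Q⟩, _, rfl⟩ = 1 → P = Q := by
      intro u w hu hw hne P Q h1
      have h2 : L.act ha ⟨_, hmem hu P⟩ = L.act ha ⟨_, hmem hu Q⟩ := by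
        exact (congrArg Subtype.val (eq_inv_of_mul_eq_one_left h1)).trans
          (congrArg Subtype.val (inv_eq_of_mul_eq_one_right (L.range_sq ha ⟨L.act ha ⟨_, hmem hu Q⟩, _, rfl⟩)))
      have h3 := congrArg Subtype.val (DFunLike.congr_fun h2 ⟨w, hXp hw⟩)
      rw [L.act_apply, L.act_apply] at h3
      have hnP : ∀ R : ↥(line D a u \ {a}), ¬ Commute (R : G) w := fun R hc => by
        have hR := L.line_subset_perp ha (hXp hu) R.2.1 R.2.2
        have hwl : w ∈ line D a (R : G) := (L.mem_line_iff ha hR).2 ⟨hw.1, hw.2.1, hc⟩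
        rw [L.line_eq_left ha (hXp hu) R.2.1 R.2.2] at hwl
        exact L.not_commute_common ha hy hay hu hw hne (commute_right hu.1 hu.2.1 hwl).symm
      simp only [mul_inv_rev, L.h.inv_eq hu.1, L.h.inv_eq P.2.1.1, L.h.inv_eq Q.2.1.1] at h3
      have h4 : u * ((P : G) * w * P) * u = u * ((Q : G) * w * Q) * u := by simpa only [mul_assoc] using h3
      have h5 := mul_left_cancel (mul_right_cancel h4)
      rw [L.h.braid P.2.1.1 hw.1 (hnP P), L.h.braid Q.2.1.1 hw.1 (hnP Q)] at h5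
      exact Subtype.ext (mul_left_cancel (mul_right_cancel h5))
    have e1 : p.1 = q.1 := Prod.ext (hone hdX hfX hdf' _ _ hx1)
      (Prod.ext (hone hfX hdX (Ne.symm hdf') _ _ hy1) (hone hgX hdX hgn.1 _ _ hz1))
    have e2 : elt p = elt q := by simp only [elt, e1]
    have e3 : (if p.2 then a * y * a else y) = (if q.2 then a * y * a else y) := by
      have := hpq
      simp only [z, img, e2] at this
      exact mul_left_cancel (mul_right_cancel this)
    refine Prod.ext e1 ?_
    have hne : a * y * a ≠ y := L.h.third_ne ha hy hay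
    rcases p with ⟨p1, _ | _⟩ <;> rcases q with ⟨q1, _ | _⟩
    · rfl
    · exact absurd e3.symm hne
    · exact absurd e3 hne
    · rfl
  have hbound : 2 ^ (3 * e + 1) ≤ 2 ^ i := by
    rw [← hi, ← Nat.card_coe_set_eq]
    refine le_trans (le_of_eq ?_) (Nat.card_le_card_of_injective (fun p => (⟨img p, himg p⟩ : ↥(orb y)))
      fun p q h => hinj (congrArg Subtype.val h))
    simp only [T, Nat.card_prod, hpt hdX, hpt hfX, hpt hgX]
    rw [Nat.card_eq_fintype_card, Fintype.card_bool]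
    ring
  rw [L.card_far ha] at hdvd
  have h1 : 2 ^ (3 * e + 1) ∣ 2 ^ e * 2 ^ e * (3 ^ j - 1) :=
    (Nat.pow_dvd_pow 2 ((Nat.pow_le_pow_iff_right (by norm_num : 1 < 2)).1 hbound)).trans hdvd
  rw [show 3 * e + 1 = e + e + (e + 1) by ring, pow_add, pow_add] at h1
  exact Nat.dvd_of_mul_dvd_mul_left (by positivity) h1

/-- The arithmetic. -/
theorem params_arith {e j : ℕ} (he : 1 ≤ e) (hj : 1 ≤ j)
    (htr : 2 ^ e + (3 ^ j - 1) ∣ 2 ^ e * (3 ^ j - 1) * 3 ^ j) (h2 : 2 ≤ j → 2 ^ (e + 1) ∣ 3 ^ j - 1) :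
    (j = 1 ∧ (e = 1 ∨ e = 2)) ∨ (j = 2 ∧ e = 2) := by
  rcases (by omega : j = 1 ∨ 2 ≤ j) with rfl | hj2
  · left
    refine ⟨rfl, ?_⟩
    norm_num at htr
    have h1 : 2 ^ e + 2 ∣ 12 := by
      have h2 : 2 ^ e + 2 ∣ 6 * (2 ^ e + 2) := dvd_mul_left _ _
      have h3 : 2 ^ e * 2 * 3 + 12 = 6 * (2 ^ e + 2) := by ring
      rw [← h3] at h2
      exact (Nat.dvd_add_right htr).1 h2
    have h4 : 2 ^ e ≤ 10 := by have := Nat.le_of_dvd (by norm_num) h1; omega
    have h5 : e < 4 := by
      by_contra hh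
      have := Nat.pow_le_pow_right (n := 2) (by norm_num) (not_lt.1 hh)
      omega
    interval_cases e <;> (try norm_num at h1) <;> norm_num
  · right
    have hdv := h2 hj2
    have hev : Even j := by
      by_contra hodd
      obtain ⟨k, rfl⟩ := Nat.not_even_iff_odd.1 hodd
      have h4 : 4 ∣ 3 ^ (2 * k + 1) - 1 := dvd_trans (show (4 : ℕ) ∣ 2 ^ (e + 1) by
        calc (4 : ℕ) = 2 ^ 2 := by norm_num
          _ ∣ 2 ^ (e + 1) := Nat.pow_dvd_pow 2 (by omega)) hdv
      have : 3 ^ (2 * k + 1) % 4 = 3 := by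
        rw [pow_succ, pow_mul, Nat.mul_mod, Nat.pow_mod]; norm_num
      have := Nat.one_le_pow (2 * k + 1) 3 (by norm_num)
      omega
    -- the odd part of `s + t`
    obtain ⟨u, hu⟩ := hdv
    have hpow : 1 ≤ 3 ^ j := Nat.one_le_pow _ _ (by norm_num)
    have hsum : 2 ^ e + (3 ^ j - 1) = 2 ^ e * (1 + 2 * u) := by rw [hu, pow_succ]; ring
    rw [hsum, hu] at htr
    have h3 : (1 + 2 * u) ∣ 2 ^ (e + 1) * u * 3 ^ j := by
      have := Nat.dvd_of_mul_dvd_mul_left (by positivity : 0 < 2 ^ e)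
        (show 2 ^ e * (1 + 2 * u) ∣ 2 ^ e * (2 ^ (e + 1) * u * 3 ^ j) by rw [← mul_assoc]; exact htr)
      exact this
    have hcop : Nat.Coprime (1 + 2 * u) (2 ^ (e + 1) * u) := by
      refine Nat.Coprime.mul_right (Nat.Coprime.pow_right _ ?_) ?_
      · rw [Nat.coprime_comm, Nat.Prime.coprime_iff_not_dvd Nat.prime_two]; omega
      · rw [show 1 + 2 * u = 1 + u * 2 by ring]
        exact Nat.coprime_add_mul_left_left 1 u 2 |>.2 (Nat.coprime_one_left u)
    have h4 := hcop.dvd_of_dvd_mul_left h3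
    obtain ⟨q, hqj, hq⟩ := (Nat.dvd_prime_pow Nat.prime_three).1 h4
    have hu0 : 0 < u := by
      rcases Nat.eq_zero_or_pos u with rfl | h
      · rw [mul_zero] at hu
        have := Nat.le_self_pow (n := j) (by omega) 3
        omega
      · exact h
    have hq1 : 1 ≤ q := by
      rcases Nat.eq_zero_or_pos q with rfl | h
      · rw [pow_zero] at hq; omega
      · exact h
    -- the two-part of `3 ^ j - 1`
    have h5 : 2 ^ (e + 1) ∣ 8 * j := by
      have hl := padicValNat.pow_two_sub_one (x := 3) (n := j) (by norm_num) (by norm_num) (by omega) hev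
      have hpd : 2 ^ (e + 1) ∣ 3 ^ j - 1 := ⟨u, hu⟩
      haveI : Fact (Nat.Prime 2) := ⟨Nat.prime_two⟩
      have hne : 3 ^ j - 1 ≠ 0 := by
        have := Nat.le_self_pow (n := j) (by omega) 3
        omega
      have h8 : e + 1 ≤ padicValNat 2 (3 ^ j - 1) := (padicValNat_dvd_iff_le hne).1 hpd
      refine (padicValNat_dvd_iff_le (by omega : 8 * j ≠ 0)).2 ?_
      rw [padicValNat.mul (by norm_num) (by omega)]
      have e8 : padicValNat 2 8 = 3 := by
        rw [show (8 : ℕ) = 2 ^ 3 by norm_num, padicValNat.prime_pow]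
      have e4 : padicValNat 2 (3 + 1) = 2 := by
        rw [show (3 + 1 : ℕ) = 2 ^ 2 by norm_num, padicValNat.prime_pow]
      have e2 : padicValNat 2 (3 - 1) = 1 := by
        rw [show (3 - 1 : ℕ) = 2 ^ 1 by norm_num, padicValNat.prime_pow]
      rw [e8]
      omega
    have h6 : 3 ^ q ≤ 2 ^ e - 1 := by
      have h7 : 3 ^ q ∣ 2 ^ e * 3 ^ q - 3 ^ j :=
        Nat.dvd_sub (dvd_mul_left _ _) (pow_dvd_pow 3 hqj)
      have h8 : 2 ^ e * 3 ^ q - 3 ^ j = 2 ^ e - 1 := by
        rw [← hq, ← hsum]; omega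
      rw [h8] at h7
      refine Nat.le_of_dvd ?_ h7
      have := Nat.pow_le_pow_right (n := 2) (by norm_num) he
      omega
    have h9 : 2 ^ (e + 1) ≤ 8 * j := Nat.le_of_dvd (by omega) h5
    have h10 : 3 ^ j ≤ 2 ^ e * 2 ^ e := by
      have : 3 ^ j ≤ 2 ^ e * 3 ^ q := by rw [← hq, ← hsum]; have := Nat.one_le_two_pow (n := e); omega
      exact this.trans (Nat.mul_le_mul_left _ (h6.trans (Nat.sub_le _ _)))
    have h11 : 3 ^ j ≤ 16 * (j * j) := by
      have h12 : 2 ^ e ≤ 4 * j := by rw [pow_succ] at h9; omega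
      calc 3 ^ j ≤ 2 ^ e * 2 ^ e := h10
        _ ≤ (4 * j) * (4 * j) := Nat.mul_le_mul h12 h12
        _ = 16 * (j * j) := by ring
    have hj6 : j < 6 := by
      by_contra hh
      have key : ∀ k, 6 ≤ k → 16 * (k * k) < 3 ^ k := by
        intro k hk
        induction k, hk using Nat.le_induction with
        | base => norm_num
        | succ k hk ih =>
          rw [pow_succ]
          nlinarith
      have := key j (not_lt.1 hh)
      omega
    obtain ⟨k, rfl⟩ := hev
    have he5 : e < 5 := by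
      by_contra hh
      have := Nat.pow_le_pow_right (n := 2) (by norm_num) (show 6 ≤ e + 1 by omega)
      omega
    rcases (by omega : k = 1 ∨ k = 2) with rfl | rfl
    · norm_num at hu hsum hqj h10 ⊢
      interval_cases e <;> interval_cases q <;> first | omega | (norm_num at hu hq h10 h6 ⊢ <;> omega)
    · exfalso
      norm_num at hu hqj h9 h10
      interval_cases e <;> interval_cases q <;> first | omega | (norm_num at hu hq h9 h10 h6 <;> omega)

theorem Geo.params {e j : ℕ} (L : Geo D e j) {x : G} (hL : Loc D x) :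
    (j = 1 ∧ (e = 1 ∨ e = 2)) ∨ (j = 2 ∧ e = 2) :=
  params_arith L.e_pos L.j_pos L.dvd_of_trace (L.two_pow_dvd hL)

end CfsgLib.Invol.TriSolv
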