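import Cfsg.Agent.Lib.Invol.TriSolv.Seventh
import Cfsg.Agent.Lib.Invol.TriSolv.Params

/-!
# Fischer: a solvable `⟨D_x⟩` with central odd core gives `Sym(6)`, `PSU(4, 2)` or `PSU(5, 2)`
-/

set_option autoImplicit false

namespace CfsgLib.Invol.TriSolv

open CfsgLib.Spor.Tri CfsgLib.Spor.TC
open CfsgLib.Invol.TriSolv.Cert (relsU4 relsU5)
open CfsgLib.Spor.Fi22.U6 (Four)

universe u

variable {G : Type u} [Group G] [Finite G] {D : Set G}

theorem gens_congr {f : Fin 5 → G} (z w w' : G) {x : ℕ} (hx : x < 6) : gens f z w x = gens f z w' x := by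
  unfold gens
  split_ifs <;> first | rfl | omega

namespace Sixth

variable {e j : ℕ} (L : Geo D e j) (he : e = 2) (hj : j = 2) {f : Fin 5 → G} {z : G} (s : Sixth D f z)
include L he hj s

/-- The seven generators satisfy the relators. -/
theorem embed_five : ∃ u, Embed D 5 7 relsU5 Model.vecsFive Model.tabFive (gens f z u) := by
  obtain ⟨u, ⟨huD, huS, huA⟩, hfix⟩ := s.exists_seventh L he hj
  obtain ⟨hmem, -, -, -, hgen⟩ := s.pt_facts L he
  have h6 : gens f z u 6 = u := by simp [gens]
  have hpat : Pattern D (gens f z u) 7 := by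
    refine ⟨fun x hx => ?_, fun i k hik hk => ?_⟩
    · rcases Nat.lt_or_ge x 6 with h | h
      · rw [gens_congr z u 1 h]; exact (s.pattern L 1).mem x h
      · obtain rfl : x = 6 := by omega
        rw [h6]; exact huD
    · rcases Nat.lt_or_ge k 6 with h | h
      · rw [gens_congr z u 1 h, gens_congr z u 1 (by omega : i < 6)]
        exact (s.pattern L 1).pat i k hik h
      · obtain rfl : k = 6 := by omega
        rw [gens_congr z u 1 (by omega : i < 6), h6, ← hgen i (by omega)]
        have hin : i ∈ [0, 1, 2, 5] ∨ i ∈ [3, 4] := by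
          have : ∀ i < 6, i ∈ [0, 1, 2, 5] ∨ i ∈ [3, 4] := by decide
          exact this i (by omega)
        rcases hin with hi | hi
        · obtain ⟨hnA, l, hl, hil, a, ha, hal⟩ := Ovoid.outside_pattern i hi
          have h0 : com i 6 = false := (by decide : ∀ i ∈ [0, 1, 2, 5], com i 6 = false) i hi
          refine ⟨fun hh => absurd hh (by simp [h0]), fun _ hcm => hnA ?_⟩
          rw [(s.unique_on_line L he huD huS hl).2 i hil a hal hcm.symm (huA a ha)]
          exact ha
        · obtain ⟨h1, h2⟩ := (by decide : ∀ i ∈ [3, 4], i ∈ Ovoid.ptsA ∧ com i 6 = true) i hi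
          exact ⟨fun _ => (huA i h1).symm, fun hh => absurd hh (by simp [h2])⟩
  have hsq := gens_sq L.h (f := f) (z := z) (w := u) s.chain.mem (L.h.mul_self s.mem.1) (L.h.mul_self huD)
  have hev : ∀ w : List ℕ, (∀ x ∈ w, x < 6) → ev (gens f z u) w = ev (gens f z 1) w := fun w hw =>
    ev_congr fun x hx => gens_congr z u 1 (hw x hx)
  refine ⟨u, L.h, Model.tabOK_five, Model.length_vecsFive,
    ⟨Cert.card_presU5.1, by rw [Model.card_su_five]; exact Cert.card_presU5.2⟩, Model.sat_five,
    ⟨hsq, fun x hx => ?_, fun r hr => ?_⟩, hpat.mem, ?_, Model.rich_five⟩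
  · unfold gens; rw [dif_neg (by omega), if_neg (by omega), if_neg (by omega)]
  · rcases shape_five r hr with ⟨hw, hlt, h7, hm⟩ | rfl | rfl
    · rw [hw, hm]
      simp only [ev, List.map_cons, List.map_nil, List.prod_cons, List.prod_nil, mul_one]
      exact pair_rel L.h (hpat.mem _ (by omega)) (hpat.mem _ h7) (hpat.pat _ _ hlt h7)
    · refine ev_fix hsq ?_
      rw [show gens f z u 5 = z by simp [gens]]
      exact s.rho_fixes L u he
    · refine ev_fix hsq ?_
      rw [h6, hev fixWord (by decide)]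
      exact hfix
  · rw [show gens f z u 0 = f 0 by simp [gens], show gens f z u 1 = f 1 by simp [gens]]
    exact s.chain.near 0 1 rfl

end Sixth

/-- The three shapes. -/
theorem Loc.cases {x : G} (hL : Loc D x) (hZ : Subgroup.center G = ⊥) :
    Nonempty (G ≃* Equiv.Perm (Fin 6)) ∨ Nonempty (G ≃* Cfsg.PSU 4 Four 2) ∨
      Nonempty (G ≃* Cfsg.PSU 5 Four 2) := by
  obtain ⟨e, j, L⟩ := hL.exists_geo
  rcases L.params hL with ⟨hj, he | he⟩ | ⟨hj, he⟩
  · left
    obtain ⟨f, c⟩ := L.exists_chain
    refine c.iso_six L.h ?_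
    rw [L.card_points (c.mem 0), he, hj]
    norm_num
  · exact Or.inr (Or.inl (L.iso_psu_four he hj hZ))
  · right; right
    obtain ⟨f, z, s⟩ := L.exists_sixth he
    obtain ⟨u, E⟩ := s.embed_five L he hj
    obtain ⟨φ⟩ := E.iso (by
      rw [L.card_points (s.chain.mem 0), Model.length_tabFive, he, hj]; norm_num) hZ
    exact ⟨φ.trans Model.tabOK_five.psuEquiv.symm⟩

end CfsgLib.Invol.TriSolv
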