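import Cfsg.Agent.Lib.Invol.TriSolv.ModelData
import Cfsg.Agent.Lib.Spor.Fi22.U6.Field
import Cfsg.Agent.Lib.Spor.TC.Word
import Cfsg.Agent.Lib.Classical.PSUSimple
import Cfsg.Agent.Lib.SU.CenterCard
import Cfsg.Agent.Lib.SU.SemisimpleCentral
import Cfsg.Agent.Lib.SU.Basic
import Cfsg.Prelude.Def_Classical

/-!
# Transvections of unitary groups over four elements, and words in them
-/

set_option autoImplicit false

namespace CfsgLib.Invol.TriSolv.Model

open Matrix CfsgLib.Spor.TC
open CfsgLib.Spor.Fi22.U6 (Four)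

/-- The space. -/
abbrev Vec (n : ℕ) : Type := Fin n → Four

variable {n : ℕ}

/-- The hermitian form. -/
abbrev hf (x y : Vec n) : Four := Cfsg.hermForm n Four 2 x y

/-- The special unitary group. -/
abbrev SUn (n : ℕ) : Type := ↥(Cfsg.SU n Four 2)

theorem add_self (a : Four) : a + a = 0 := by revert a; decide

theorem sq_add (a b : Four) : (a + b) ^ 2 = a ^ 2 + b ^ 2 := by revert a b; decide

theorem sq_sq (a : Four) : (a ^ 2) ^ 2 = a := by revert a; decide

theorem sq_sum {ι : Type*} (s : Finset ι) (f : ι → Four) : (∑ i ∈ s, f i) ^ 2 = ∑ i ∈ s, f i ^ 2 := by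
  induction s using Finset.cons_induction with
  | empty => simp
  | cons a s ha ih => rw [Finset.sum_cons, Finset.sum_cons, sq_add, ih]

theorem hf_add_left (x y z : Vec n) : hf (x + y) z = hf x z + hf y z := by
  simp [Cfsg.hermForm, add_mul, Finset.sum_add_distrib]

theorem hf_add_right (x y z : Vec n) : hf x (y + z) = hf x y + hf x z := by
  simp [Cfsg.hermForm, sq_add, mul_add, Finset.sum_add_distrib]

theorem hf_smul_left (c : Four) (x z : Vec n) : hf (c • x) z = c * hf x z := by
  simp [Cfsg.hermForm, Finset.mul_sum, mul_assoc]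

theorem hf_smul_right (c : Four) (x z : Vec n) : hf x (c • z) = c ^ 2 * hf x z := by
  simp [Cfsg.hermForm, Finset.mul_sum, mul_pow, mul_left_comm]

theorem hf_swap (x y : Vec n) : hf x y ^ 2 = hf y x := by
  simp only [Cfsg.hermForm, sq_sum, mul_pow, sq_sq]
  exact Finset.sum_congr rfl fun i _ => mul_comm _ _

theorem hf_single (j : Fin n) (v : Vec n) : hf (Pi.single j 1) v = v j ^ 2 := by
  simp [Cfsg.hermForm, Pi.single_apply, Finset.sum_ite_eq']

/-- The matrix of a transvection. -/
def trMat (v : Vec n) : Matrix (Fin n) (Fin n) Four := 1 + vecMulVec v (fun i => v i ^ 2)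

theorem trMat_mulVec (v x : Vec n) : trMat v *ᵥ x = x + hf x v • v := by
  rw [trMat, add_mulVec, one_mulVec, vecMulVec_mulVec, op_smul_eq_smul, dotProduct_comm]
  rfl

theorem trMat_det {v : Vec n} (hv : hf v v = 0) : (trMat v).det = 1 := by
  rw [trMat, vecMulVec_eq Unit, det_one_add_replicateCol_mul_replicateRow, dotProduct_comm]
  show 1 + hf v v = 1
  rw [hv, add_zero]

theorem trMat_preserves {v : Vec n} (hv : hf v v = 0) (x y : Vec n) :
    hf (trMat v *ᵥ x) (trMat v *ᵥ y) = hf x y := by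
  rw [trMat_mulVec, trMat_mulVec, hf_add_left, hf_add_right, hf_add_right, hf_smul_left, hf_smul_left,
    hf_smul_right, hf_smul_right, hv, hf_swap, mul_zero, mul_zero, add_zero, mul_comm (hf v y), add_assoc,
    add_self, add_zero]

/-- The transvection at an isotropic vector. -/
def tr (v : Vec n) : SUn n :=
  if h : hf v v = 0 then ⟨⟨trMat v, trMat_det h⟩, fun x y => trMat_preserves h x y⟩ else 1

/-- The image of `x` under the transvection at `v`. -/
def move (v x : Vec n) : Vec n := x + hf x v • v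

theorem mat_mul (g h : SUn n) (x : Vec n) : (g * h).1.1 *ᵥ x = g.1.1 *ᵥ (h.1.1 *ᵥ x) :=
  (mulVec_mulVec x g.1.1 h.1.1).symm

theorem mat_one (x : Vec n) : (1 : SUn n).1.1 *ᵥ x = x := one_mulVec x

theorem hf_mat (g : SUn n) (x y : Vec n) : hf (g.1.1 *ᵥ x) (g.1.1 *ᵥ y) = hf x y := g.2 x y

theorem tr_mulVec {v : Vec n} (hv : hf v v = 0) (x : Vec n) : (tr v).1.1 *ᵥ x = move v x := by
  rw [tr, dif_pos hv]
  exact trMat_mulVec v x

theorem ext_vec {g h : SUn n} (e : ∀ x, g.1.1 *ᵥ x = h.1.1 *ᵥ x) : g = h :=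
  Subtype.ext (Subtype.ext (ext_iff_mulVec.2 e))

theorem tr_mul_self (v : Vec n) : tr v * tr v = 1 := by
  by_cases hv : hf v v = 0
  · refine ext_vec fun x => ?_
    rw [mat_mul, mat_one, tr_mulVec hv, tr_mulVec hv, move, move, hf_add_left, hf_smul_left, hv, mul_zero,
      add_zero, add_assoc, ← add_smul, add_self, zero_smul, add_zero]
  · rw [tr, dif_neg hv, one_mul]

theorem tr_zero : tr (0 : Vec n) = 1 := by
  have h : hf (0 : Vec n) 0 = 0 := by simp [Cfsg.hermForm]
  refine ext_vec fun x => ?_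
  rw [tr_mulVec h, mat_one, move, smul_zero, add_zero]

theorem tr_conj (g : SUn n) {v : Vec n} (hv : hf v v = 0) : g * tr v * g⁻¹ = tr (g.1.1 *ᵥ v) := by
  have hgv : hf (g.1.1 *ᵥ v) (g.1.1 *ᵥ v) = 0 := (hf_mat g v v).trans hv
  rw [mul_inv_eq_iff_eq_mul]
  refine ext_vec fun x => ?_
  rw [mat_mul, mat_mul, tr_mulVec hv, tr_mulVec hgv, move, move, hf_mat, mulVec_add, mulVec_smul]

theorem hf_smul_self {v : Vec n} (hv : hf v v = 0) (c : Four) : hf (c • v) (c • v) = 0 := by
  rw [hf_smul_left, hf_smul_right, hv, mul_zero, mul_zero]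

theorem tr_smul {v : Vec n} (hv : hf v v = 0) {c : Four} (hc : c ≠ 0) : tr (c • v) = tr v := by
  refine ext_vec fun x => ?_
  rw [tr_mulVec (hf_smul_self hv c), tr_mulVec hv, move, move, hf_smul_right, smul_smul, mul_comm (c ^ 2),
    mul_assoc, show c ^ 2 * c = 1 from (by decide : ∀ d : Four, d ≠ 0 → d ^ 2 * d = 1) c hc, mul_one]

theorem exists_smul_of_tr_eq {v w : Vec n} (hv : hf v v = 0) (hw : hf w w = 0) (hw0 : w ≠ 0)
    (h : tr v = tr w) : ∃ c : Four, c ≠ 0 ∧ w = c • v := by
  obtain ⟨j, hj⟩ : ∃ j, w j ≠ 0 := Function.ne_iff.1 hw0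
  have e := congrArg (fun g : SUn n => g.1.1 *ᵥ Pi.single j 1) h
  simp only [tr_mulVec hv, tr_mulVec hw, move, hf_single, add_right_inj] at e
  have e' : w = ((w j ^ 2)⁻¹ * v j ^ 2) • v := by rw [← smul_smul, e, inv_smul_smul₀ (pow_ne_zero 2 hj)]
  refine ⟨_, fun h0 => hw0 ?_, e'⟩
  rw [e', h0, zero_smul]

theorem move_self {v : Vec n} (hv : hf v v = 0) : move v v = v := by rw [move, hv, zero_smul, add_zero]

/-- Orthogonal points give commuting transvections. -/
theorem tr_commute {v w : Vec n} (hv : hf v v = 0) (hw : hf w w = 0) (h : hf w v = 0) :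
    Commute (tr v) (tr w) := by
  have e := tr_conj (tr v) hw
  rw [tr_mulVec hv, move, h, zero_smul, add_zero, mul_inv_eq_iff_eq_mul] at e
  exact e

theorem tr_cube {v w : Vec n} (hv : hf v v = 0) (hw : hf w w = 0) (h : hf w v ≠ 0) :
    (tr v * tr w) ^ 3 = 1 := by
  have i1 : (tr v)⁻¹ = tr v := inv_eq_of_mul_eq_one_right (tr_mul_self v)
  have i2 : (tr w)⁻¹ = tr w := inv_eq_of_mul_eq_one_right (tr_mul_self w)
  have e1 := tr_conj (tr v) hw
  have e2 := tr_conj (tr w) hv
  rw [tr_mulVec hv, i1] at e1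
  rw [tr_mulVec hw, i2] at e2
  have hmove : move v w = hf w v • move w v := by
    rw [move, move, smul_add, smul_smul, ← hf_swap w v,
      show hf w v * hf w v ^ 2 = 1 from (by decide : ∀ d : Four, d ≠ 0 → d * d ^ 2 = 1) _ h, one_smul, add_comm]
  have hiso : hf (move w v) (move w v) = 0 := by rw [← tr_mulVec hw, hf_mat, hv]
  rw [hmove, tr_smul hiso h, ← e2] at e1
  calc (tr v * tr w) ^ 3 = (tr v * tr w * tr v) * (tr w * tr v * tr w) := by simp only [pow_succ, pow_zero,
        one_mul, mul_assoc]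
    _ = (tr w * tr v * tr w) * (tr w * tr v * tr w) := by rw [e1]
    _ = 1 := by
      rw [show (tr w * tr v * tr w) * (tr w * tr v * tr w) = tr w * tr v * (tr w * tr w) * tr v * tr w by
        simp only [mul_assoc], tr_mul_self, mul_one, mul_assoc (tr w), tr_mul_self, mul_one, tr_mul_self]

/-- A letter's transvection, from a list of vectors. -/
def letter (V : List (Vec n)) (x : ℕ) : SUn n := tr (V.getD x 0)

/-- A word applied to a vector, right end first. -/
def act (V : List (Vec n)) (w : List ℕ) (v : Vec n) : Vec n := w.foldr (fun x u => move (V.getD x 0) u) v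

theorem isotropic_getD {V : List (Vec n)} (hV : ∀ v ∈ V, hf v v = 0) (x : ℕ) :
    hf (V.getD x 0) (V.getD x 0) = 0 := by
  rcases lt_or_ge x V.length with h | h
  · rw [List.getD_eq_getElem _ _ h]; exact hV _ (List.getElem_mem h)
  · rw [List.getD_eq_default _ _ h]; simp [Cfsg.hermForm]

variable {V : List (Vec n)} (hV : ∀ v ∈ V, hf v v = 0)
include hV

theorem ev_mulVec (w : List ℕ) (v : Vec n) : (ev (letter V) w).1.1 *ᵥ v = act V w v := by
  induction w with
  | nil => exact mat_one v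
  | cons x w ih => rw [ev_cons, mat_mul, ih, letter, tr_mulVec (isotropic_getD hV x)]; rfl

theorem act_isotropic (w : List ℕ) {v : Vec n} (hv : hf v v = 0) : hf (act V w v) (act V w v) = 0 := by
  rw [← ev_mulVec hV, hf_mat, hv]

theorem ev_reverse (w : List ℕ) : ev (letter V) w.reverse = (ev (letter V) w)⁻¹ := by
  induction w with
  | nil => simp [ev]
  | cons x w ih =>
    rw [List.reverse_cons, ev_append, ih]
    simp [ev, letter, inv_eq_of_mul_eq_one_right (tr_mul_self _)]

/-- A palindrome is a transvection. -/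
theorem ev_point (w : List ℕ) (i : ℕ) :
    ev (letter V) (w ++ [i] ++ w.reverse) = tr (act V w (V.getD i 0)) := by
  rw [ev_append, ev_append, ev_reverse hV, show ev (letter V) [i] = tr (V.getD i 0) by simp [ev, letter],
    tr_conj _ (isotropic_getD hV i), ev_mulVec hV]

omit hV in
/-- What a relator asks of the vectors. -/
def RelOK (V : List (Vec n)) (r : PowRel) : Prop :=
  (r.1 = [r.1.getD 0 0, r.1.getD 1 0] ∧
      ((r.2 = 2 ∧ hf (V.getD (r.1.getD 1 0) 0) (V.getD (r.1.getD 0 0) 0) = 0) ∨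
        (r.2 = 3 ∧ hf (V.getD (r.1.getD 1 0) 0) (V.getD (r.1.getD 0 0) 0) ≠ 0))) ∨
    (r.2 = 1 ∧ r.1 = r.1.take ((r.1.length - 2) / 2) ++ [r.1.getLastD 0] ++
        (r.1.take ((r.1.length - 2) / 2)).reverse ++ [r.1.getLastD 0] ∧
      ∃ c : Four, c ≠ 0 ∧ act V (r.1.take ((r.1.length - 2) / 2)) (V.getD (r.1.getLastD 0) 0) =
        c • V.getD (r.1.getLastD 0) 0)

omit hV in
instance (V : List (Vec n)) (r : PowRel) : Decidable (RelOK V r) := by unfold RelOK; infer_instance

theorem sat_letter {k : ℕ} {rels : List PowRel} (hk : V.length = k) (hrels : ∀ r ∈ rels, RelOK V r) :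
    Sat k rels (letter V) := by
  refine ⟨fun x => tr_mul_self _, fun x hx => ?_, fun r hr => ?_⟩
  · rw [letter, List.getD_eq_default _ _ (hk ▸ hx), tr_zero]
  · rcases hrels r hr with ⟨hw, ⟨hm, h⟩ | ⟨hm, h⟩⟩ | ⟨hm, hw, c, hc, h⟩
    · rw [hm, hw]
      set a := r.1.getD 0 0; set b := r.1.getD 1 0
      simp only [ev, List.map_cons, List.map_nil, List.prod_cons, List.prod_nil, mul_one, letter]
      rw [(tr_commute (isotropic_getD hV a) (isotropic_getD hV b) h).mul_pow, pow_two, pow_two, tr_mul_self,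
        tr_mul_self, one_mul]
    · rw [hm, hw]
      simp only [ev, List.map_cons, List.map_nil, List.prod_cons, List.prod_nil, mul_one, letter]
      exact tr_cube (isotropic_getD hV _) (isotropic_getD hV _) h
    · rw [hm, hw, pow_one, ev_append, ev_point hV, h, tr_smul (isotropic_getD hV _) hc]
      simp [ev, letter, tr_mul_self]

end CfsgLib.Invol.TriSolv.Model
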