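/-!
Points of the unitary spaces over four elements: packed vectors, each with a generator and a word carrying
that generator there. Found by a search; checked in `ModelFour`, `ModelFive`.
-/

set_option autoImplicit false

namespace CfsgLib.Invol.TriSolv.Model

/-- The generators. -/
def gensFour : List Nat := [80, 144, 85, 9, 5, 165]

/-- The points. -/
def tabFour : List (Nat × Nat × List Nat) := [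
  (80, 0, []),
  (144, 1, []),
  (85, 2, []),
  (9, 3, []),
  (5, 4, []),
  (165, 5, []),
  (208, 0, [1]),
  (181, 1, [2]),
  (213, 1, [5]),
  (173, 2, [3]),
  (13, 3, [4]),
  (253, 3, [5]),
  (229, 0, [2, 1]),
  (117, 0, [5, 1]),
  (221, 1, [3, 2]),
  (149, 1, [5, 2]),
  (109, 1, [3, 5]),
  (249, 2, [4, 3]),
  (169, 2, [5, 3]),
  (89, 3, [5, 4]),
  (125, 0, [3, 2, 1]),
  (101, 0, [5, 2, 1]),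
  (157, 0, [3, 5, 1]),
  (105, 1, [4, 3, 2]),
  (65, 1, [5, 3, 2]),
  (237, 1, [3, 5, 2]),
  (36, 1, [2, 3, 5]),
  (185, 1, [4, 3, 5]),
  (93, 2, [5, 4, 3]),
  (217, 2, [1, 5, 3]),
  (153, 0, [4, 3, 2, 1]),
  (17, 0, [5, 3, 2, 1]),
  (245, 0, [1, 5, 2, 1]),
  (189, 0, [3, 5, 2, 1]),
  (132, 0, [2, 3, 5, 1]),
  (233, 0, [4, 3, 5, 1]),
  (68, 1, [5, 4, 3, 2]),
  (49, 1, [1, 5, 3, 2]),
  (196, 1, [3, 5, 3, 2]),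
  (121, 1, [4, 3, 5, 2]),
  (33, 1, [4, 2, 3, 5]),
  (20, 0, [5, 4, 3, 2, 1]),
  (129, 0, [1, 5, 3, 2, 1]),
  (52, 0, [3, 5, 3, 2, 1]),
  (193, 0, [2, 3, 5, 2, 1])]

/-- The generators. -/
def gensFive : List Nat := [320, 576, 340, 36, 20, 660, 257]

/-- The points. -/
def tabFive : List (Nat × Nat × List Nat) := [
  (320, 0, []),
  (576, 1, []),
  (340, 2, []),
  (36, 3, []),
  (20, 4, []),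
  (660, 5, []),
  (257, 6, []),
  (832, 0, [1]),
  (65, 0, [6]),
  (724, 1, [2]),
  (852, 1, [5]),
  (193, 1, [6]),
  (692, 2, [3]),
  (85, 2, [6]),
  (52, 3, [4]),
  (1012, 3, [5]),
  (125, 5, [6]),
  (916, 0, [2, 1]),
  (468, 0, [5, 1]),
  (129, 0, [6, 1]),
  (513, 0, [1, 6]),
  (277, 0, [2, 6]),
  (317, 0, [5, 6]),
  (884, 1, [3, 2]),
  (596, 1, [5, 2]),
  (189, 1, [6, 2]),
  (436, 1, [3, 5]),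
  (169, 1, [6, 5]),
  (769, 1, [0, 6]),
  (829, 1, [2, 6]),
  (809, 1, [5, 6]),
  (996, 2, [4, 3]),
  (676, 2, [5, 3]),
  (109, 2, [6, 3]),
  (533, 2, [1, 6]),
  (297, 2, [5, 6]),
  (356, 3, [5, 4]),
  (89, 3, [6, 5]),
  (573, 5, [1, 6]),
  (500, 0, [3, 2, 1]),
  (404, 0, [5, 2, 1]),
  (233, 0, [6, 2, 1]),
  (628, 0, [3, 5, 1]),
  (213, 0, [6, 5, 1]),
  (553, 0, [2, 6, 1]),
  (149, 0, [5, 1, 6]),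
  (301, 0, [3, 2, 6]),
  (105, 0, [5, 2, 6]),
  (253, 0, [1, 5, 6]),
  (281, 0, [3, 5, 6]),
  (420, 1, [4, 3, 2]),
  (260, 1, [5, 3, 2]),
  (153, 1, [6, 3, 2]),
  (948, 1, [3, 5, 2]),
  (144, 1, [2, 3, 5]),
  (740, 1, [4, 3, 5]),
  (181, 1, [6, 3, 5]),
  (793, 1, [3, 2, 6]),
  (821, 1, [3, 5, 6]),
  (372, 2, [5, 4, 3]),
  (121, 2, [6, 4, 3]),
  (868, 2, [1, 5, 3]),
  (93, 2, [6, 5, 3]),
  (557, 2, [1, 6, 3]),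
  (901, 2, [5, 6, 3]),
  (309, 2, [3, 5, 6]),
  (101, 3, [6, 5, 4]),
  (537, 3, [1, 6, 5]),
  (753, 3, [2, 6, 5]),
  (612, 0, [4, 3, 2, 1]),
  (68, 0, [5, 3, 2, 1]),
  (245, 0, [6, 3, 2, 1]),
  (980, 0, [1, 5, 2, 1]),
  (756, 0, [3, 5, 2, 1]),
  (789, 0, [2, 6, 2, 1]),
  (528, 0, [2, 3, 5, 1]),
  (932, 0, [4, 3, 5, 1]),
  (237, 0, [6, 3, 5, 1]),
  (565, 0, [3, 2, 6, 1]),
  (173, 0, [3, 5, 1, 6]),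
  (313, 0, [4, 3, 2, 6]),
  (709, 0, [5, 3, 2, 6]),
  (117, 0, [3, 5, 2, 6]),
  (217, 0, [3, 1, 5, 6]),
  (945, 0, [2, 3, 5, 6]),
  (293, 0, [4, 3, 5, 6]),
  (272, 1, [5, 4, 3, 2]),
  (165, 1, [6, 4, 3, 2]),
  (196, 1, [1, 5, 3, 2]),
  (784, 1, [3, 5, 3, 2]),
  (5, 1, [6, 5, 3, 2]),
  (461, 1, [2, 6, 3, 2]),
  (881, 1, [5, 6, 3, 2]),
  (484, 1, [4, 3, 5, 2]),
  (132, 1, [4, 2, 3, 5]),
  (157, 1, [6, 4, 3, 5]),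
  (457, 1, [5, 6, 3, 5]),
  (805, 1, [4, 3, 2, 6]),
  (397, 1, [5, 3, 2, 6]),
  (609, 1, [2, 3, 5, 6]),
  (797, 1, [4, 3, 5, 6]),
  (569, 2, [1, 6, 4, 3]),
  (913, 2, [5, 6, 4, 3]),
  (185, 2, [6, 1, 5, 3]),
  (285, 2, [0, 6, 5, 3]),
  (541, 2, [1, 6, 5, 3]),
  (929, 2, [2, 6, 5, 3]),
  (713, 2, [5, 6, 5, 3]),
  (465, 2, [2, 1, 6, 3]),
  (549, 3, [1, 6, 5, 4]),
  (717, 3, [2, 6, 5, 4]),
  (845, 3, [2, 1, 6, 5]),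
  (497, 3, [5, 1, 6, 5]),
  (369, 3, [1, 2, 6, 5]),
  (80, 0, [5, 4, 3, 2, 1]),
  (221, 0, [6, 4, 3, 2, 1]),
  (516, 0, [1, 5, 3, 2, 1]),
  (208, 0, [3, 5, 3, 2, 1]),
  (417, 0, [2, 6, 3, 2, 1]),
  (772, 0, [2, 3, 5, 2, 1]),
  (813, 0, [3, 2, 6, 2, 1]),
  (49, 0, [6, 2, 3, 5, 1]),
  (249, 0, [6, 4, 3, 5, 1]),
  (581, 0, [2, 6, 3, 5, 1]),
  (401, 0, [5, 6, 3, 5, 1]),
  (841, 0, [5, 3, 2, 6, 1]),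
  (849, 0, [2, 3, 5, 1, 6]),
  (721, 0, [5, 4, 3, 2, 6]),
  (325, 0, [1, 5, 3, 2, 6]),
  (737, 0, [3, 5, 3, 2, 6]),
  (909, 0, [6, 5, 3, 2, 6]),
  (905, 0, [2, 3, 5, 2, 6]),
  (229, 0, [4, 3, 1, 5, 6]),
  (589, 0, [5, 3, 1, 5, 6]),
  (17, 1, [6, 5, 4, 3, 2]),
  (33, 1, [6, 3, 5, 3, 2]),
  (337, 1, [2, 6, 5, 3, 2]),
  (657, 1, [5, 6, 5, 3, 2]),
  (689, 1, [1, 5, 6, 3, 2]),
  (481, 1, [5, 6, 4, 3, 5]),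
  (433, 1, [5, 4, 3, 2, 6]),
  (973, 1, [1, 5, 3, 2, 6]),
  (585, 1, [4, 2, 3, 5, 6]),
  (977, 1, [6, 2, 3, 5, 6]),
  (453, 2, [2, 1, 6, 4, 3]),
  (825, 2, [1, 6, 1, 5, 3]),
  (837, 2, [2, 6, 1, 5, 3]),
  (865, 2, [5, 1, 6, 5, 3]),
  (329, 2, [1, 5, 6, 5, 3]),
  (333, 3, [1, 2, 6, 5, 4]),
  (653, 3, [1, 2, 1, 6, 5]),
  (645, 3, [6, 2, 1, 6, 5]),
  (13, 3, [5, 1, 2, 6, 5]),
  (393, 0, [2, 6, 4, 3, 2, 1]),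
  (993, 0, [1, 2, 6, 3, 2, 1]),
  (389, 0, [3, 2, 6, 3, 2, 1]),
  (9, 0, [6, 2, 3, 5, 2, 1]),
  (593, 0, [5, 3, 2, 6, 2, 1]),
  (649, 0, [1, 5, 3, 2, 6, 1]),
  (673, 0, [6, 2, 3, 5, 1, 6]),
  (353, 0, [3, 1, 5, 3, 2, 6]),
  (625, 0, [5, 4, 3, 1, 5, 6]),
  (969, 0, [6, 5, 3, 1, 5, 6]),
  (965, 1, [5, 2, 6, 5, 3, 2]),
  (1009, 1, [1, 5, 4, 3, 2, 6])]

end CfsgLib.Invol.TriSolv.Model
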