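import Cfsg.Agent.Lib.Invol.TriSolv.Model

/-!
# Tables of all isotropic points, and generation by the chosen transvections
-/

set_option autoImplicit false

namespace CfsgLib.Invol.TriSolv.Model

open Matrix CfsgLib.Spor.TC CfsgLib.SU
open CfsgLib.Spor.Fi22.U6 (Four)

/-- Two bits to an element. -/
def ofNat4 : ℕ → Four
  | 0 => .o
  | 1 => .e
  | 2 => .w
  | _ => .u

/-- An element to two bits. -/
def toNat4 : Four → ℕ
  | .o => 0
  | .e => 1
  | .w => 2
  | .u => 3

/-- A packed vector. -/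
def dec (n p : ℕ) : Vec n := fun i => ofNat4 ((p >>> (2 * i.1)) &&& 3)

/-- Packing. -/
def enc {n : ℕ} (v : Vec n) : ℕ := ((List.finRange n).map fun i => toNat4 (v i) <<< (2 * i.1)).sum

variable {n : ℕ}

/-- The code of a point. -/
def code (T : List (ℕ × ℕ × List ℕ)) (p : ℕ) : ℕ := (T.getD p (0, 0, [])).1

/-- The word of a point, a palindrome. -/
def pword (T : List (ℕ × ℕ × List ℕ)) (p : ℕ) : List ℕ :=
  (T.getD p (0, 0, [])).2.2 ++ [(T.getD p (0, 0, [])).2.1] ++ (T.getD p (0, 0, [])).2.2.reverse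

/-- The vector of a point. -/
def vec (n : ℕ) (T : List (ℕ × ℕ × List ℕ)) (p : ℕ) : Vec n := dec n (code T p)

/-- A point carried by a word. -/
def move_pt (n : ℕ) (V : List (Vec n)) (T : List (ℕ × ℕ × List ℕ)) (w : List ℕ) (p : ℕ) : Vec n :=
  act V w (vec n T p)

/-- The table lists all points once, each with a word leading to it. -/
structure TabOK (V : List (Vec n)) (T : List (ℕ × ℕ × List ℕ)) : Prop where
  three : 3 ≤ n
  cop : Nat.gcd n 3 = 1
  iso : ∀ v ∈ V, hf v v = 0
  pt : ∀ p < T.length, (T.getD p (0, 0, [])).2.1 < V.length ∧ (∀ x ∈ (T.getD p (0, 0, [])).2.2, x < V.length) ∧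
    ∃ c : Four, c ≠ 0 ∧ act V (T.getD p (0, 0, [])).2.2 (V.getD (T.getD p (0, 0, [])).2.1 0) = c • vec n T p
  pt_ne : ∀ p < T.length, vec n T p ≠ 0
  apart : ∀ p < T.length, ∀ c : Four, c ≠ 0 →
    (T.map Prod.fst).idxOf (enc (c • vec n T p)) = if c = 1 then p else T.length
  code_lt : ∀ p < T.length, code T p < 4 ^ n
  enc_dec : ∀ p < 4 ^ n, enc (dec n p) = p
  cover : ∀ p < 4 ^ n, hf (dec n p) (dec n p) = 0 → p ≠ 0 →
    ∃ c : Four, c ≠ 0 ∧ enc (c • dec n p) ∈ T.map Prod.fst

theorem card_four : Fintype.card Four = 2 ^ 2 := Four.card_four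

theorem simple_psu (hn : 3 ≤ n) (hne : n ≠ 3) : IsSimpleGroup (Cfsg.PSU n Four 2) :=
  CfsgLib.Classical.psu_isSimple (q := 2) Four.card_four hn (fun h => hne h.1)

namespace TabOK

variable {V : List (Vec n)} {T : List (ℕ × ℕ × List ℕ)} (O : TabOK V T)
include O

theorem center_eq_bot : Subgroup.center (SUn n) = ⊥ := by
  obtain ⟨C⟩ := CfsgLib.Classical.uctx_exists (F := Four) (q := 2) card_four
  refine Subgroup.card_eq_one.1 ?_
  rw [C.card_center_su card_four O.three]
  exact O.cop

theorem simple : IsSimpleGroup (SUn n) := by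
  haveI := simple_psu O.three (fun e => by have := O.cop; rw [e] at this; norm_num at this)
  exact ((QuotientGroup.quotientMulEquivOfEq O.center_eq_bot).trans QuotientGroup.quotientBot).symm.isSimpleGroup

/-- The projective group is the linear one. -/
noncomputable def psuEquiv : Cfsg.PSU n Four 2 ≃* SUn n :=
  (QuotientGroup.quotientMulEquivOfEq O.center_eq_bot).trans QuotientGroup.quotientBot

theorem vec_iso {p : ℕ} (hp : p < T.length) : hf (vec n T p) (vec n T p) = 0 := by
  obtain ⟨-, -, c, hc, h⟩ := O.pt p hp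
  have h2 := act_isotropic O.iso (T.getD p (0, 0, [])).2.2 (isotropic_getD O.iso (T.getD p (0, 0, [])).2.1)
  rw [h, hf_smul_left, hf_smul_right, ← mul_assoc,
    show c * c ^ 2 = 1 from (by decide : ∀ d : Four, d ≠ 0 → d * d ^ 2 = 1) c hc, one_mul] at h2
  exact h2

theorem ev_pword {p : ℕ} (hp : p < T.length) : ev (letter V) (pword T p) = tr (vec n T p) := by
  obtain ⟨-, -, c, hc, h⟩ := O.pt p hp
  rw [pword, ev_point O.iso, h, tr_smul (O.vec_iso hp) hc]

theorem pword_lt {p : ℕ} (hp : p < T.length) : ∀ x ∈ pword T p, x < V.length := by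
  obtain ⟨h1, h2, -⟩ := O.pt p hp
  intro x hx
  simp only [pword, List.mem_append, List.mem_singleton, List.mem_reverse] at hx
  rcases hx with (hx | rfl) | hx
  exacts [h2 x hx, h1, h2 x hx]

theorem dec_enc (v : Vec n) : dec n (enc v) = v ∧ enc v < 4 ^ n := by
  have hinj : Function.Injective fun p : Fin (4 ^ n) => dec n p := fun p q h => Fin.ext (by
    have := congrArg enc h
    rwa [O.enc_dec _ p.2, O.enc_dec _ q.2] at this)
  have hb := hinj.bijective_of_nat_card_le (by
    rw [Nat.card_fin, Nat.card_eq_fintype_card, Fintype.card_fun, Four.card_four, Fintype.card_fin])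
  obtain ⟨p, rfl⟩ := hb.2 v
  simp only [O.enc_dec _ p.2]
  exact ⟨trivial, p.2⟩

theorem eq_of_smul {p q : ℕ} (hp : p < T.length) (hq : q < T.length) {c : Four} (hc : c ≠ 0)
    (h : c • vec n T p = vec n T q) : p = q := by
  have e2 : enc (vec n T q) = code T q := O.enc_dec _ (O.code_lt q hq)
  have h1 := O.apart q hq 1 one_ne_zero
  rw [one_smul, e2, if_pos rfl] at h1
  have h2 := O.apart p hp c hc
  rw [h, e2, h1] at h2
  split_ifs at h2
  · exact h2.symm
  · omega

theorem tr_inj {p q : ℕ} (hp : p < T.length) (hq : q < T.length) (h : tr (vec n T p) = tr (vec n T q)) :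
    p = q := by
  obtain ⟨c, hc, e⟩ := exists_smul_of_tr_eq (O.vec_iso hp) (O.vec_iso hq) (O.pt_ne q hq) h
  exact O.eq_of_smul hp hq hc e.symm

theorem commute_iff {p q : ℕ} (hp : p < T.length) (hq : q < T.length) :
    Commute (tr (vec n T p)) (tr (vec n T q)) ↔ hf (vec n T q) (vec n T p) = 0 := by
  refine ⟨fun h => ?_, tr_commute (O.vec_iso hp) (O.vec_iso hq)⟩
  by_contra hne
  have e := tr_conj (tr (vec n T p)) (O.vec_iso hq)
  rw [h.eq, mul_inv_cancel_right, tr_mulVec (O.vec_iso hp)] at e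
  have hiso : hf (move (vec n T p) (vec n T q)) (move (vec n T p) (vec n T q)) = 0 := by
    rw [← tr_mulVec (O.vec_iso hp), hf_mat, O.vec_iso hq]
  obtain ⟨c, -, he⟩ := exists_smul_of_tr_eq hiso (O.vec_iso hq) (O.pt_ne q hq) e.symm
  set a := hf (vec n T q) (vec n T p) with ha
  have hp0 := O.vec_iso hp
  have h1 := congrArg (fun x => hf x (vec n T p)) he
  simp only [move, hf_smul_left, hf_add_left, hp0, mul_zero, add_zero, ← ha] at h1
  have hc1 : c = 1 := (mul_eq_right₀ hne).1 h1.symm
  rw [hc1, one_smul, move, ← ha, left_eq_add, smul_eq_zero] at he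
  exact he.elim hne (O.pt_ne p hp)

/-- The transvections of the generators generate. -/
theorem generates : Subgroup.closure (letter V '' Set.Iio V.length) = ⊤ := by
  set S := Subgroup.closure (letter V '' Set.Iio V.length)
  have hpt : ∀ v : Vec n, hf v v = 0 → v ≠ 0 → tr v ∈ S := by
    intro v hv hv0
    obtain ⟨hd, hlt⟩ := O.dec_enc v
    obtain ⟨c, hc, hm⟩ := O.cover (enc v) hlt (by rw [hd]; exact hv) (fun h => hv0 (by
      rw [← hd, h]; funext i; simp [dec, ofNat4]; rfl))
    rw [hd, List.mem_map] at hm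
    obtain ⟨t, ht, he⟩ := hm
    obtain ⟨p, hp, rfl⟩ := List.mem_iff_getElem.1 ht
    have e : vec n T p = c • v := by
      rw [vec, code, List.getD_eq_getElem _ _ hp, he]
      exact (O.dec_enc _).1
    rw [← tr_smul hv hc, ← e, ← O.ev_pword hp]
    exact ev_mem fun x hx => Subgroup.subset_closure ⟨x, O.pword_lt hp x hx, rfl⟩
  rw [eq_top_iff, ← CfsgLib.Perm.Trans.Unit.su_closure (q := 2) card_four n O.three
    (fun h => by have := O.cop; rw [h.1] at this; norm_num at this), Subgroup.closure_le]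
  rintro A ⟨v, c, hv, hA⟩
  have hmv : ∀ x, A.1.1 *ᵥ x = x + (c * hf x v) • v := fun x => by
    rw [hA, CfsgLib.Perm.Trans.Unit.unitaryTransvection_mulVec]
  by_cases h1 : c = 0 ∨ v = 0
  · have : A = 1 := ext_vec fun x => by
      rw [hmv, mat_one]; rcases h1 with rfl | rfl <;> simp
    rw [this]; exact one_mem S
  · push Not at h1
    obtain ⟨j, hj⟩ : ∃ j, v j ≠ 0 := Function.ne_iff.1 h1.2
    have e := hf_mat A (Pi.single j 1) (Pi.single j 1)
    rw [hmv, hf_add_left, hf_add_right, hf_add_right, hf_smul_left, hf_smul_left, hf_smul_right, hf_smul_right,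
      show hf v v = 0 from hv, ← hf_swap (Pi.single j 1) v, hf_single j v] at e
    have hc : c = 1 := by
      have key : ∀ c a b : Four, c ≠ 0 → a ≠ 0 →
          b + (c * a ^ 2) ^ 2 * a ^ 2 + (c * a ^ 2 * (a ^ 2) ^ 2 + c * a ^ 2 * ((c * a ^ 2) ^ 2 * 0)) = b → c = 1 := by
        decide
      exact key c (v j) _ h1.1 hj e
    have : A = tr v := ext_vec fun x => by rw [hmv, tr_mulVec hv, move, hc, one_mul]
    rw [this]; exact hpt v hv h1.2

theorem presHom_sat_surjective {k : ℕ} {rels : List PowRel} (hs : Sat k rels (letter V)) (hk : V.length = k) :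
    Function.Surjective (presHom hs) :=
  presHom_surjective hs (hk ▸ O.generates)

end TabOK

end CfsgLib.Invol.TriSolv.Model
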