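/-!
A nine-point set meeting each of the twenty-seven lines of the forty-five points once, found by a search;
checked in `OvoidFacts`.
-/

set_option autoImplicit false

namespace CfsgLib.Invol.TriSolv.Ovoid

/-- The nine points. -/
def ptsA : List Nat := [3, 4, 10, 26, 31, 37, 40, 41, 43]

/-- The nine points of the other kind. -/
def ptsB : List Nat := [3, 4, 10, 24, 34, 36, 38, 42, 44]

/-- The three points known beforehand. -/
def trio : List Nat := [3, 4, 10]

/-- The points commuting with both known generators. -/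
def centre : List Nat := [0, 1, 6]

/-- The seed. -/
def seed : Nat := 26

/-- Triples `a, b, a b a`. -/
def thirds : List (Nat × Nat × Nat) := [(3, 4, 10), (3, 26, 37), (3, 24, 38)]

/-- The lines. -/
def lines : List (List Nat) := [
  [0, 2, 4, 5, 32],
  [0, 3, 17, 18, 19],
  [0, 9, 10, 11, 28],
  [1, 3, 30, 35, 39],
  [1, 4, 12, 13, 15],
  [1, 10, 20, 22, 25],
  [2, 14, 30, 31, 36],
  [2, 20, 23, 24, 41],
  [3, 6, 23, 27, 29],
  [4, 6, 7, 8, 21],
  [5, 16, 34, 35, 40],
  [5, 22, 26, 27, 42],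
  [6, 10, 14, 16, 33],
  [7, 9, 30, 42, 43],
  [7, 17, 20, 34, 37],
  [8, 11, 35, 41, 44],
  [8, 19, 22, 31, 38],
  [9, 12, 23, 38, 40],
  [11, 13, 27, 36, 37],
  [12, 14, 17, 26, 44],
  [13, 16, 19, 24, 43],
  [15, 18, 33, 41, 42],
  [15, 28, 29, 31, 34],
  [18, 21, 25, 36, 40],
  [21, 24, 26, 28, 39],
  [25, 29, 32, 43, 44],
  [32, 33, 37, 38, 39]]

end CfsgLib.Invol.TriSolv.Ovoid
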