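import Cfsg.Agent.Lib.Invol.TriSolv.ModelFour
import Cfsg.Agent.Lib.Invol.TriSolv.OvoidData

/-!
# The pattern of an outside point on the forty-five
-/

set_option autoImplicit false
set_option maxRecDepth 100000
set_option synthInstance.maxSize 2000
set_option synthInstance.maxHeartbeats 200000

namespace CfsgLib.Invol.TriSolv.Ovoid

open CfsgLib.Invol.TriSolv.Model
open CfsgLib.Spor.Fi22.U6 (Four)

/-- A point of the forty-five. -/
abbrev v45 (q : ℕ) : Vec 4 := vec 4 tabFour q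

/-- The word carries `p` to `q`. -/
def Carries (w : List ℕ) (p q : ℕ) : Prop :=
  ∃ c : Four, c ≠ 0 ∧ move_pt 4 vecsFour tabFour w p = c • v45 q

instance (w : List ℕ) (p q : ℕ) : Decidable (Carries w p q) := by unfold Carries; infer_instance

/-- One round of propagation: a line has exactly one marked point, marked pairs have their third marked. -/
def step (s : List ℕ × List ℕ) : List ℕ × List ℕ :=
  ((List.range 45).filter fun p => s.1.contains p ||
      lines.any (fun l => l.contains p && l.all (fun t => t == p || s.2.contains t)) ||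
      thirds.any (fun t => t.2.2 == p && s.1.contains t.1 && s.1.contains t.2.1),
    (List.range 45).filter fun p => s.2.contains p ||
      lines.any (fun l => l.contains p && l.any (fun t => t != p && s.1.contains t)))

/-- Several rounds. -/
def close : ℕ → List ℕ × List ℕ → List ℕ × List ℕ
  | 0, s => s
  | k + 1, s => close k (step s)

theorem step_sound (χ : ℕ → Prop) (hex : ∀ l ∈ lines, ∃ t ∈ l, χ t)
    (huniq : ∀ l ∈ lines, ∀ a ∈ l, ∀ b ∈ l, χ a → χ b → a = b)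
    (hth : ∀ t ∈ thirds, χ t.1 → χ t.2.1 → χ t.2.2) {s : List ℕ × List ℕ}
    (h1 : ∀ p ∈ s.1, χ p) (h2 : ∀ p ∈ s.2, ¬ χ p) :
    (∀ p ∈ (step s).1, χ p) ∧ ∀ p ∈ (step s).2, ¬ χ p := by
  refine ⟨fun p hp => ?_, fun p hp => ?_⟩
  · simp only [step, List.mem_filter, Bool.or_eq_true, List.any_eq_true, Bool.and_eq_true, List.contains_iff_mem,
      List.all_eq_true, beq_iff_eq] at hp
    rcases hp.2 with (h | ⟨l, hl, hpl, hall⟩) | ⟨t, ht, ⟨rfl, ha⟩, hb⟩
    · exact h1 p h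
    · obtain ⟨t, ht, hχ⟩ := hex l hl
      rcases hall t ht with rfl | hF
      · exact hχ
      · exact absurd hχ (h2 t hF)
    · exact hth t ht (h1 _ ha) (h1 _ hb)
  · simp only [step, List.mem_filter, Bool.or_eq_true, List.any_eq_true, Bool.and_eq_true, List.contains_iff_mem,
      bne_iff_ne] at hp
    rcases hp.2 with h | ⟨l, hl, hpl, t, ht, htp, htT⟩
    · exact h2 p h
    · exact fun hχ => htp (huniq l hl t ht p hpl (h1 t htT) hχ)

theorem close_sound (χ : ℕ → Prop) (hex : ∀ l ∈ lines, ∃ t ∈ l, χ t)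
    (huniq : ∀ l ∈ lines, ∀ a ∈ l, ∀ b ∈ l, χ a → χ b → a = b)
    (hth : ∀ t ∈ thirds, χ t.1 → χ t.2.1 → χ t.2.2) (k : ℕ) :
    ∀ {s : List ℕ × List ℕ}, (∀ p ∈ s.1, χ p) → (∀ p ∈ s.2, ¬ χ p) → ∀ p ∈ (close k s).1, χ p := by
  induction k with
  | zero => intro s h1 _; exact h1
  | succ k ih =>
    intro s h1 h2
    exact ih (step_sound χ hex huniq hth h1 h2).1 (step_sound χ hex huniq hth h1 h2).2

theorem close_true : ∀ p ∈ ptsA, p ∈ (close 6 ([3, 4, seed], [])).1 := by decide +kernel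

theorem close_false : ∀ p ∈ ptsB, p ∈ (close 6 ([3, 4], [seed])).1 := by decide +kernel

/-- Either the seed is marked and with it the first kind, or the second kind is. -/
theorem dichotomy (χ : ℕ → Prop) (hex : ∀ l ∈ lines, ∃ t ∈ l, χ t)
    (huniq : ∀ l ∈ lines, ∀ a ∈ l, ∀ b ∈ l, χ a → χ b → a = b)
    (hth : ∀ t ∈ thirds, χ t.1 → χ t.2.1 → χ t.2.2) (h3 : χ 3) (h4 : χ 4) :
    (∀ p ∈ ptsA, χ p) ∨ ∀ p ∈ ptsB, χ p := by
  by_cases hs : χ seed
  · exact Or.inl fun p hp => close_sound χ hex huniq hth 6 (s := ([3, 4, seed], []))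
      (by simp [h3, h4, hs]) (by simp) p (close_true p hp)
  · exact Or.inr fun p hp => close_sound χ hex huniq hth 6 (s := ([3, 4], [seed]))
      (by simp [h3, h4]) (by simp [hs]) p (close_false p hp)

theorem pts_lt : (∀ p ∈ ptsA, p < 45) ∧ (∀ p ∈ ptsB, p < 45) ∧ ∀ p ∈ centre, p < 45 := by decide +kernel

theorem lines_ok : ∀ l ∈ lines, l.Nodup ∧ l.length = 5 ∧ ∀ a ∈ l, a < 45 ∧ ∀ b ∈ l, hf (v45 b) (v45 a) = 0 := by
  decide +kernel

theorem thirds_ok : ∀ t ∈ thirds, t.1 < 45 ∧ t.2.1 < 45 ∧ t.2.2 < 45 ∧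
    Carries (pword tabFour t.1) t.2.1 t.2.2 := by decide +kernel

theorem centre_ok : ∀ q < 45, hf (v45 q) (v45 3) = 0 → hf (v45 q) (v45 4) = 0 → q ∈ centre := by decide +kernel

theorem centre_commute : centre.Nodup ∧ ∀ q ∈ centre, hf (v45 3) (v45 q) = 0 ∧ hf (v45 4) (v45 q) = 0 := by
  decide +kernel

theorem three_four : hf (v45 4) (v45 3) ≠ 0 := by decide +kernel

theorem no_centre : ∀ q < 45, ∃ a ∈ ptsA, hf (v45 a) (v45 q) ≠ 0 := by decide +kernel

theorem letters_carry : ∀ x < 6, ∀ q < 45, ∃ q' < 45, Carries [x] q q' := by decide +kernel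

theorem zero_swaps : ∀ q ∈ ptsA, ∃ q' ∈ ptsB, Carries [0] q q' := by decide +kernel

theorem words_stab : ∀ w ∈ [[1, 0], [2, 1, 5, 0]], ∀ q ∈ ptsA,
    (∃ q' ∈ ptsA, Carries w q q') ∧ ∃ q' ∈ ptsA, Carries w.reverse q q' := by decide +kernel

theorem fix_order : ∀ p < 45, Carries (CfsgLib.Spor.TC.powWord [1, 0, 2, 1, 5, 0, 0, 1, 0, 5, 1, 2] 4) p p := by
  decide +kernel

theorem gens_points : ∀ x < 6, pword tabFour x = [x] := by decide +kernel

theorem outside_pattern : ∀ x ∈ [0, 1, 2, 5], x ∉ ptsA ∧ ∃ l ∈ lines, x ∈ l ∧ ∃ a ∈ ptsA, a ∈ l := by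
  decide +kernel

end CfsgLib.Invol.TriSolv.Ovoid
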