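import Cfsg.Agent.Lib.Invol.TriSolv.Axiom

/-!
# Fischer, `D_x` solvable: elements generated by the points of a line

Such an element which fixes every line at a point `a` of the line and one further point commuting with `a`
centralises everything commuting with `a`.
-/

set_option autoImplicit false

namespace CfsgLib.Invol.TriSolv

open CfsgLib.Spor.Tri

universe u

variable {G : Type u} [Group G] {D : Set G}

/-- `w` maps every line at `p` to itself. -/
def Fixes (D : Set G) (p w : G) : Prop :=
  Commute w p ∧ ∀ y ∈ perp D p, w * y * w⁻¹ ∈ line D p y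

variable [Finite G]

namespace Geo

variable {e j : ℕ} (L : Geo D e j)
include L

theorem line_card_ne {a b : G} (ha : a ∈ D) (hb : b ∈ perp D a) :
    ∃ z ∈ line D a b, z ≠ a ∧ z ≠ b := by
  by_contra hcon
  push Not at hcon
  have hsub : line D a b ⊆ {a, b} := fun z hz => by
    by_cases e : z = a
    · exact Or.inl e
    · exact Or.inr (hcon z hz e)
  have := Set.ncard_le_ncard hsub (Set.toFinite _)
  rw [L.line_card a ha b hb, Set.ncard_pair hb.2.1.symm] at this
  have := Nat.pow_le_pow_right (n := 2) (by norm_num) L.e_pos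
  omega

/-- The subgroup of elements mapping every line at `p` to itself. -/
def fixer {p : G} (hp : p ∈ D) : Subgroup G where
  carrier := {w | Fixes D p w}
  one_mem' := ⟨Commute.one_left p, fun y hy => by simpa using right_mem_line hy.1⟩
  mul_mem' := fun {u v} hu hv => ⟨hu.1.mul_left hv.1, fun y hy => by
    have h1 := hv.2 y hy
    have hne : v * y * v⁻¹ ≠ p := fun e => hy.2.1 (mul_left_cancel (mul_right_cancel (e.trans
      (show p = v * p * v⁻¹ by rw [hv.1.eq, mul_inv_cancel_right]))))
    have h2 := hu.2 _ (L.line_subset_perp hp hy h1 hne)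
    rw [L.line_eq_left hp hy h1 hne] at h2
    rwa [show u * v * y * (u * v)⁻¹ = u * (v * y * v⁻¹) * u⁻¹ by group]⟩
  inv_mem' := fun {w} hw => ⟨hw.1.inv_left, fun y hy => by
    have hy' : w⁻¹ * y * w⁻¹⁻¹ ∈ perp D p := by
      rw [← conj_eq_of_commute hw.1.inv_left, L.h.perp_conj]; exact ⟨y, hy, rfl⟩
    have h1 := hw.2 _ hy'
    rw [show w * (w⁻¹ * y * w⁻¹⁻¹) * w⁻¹ = y by group] at h1
    rw [L.line_eq_left hp hy' h1 hy.2.1]
    exact right_mem_line hy'.1⟩

theorem mem_fixer {p : G} (hp : p ∈ D) {w : G} : w ∈ L.fixer hp ↔ Fixes D p w := Iff.rfl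

/-- Two points of a line different from `p` move the lines at `p` in the same way. -/
theorem fixes_pair {p q q' : G} (hp : p ∈ D) (hq : q ∈ perp D p) (hq' : q' ∈ line D p q) (hne : q' ≠ p) :
    Fixes D p (q' * q) := by
  have hq'p : q' ∈ perp D p := L.line_subset_perp hp hq hq' hne
  refine ⟨hq'p.2.2.symm.mul_left hq.2.2.symm, fun y hy => ?_⟩
  rw [mul_inv_rev, L.h.inv_eq hq.1, L.h.inv_eq hq'p.1]
  have hqq : Commute q q' := commute_line hp hq.1 hq.2.2 (right_mem_line hq.1) hq'
  by_cases hc : Commute q y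
  · have hc' : Commute q' y := hq'.2 y hy.1 hy.2.2 hc
    rw [show q' * q * y * (q * q') = q' * (q * y * q) * q' by group, L.h.conj_fix hq.1 hc, L.h.conj_fix hq'p.1 hc']
    exact right_mem_line hy.1
  have hc' : ¬ Commute q' y := fun h => hc <| by
    have h1 : y ∈ line D p q' := (L.mem_line_iff hp hq'p).2 ⟨hy.1, hy.2.2, h⟩
    rw [L.line_eq_left hp hq hq' hne] at h1
    exact (commute_right hq.1 hq.2.2 h1).symm
  refine (L.mem_line_iff hp hy).2 ⟨?_, ?_, ?_⟩
  · rw [show q' * q * y * (q * q') = q' * (q * y * q) * q' by group]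
    exact L.h.conj_mem' hq'p.1 (L.h.conj_mem' hq.1 hy.1)
  · exact ((hq'p.2.2.mul_right hq.2.2).mul_right hy.2.2).mul_right (hq.2.2.mul_right hq'p.2.2)
  · have h1 : Commute (q' * y * q') (q * y * q) := by
      rw [L.h.braid hq'p.1 hy.1 hc', L.h.braid hq.1 hy.1 hc]
      exact (L.h.commute_conj hy.1).2 hqq.symm
    have h2 := (L.h.commute_conj hq'p.1).2 h1
    rwa [L.h.conj_conj hq'p.1, show q' * (q * y * q) * q' = q' * q * y * (q * q') by group] at h2

/-- A fixed point off a fixed line fixes the point of the line commuting with it. -/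
theorem fix_of_proj {a b y p w : G} (ha : a ∈ D) (hb : b ∈ perp D a) (hy : y ∈ line D a b)
    (hwy : w * y * w⁻¹ ∈ line D a b) (hp : p ∈ D) (hyp : Commute p y) (hnot : p ∉ line D a b)
    (hwp : Commute w p) : w * y * w⁻¹ = y := by
  by_contra hne
  refine hnot (L.line_meet ha hb hwy hy hp ?_ hyp hne)
  have := (Commute.conj_iff w).2 hyp
  rwa [conj_eq_of_commute hwp] at this

/-- An element fixing a line pointwise, every line at two of its points, and one point `x` off it commuting
with the first, centralises everything commuting with the first. -/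
theorem rigid {a p₀ x w : G} (ha : a ∈ D) (hp₀ : p₀ ∈ perp D a) (hM : ∀ z ∈ line D a p₀, Commute w z)
    (hfa : Fixes D a w) (hf₀ : Fixes D p₀ w) (hx : x ∈ perp D a) (hxM : x ∉ line D a p₀) (hwx : Commute w x) :
    ∀ z ∈ perp D a, Commute w z := by
  have hcomm : ∀ {z : G}, w * z * w⁻¹ = z → Commute w z := fun {z} e => mul_inv_eq_iff_eq_mul.1 e
  have hxp : ¬ Commute x p₀ := fun h => hxM ((L.mem_line_iff ha hp₀).2 ⟨hx.1, hx.2.2, h.symm⟩)
  -- members commuting with `x` but not with `a`
  have step : ∀ {x : G}, x ∈ perp D a → x ∉ line D a p₀ → Commute w x → ∀ y ∈ perp D x, ¬ Commute a y → Commute w y := by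
    intro x hx hxM hwx y hy hay
    have hxp : ¬ Commute x p₀ := fun h => hxM ((L.mem_line_iff ha hp₀).2 ⟨hx.1, hx.2.2, h.symm⟩)
    obtain ⟨y₀, hy₀, hy₀p⟩ := L.exists_on_line hx.1 hy hp₀.1
    have hy₀x : y₀ ≠ x := fun e => hxp (e ▸ hy₀p).symm
    have hy₀perp : y₀ ∈ perp D p₀ := ⟨hy₀.1, fun e => hxp (e ▸ commute_left hx.1 hy.2.2 hy₀).symm, hy₀p⟩
    have hxl : x ∉ line D p₀ y₀ := fun h => hxp (commute_left hp₀.1 hy₀p h)
    have hwy₀ : Commute w y₀ := hcomm (L.fix_of_proj hp₀.1 hy₀perp (right_mem_line hy₀.1) (hf₀.2 y₀ hy₀perp)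
      hx.1 (commute_left hx.1 hy.2.2 hy₀).symm hxl hwx)
    have e1 : line D x y₀ = line D x y := L.line_eq_left hx.1 hy hy₀ hy₀x
    have hK : w * y * w⁻¹ ∈ line D x y := by
      rw [← e1]
      have := mem_line_conj L.h w (show y ∈ line D x y₀ by rw [e1]; exact right_mem_line hy.1)
      rwa [conj_eq_of_commute hwx, conj_eq_of_commute hwy₀] at this
    obtain ⟨p, hp, hpy⟩ := L.exists_on_line ha hp₀ hy.1
    refine hcomm (L.fix_of_proj hx.1 hy (right_mem_line hy.1) hK hp.1 hpy.symm (fun hpl => ?_) (hM p hp))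
    have hpa : p ≠ a := fun e => hay (e ▸ hpy).symm
    refine hxM ?_
    rw [← L.line_eq_left ha hp₀ hp hpa, L.mem_line_iff ha (L.line_subset_perp ha hp₀ hp hpa)]
    exact ⟨hx.1, hx.2.2, commute_left hx.1 hy.2.2 hpl⟩
  -- members commuting with `a` off the line of such a point
  have main : ∀ {x : G}, x ∈ perp D a → x ∉ line D a p₀ → Commute w x → ∀ z ∈ perp D a, z ∉ line D a x →
      Commute w z := by
    intro x hx hxM hwx z hz hzl
    obtain ⟨y, hy, hay⟩ : ∃ y ∈ perp D x, ¬ Commute a y := by
      by_contra hcon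
      push Not at hcon
      have hsub : perp D x ⊆ line D a x \ {x} := fun y hy =>
        ⟨(L.mem_line_iff ha hx).2 ⟨hy.1, hcon y hy, hy.2.2⟩, hy.2.1⟩
      have := Set.ncard_le_ncard hsub (Set.toFinite _)
      rw [L.perp_card x hx.1, Set.ncard_sdiff_singleton_of_mem (right_mem_line hx.1), L.line_card a ha x hx,
        Nat.add_sub_cancel] at this
      have h3 : 3 ≤ 3 ^ j := by
        calc 3 = 3 ^ 1 := (pow_one 3).symm
          _ ≤ 3 ^ j := Nat.pow_le_pow_right (by norm_num) L.j_pos
      have := Nat.mul_le_mul_left (2 ^ e) h3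
      have := Nat.one_le_two_pow (n := e)
      omega
    obtain ⟨y₁, hy₁, hy₁z⟩ := L.exists_on_line hx.1 hy hz.1
    have hy₁x : y₁ ≠ x := fun e => hzl ((L.mem_line_iff ha hx).2 ⟨hz.1, hz.2.2, (e ▸ hy₁z).symm⟩)
    have hy₁a : ¬ Commute a y₁ := fun h => hay <| by
      have hy₁p := L.line_subset_perp hx.1 hy hy₁ hy₁x
      have : a ∈ line D x y₁ := (L.mem_line_iff hx.1 hy₁p).2 ⟨ha, hx.2.2.symm, h.symm⟩
      rw [L.line_eq_left hx.1 hy hy₁ hy₁x] at this
      exact commute_right hy.1 hy.2.2 this
    have hwy₁ := step hx hxM hwx y₁ (L.line_subset_perp hx.1 hy hy₁ hy₁x) hy₁a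
    exact hcomm (L.fix_of_proj ha hz (right_mem_line hz.1) (hfa.2 z hz) hy₁.1 hy₁z.symm
      (fun h => hy₁a (commute_left ha hz.2.2 h).symm) hwy₁)
  intro z hz
  by_cases hzl : z ∈ line D a x
  · -- a third line
    obtain ⟨x', hx', h1, h2⟩ : ∃ x' ∈ perp D a, x' ∉ line D a p₀ ∧ x' ∉ line D a x := by
      by_contra hcon
      push Not at hcon
      have hsub : perp D a ⊆ (line D a p₀ \ {a}) ∪ (line D a x \ {a}) := fun y hy => by
        by_cases h : y ∈ line D a p₀
        · exact Or.inl ⟨h, hy.2.1⟩
        · exact Or.inr ⟨hcon y hy h, hy.2.1⟩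
      have := (Set.ncard_le_ncard hsub (Set.toFinite _)).trans (Set.ncard_union_le _ _)
      rw [L.perp_card a ha, Set.ncard_sdiff_singleton_of_mem (left_mem_line ha),
        Set.ncard_sdiff_singleton_of_mem (left_mem_line ha), L.line_card a ha p₀ hp₀, L.line_card a ha x hx,
        Nat.add_sub_cancel] at this
      have h3 : 3 ≤ 3 ^ j := by
        calc 3 = 3 ^ 1 := (pow_one 3).symm
          _ ≤ 3 ^ j := Nat.pow_le_pow_right (by norm_num) L.j_pos
      have := Nat.mul_le_mul_left (2 ^ e) h3
      have := Nat.one_le_two_pow (n := e)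
      omega
    refine main hx' h1 (main hx hxM hwx x' hx' h2) z hz fun hzl' => h2 ?_
    rw [← L.line_eq_left ha hx hzl hz.2.1, L.line_eq_left ha hx' hzl' hz.2.1]
    exact right_mem_line hx'.1
  · exact main hx hxM hwx z hz hzl

/-- Products of the points of a line through `a` which fix every line at `a` and one more point commuting
with `a` centralise everything commuting with `a`. -/
theorem rigid_closure {a d x w : G} (ha : a ∈ D) (hd : d ∈ perp D a)
    (hw : w ∈ Subgroup.closure (line D a d)) (hfa : Fixes D a w) (hx : x ∈ perp D a) (hxM : x ∉ line D a d)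
    (hwx : Commute w x) : ∀ z ∈ perp D a, Commute w z := by
  have hM : ∀ {v : G}, v ∈ Subgroup.closure (line D a d) → ∀ z ∈ line D a d, Commute v z := by
    intro v hv z hz
    induction hv using Subgroup.closure_induction with
    | mem q hq => exact commute_line ha hd.1 hd.2.2 hq hz
    | one => exact Commute.one_left z
    | mul u v _ _ h1 h2 => exact h1.mul_left h2
    | inv u _ h1 => exact h1.inv_left
  have hda : a ∈ perp D d := ⟨ha, hd.2.1.symm, hd.2.2.symm⟩
  have hl : line D d a = line D a d := line_comm d a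
  -- at `d`: either fixed, or fixed after multiplying by `a`
  have key : ∀ {v : G}, v ∈ Subgroup.closure (line D a d) → Fixes D d v ∨ Fixes D d (a * v) := by
    intro v hv
    induction hv using Subgroup.closure_induction with
    | mem q hq =>
      by_cases e : q = d
      · left
        rw [e]
        exact ⟨Commute.refl d, fun y hy => by rw [conj_eq_of_commute hy.2.2.symm |> fun _ =>
          (show d * y * d⁻¹ = y by rw [hy.2.2.eq, mul_inv_cancel_right])]; exact right_mem_line hy.1⟩
      · right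
        have hq' : q ∈ perp D d := L.line_subset_perp hd.1 hda (hl ▸ hq) e
        exact L.fixes_pair hd.1 hq' (by rw [L.line_eq_left hd.1 hda (hl ▸ hq) e]; exact right_mem_line ha)
          hd.2.1.symm
    | one => exact Or.inl (L.fixer hd.1).one_mem
    | mul u v hu _ h1 h2 =>
      have hau : Commute a u := (hM hu a (left_mem_line ha)).symm
      rcases h1 with h1 | h1 <;> rcases h2 with h2 | h2
      · exact Or.inl ((L.fixer hd.1).mul_mem h1 h2)
      · refine Or.inr ?_
        rw [show a * (u * v) = u * (a * v) by rw [← mul_assoc, hau.eq, mul_assoc]]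
        exact (L.fixer hd.1).mul_mem h1 h2
      · refine Or.inr ?_
        rw [← mul_assoc]
        exact (L.fixer hd.1).mul_mem h1 h2
      · refine Or.inl ?_
        have := (L.fixer hd.1).mul_mem h1 h2
        rwa [show a * u * (a * v) = u * v by
          rw [hau.eq, mul_assoc, ← mul_assoc a a v, L.h.mul_self ha, one_mul]] at this
    | inv u hu h1 =>
      rcases h1 with h1 | h1
      · exact Or.inl ((L.fixer hd.1).inv_mem h1)
      · refine Or.inr ?_
        have := (L.fixer hd.1).inv_mem h1
        rwa [mul_inv_rev, L.h.inv_eq ha, ((hM hu a (left_mem_line ha)).inv_left).eq] at this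
  rcases key hw with h0 | h0
  · exact L.rigid ha hd (hM hw) hfa h0 hx hxM hwx
  · intro z hz
    have hfix : Fixes D a a := ⟨Commute.refl a, fun y hy => by
      rw [hy.2.2.eq, mul_inv_cancel_right]; exact right_mem_line hy.1⟩
    have := L.rigid ha hd (fun q hq => (commute_left ha hd.2.2 hq).symm.mul_left (hM hw q hq))
      ((L.fixer ha).mul_mem hfix hfa) h0 hx hxM (hx.2.2.mul_left hwx) z hz
    have h2 := hz.2.2.mul_left this
    rwa [← mul_assoc, L.h.mul_self ha, one_mul] at h2

end Geo

end CfsgLib.Invol.TriSolv
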