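import Cfsg.Agent.Lib.Invol.TriSolv.FortyFive
import Cfsg.Agent.Lib.Invol.TriSolv.OvoidFacts

/-!
# A member outside the forty-five: the seventh generator

Such a member commuting with `f 3` and `f 4` meets each line once, so its pattern is one of two; at most three
members share a pattern, so the commutator of two stabilizing words fixes each of them.
-/

set_option autoImplicit false

namespace CfsgLib.Invol.TriSolv

open CfsgLib.Spor.Tri CfsgLib.Spor.TC
open CfsgLib.Invol.TriSolv.Cert (relsU4 relsU5)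
open CfsgLib.Spor.Fi22.U6 (Four)

universe u

variable {G : Type u} [Group G] [Finite G] {D : Set G}

theorem perm_commutator : ∀ k < 4, ∀ σ τ : Equiv.Perm (Fin k),
    (σ * τ * σ⁻¹ * τ⁻¹) ^ 8 = 1 → σ * τ * σ⁻¹ * τ⁻¹ = 1 := by
  decide +kernel

theorem commutator_eq_one {X : Type*} [Finite X] (h3 : Nat.card X ≤ 3) {σ τ : Equiv.Perm X}
    (h : (σ * τ * σ⁻¹ * τ⁻¹) ^ 8 = 1) : σ * τ * σ⁻¹ * τ⁻¹ = 1 := by
  let e : Equiv.Perm X ≃* Equiv.Perm (Fin (Nat.card X)) := (Finite.equivFin X).permCongrHom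
  apply e.injective
  rw [map_mul, map_mul, map_mul, map_inv, map_inv, map_one]
  refine perm_commutator _ (by omega) _ _ ?_
  rw [← map_inv, ← map_inv, ← map_mul, ← map_mul, ← map_mul, ← map_pow, h, map_one]

theorem ev_reverse {g : ℕ → G} (hsq : ∀ x, g x * g x = 1) (w : List ℕ) : ev g w.reverse = (ev g w)⁻¹ := by
  induction w with
  | nil => simp [ev]
  | cons x w ih =>
    rw [List.reverse_cons, ev_append, ih]
    simp [ev, inv_eq_of_mul_eq_one_right (hsq x)]

/-- The forty-five members. -/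
def S45 (g : ℕ → G) : Set G := {d | ∃ q < 45, d = Embed.pt g Model.tabFour q}

/-- The members off the forty-five commuting with the nine. -/
def patSet (D : Set G) (g : ℕ → G) : Set G :=
  {v | v ∈ D ∧ v ∉ S45 g ∧ ∀ q ∈ Ovoid.ptsA, Commute v (Embed.pt g Model.tabFour q)}

namespace Sixth

variable {e j : ℕ} (L : Geo D e j) (he : e = 2) (hj : j = 2) {f : Fin 5 → G} {z : G} (s : Sixth D f z)
include L he hj s

set_option quotPrecheck false
local notation "g" => gens f z 1
local notation "P" => Embed.pt (gens f z 1) Model.tabFour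

omit hj in
theorem pt_facts : (∀ q < 45, P q ∈ D) ∧ (∀ p < 45, ∀ q < 45, P p = P q → p = q) ∧
    (∀ p < 45, ∀ q < 45, (Commute (P p) (P q) ↔ Model.hf (Ovoid.v45 q) (Ovoid.v45 p) = 0)) ∧
    (∀ w p q, p < 45 → q < 45 → Ovoid.Carries w p q → ev g w * P p * (ev g w)⁻¹ = P q) ∧
    ∀ x < 6, P x = g x := by
  have E := s.embed L he
  have hl := Model.length_tabFour
  refine ⟨fun q hq => E.pt_mem (hl.symm ▸ hq), fun p hp q hq => E.pt_inj (hl.symm ▸ hp) (hl.symm ▸ hq),
    fun p hp q hq => E.pt_commute_iff (hl.symm ▸ hp) (hl.symm ▸ hq),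
    fun w p q hp hq hc => E.conj_pt (hl.symm ▸ hp) (hl.symm ▸ hq) hc L.commute_triangle, fun x hx => ?_⟩
  rw [Embed.pt, Ovoid.gens_points x hx]
  simp [ev]

omit hj in
theorem g_sq (x : ℕ) : g x * g x = 1 := (s.embed L he).sat.sq x

omit hj in
theorem conj_S45 {d : G} (hd : d ∈ S45 g) : ∀ w : List ℕ, (∀ x ∈ w, x < 6) → ev g w * d * (ev g w)⁻¹ ∈ S45 g := by
  intro w
  induction w with
  | nil => intro _; simpa [ev] using hd
  | cons x w ih =>
    intro hw
    obtain ⟨q, hq, hqd⟩ := ih fun y hy => hw y (List.mem_cons_of_mem _ hy)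
    obtain ⟨q', hq', hc⟩ := Ovoid.letters_carry x (hw x List.mem_cons_self) q hq
    refine ⟨q', hq', ?_⟩
    rw [← (s.pt_facts L he).2.2.2.1 _ q q' hq hq' hc, ← hqd, show ev g [x] = g x by simp [ev],
      ev_cons, mul_inv_rev]
    simp only [mul_assoc]

omit hj in
theorem conj_not_S45 {d : G} (hd : d ∉ S45 g) {w : List ℕ} (hw : ∀ x ∈ w, x < 6) :
    ev g w * d * (ev g w)⁻¹ ∉ S45 g := fun h => hd (by
  have := s.conj_S45 L he h w.reverse fun x hx => hw x (List.mem_reverse.1 hx)
  rw [ev_reverse (s.g_sq L he)] at this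
  simpa [mul_assoc] using this)

omit hj in
theorem unique_on_line {u : G} (huD : u ∈ D) (hu : u ∉ S45 g) {l : List ℕ} (hl : l ∈ Ovoid.lines) :
    (∃ t ∈ l, Commute u (P t)) ∧ ∀ a ∈ l, ∀ b ∈ l, Commute u (P a) → Commute u (P b) → a = b := by
  classical
  obtain ⟨hmem, hinj, hcom, -, -⟩ := s.pt_facts L he
  obtain ⟨hnd, hlen, hok⟩ := Ovoid.lines_ok l hl
  have hline : ∀ a ∈ l, ∀ b ∈ l, a ≠ b → line D (P a) (P b) ⊆ S45 g ∧ P b ∈ perp D (P a) ∧
      ∀ y ∈ line D (P a) (P b), ∃ t ∈ l, y = P t := by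
    intro a ha b hb hab
    obtain ⟨ha45, hao⟩ := hok a ha
    obtain ⟨hb45, hbo⟩ := hok b hb
    have hp : P b ∈ perp D (P a) :=
      ⟨hmem b hb45, fun h => hab (hinj b hb45 a ha45 h).symm, (hcom a ha45 b hb45).2 (hao b hb)⟩
    have hsub : ((l.toFinset.image P : Finset G) : Set G) ⊆ line D (P a) (P b) := by
      intro y hy
      simp only [Finset.coe_image, Set.mem_image, Finset.mem_coe, List.mem_toFinset] at hy
      obtain ⟨t, ht, rfl⟩ := hy
      obtain ⟨ht45, hto⟩ := hok t ht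
      exact (L.mem_line_iff (hmem a ha45) hp).2
        ⟨hmem t ht45, (hcom a ha45 t ht45).2 (hao t ht), (hcom b hb45 t ht45).2 (hbo t ht)⟩
    have heq := Set.eq_of_subset_of_ncard_le hsub (by
      rw [Set.ncard_coe_finset, Finset.card_image_of_injOn (fun x hx y hy h => hinj x
        (hok x (List.mem_toFinset.1 hx)).1 y (hok y (List.mem_toFinset.1 hy)).1 h), List.toFinset_card_of_nodup hnd,
        hlen, L.line_card _ (hmem a ha45) _ hp, he]
      norm_num) (Set.toFinite _)
    have h3 : ∀ y ∈ line D (P a) (P b), ∃ t ∈ l, y = P t := by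
      intro y hy
      rw [← heq] at hy
      simp only [Finset.coe_image, Set.mem_image, Finset.mem_coe, List.mem_toFinset] at hy
      obtain ⟨t, ht, rfl⟩ := hy
      exact ⟨t, ht, rfl⟩
    refine ⟨fun y hy => ?_, hp, h3⟩
    obtain ⟨t, ht, rfl⟩ := h3 y hy
    exact ⟨t, (hok t ht).1, rfl⟩
  obtain ⟨a, b, r, rfl⟩ : ∃ a b r, l = a :: b :: r := by
    rcases l with _ | ⟨a, _ | ⟨b, r⟩⟩
    · simp at hlen
    · simp at hlen
    · exact ⟨a, b, r, rfl⟩
  have hab : a ≠ b := fun h => (List.nodup_cons.1 hnd).1 (h ▸ List.mem_cons_self)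
  obtain ⟨hsub, hp, h3⟩ := hline a List.mem_cons_self b (List.mem_cons_of_mem _ List.mem_cons_self) hab
  have ha45 := (hok a List.mem_cons_self).1
  refine ⟨?_, fun x hx y hy h1 h2 => ?_⟩
  · obtain ⟨y, hy, hc⟩ := L.exists_on_line (hmem a ha45) hp huD
    obtain ⟨t, ht, rfl⟩ := h3 y hy
    exact ⟨t, ht, hc⟩
  · by_contra hne
    obtain ⟨hsub', hp', -⟩ := hline x hx y hy hne
    exact hu (hsub' ((L.mem_line_iff (hmem x (hok x hx).1) hp').2 ⟨huD, h1.symm, h2.symm⟩))

theorem centre_bound : (both D (P 3) (P 4) \ S45 g).ncard + 3 ≤ 9 ∧ (both D (P 3) (P 4) \ S45 g).Nonempty ∧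
    (P 3 ∈ D ∧ P 4 ∈ D ∧ ¬ Commute (P 3) (P 4)) := by
  classical
  obtain ⟨hmem, hinj, hcom, -, -⟩ := s.pt_facts L he
  have h3 := hmem 3 (by norm_num)
  have h4 := hmem 4 (by norm_num)
  have hn : ¬ Commute (P 3) (P 4) := fun h => Ovoid.three_four ((hcom 3 (by norm_num) 4 (by norm_num)).1 h)
  have hb := L.both_card h3 h4 hn
  rw [hj] at hb
  set C : Set G := ((Ovoid.centre.toFinset.image P : Finset G) : Set G) with hC
  have hCc : C.ncard = 3 := by
    rw [hC, Set.ncard_coe_finset, Finset.card_image_of_injOn (fun x hx y hy h => hinj x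
      (Ovoid.pts_lt.2.2 x (List.mem_toFinset.1 hx)) y (Ovoid.pts_lt.2.2 y (List.mem_toFinset.1 hy)) h),
      List.toFinset_card_of_nodup Ovoid.centre_commute.1]
    rfl
  have hCb : C ⊆ both D (P 3) (P 4) := by
    intro y hy
    simp only [hC, Finset.coe_image, Set.mem_image, Finset.mem_coe, List.mem_toFinset] at hy
    obtain ⟨q, hq, rfl⟩ := hy
    have hq45 := Ovoid.pts_lt.2.2 q hq
    obtain ⟨o3, o4⟩ := Ovoid.centre_commute.2 q hq
    exact ⟨hmem q hq45, ((hcom q hq45 3 (by norm_num)).2 o3).symm, ((hcom q hq45 4 (by norm_num)).2 o4).symm⟩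
  have heq : both D (P 3) (P 4) \ S45 g = both D (P 3) (P 4) \ C := by
    ext y
    refine and_congr_right fun hy => not_congr ⟨?_, ?_⟩
    · rintro ⟨q, hq, rfl⟩
      simp only [hC, Finset.coe_image, Set.mem_image, Finset.mem_coe, List.mem_toFinset]
      exact ⟨q, Ovoid.centre_ok q hq ((hcom 3 (by norm_num) q hq).1 hy.2.1) ((hcom 4 (by norm_num) q hq).1 hy.2.2),
        rfl⟩
    · intro hy
      simp only [hC, Finset.coe_image, Set.mem_image, Finset.mem_coe, List.mem_toFinset] at hy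
      obtain ⟨q, hq, rfl⟩ := hy
      exact ⟨q, Ovoid.pts_lt.2.2 q hq, rfl⟩
  rw [heq]
  have hd := Set.ncard_sdiff hCb (Set.toFinite _)
  rw [hb, hCc] at hd
  norm_num at hd
  refine ⟨by omega, Set.nonempty_of_ncard_ne_zero (by omega), h3, h4, hn⟩

theorem exists_patSet : (patSet D g).Nonempty := by
  obtain ⟨hmem, -, -, hconj, hgen⟩ := s.pt_facts L he
  obtain ⟨-, ⟨u, ⟨huD, hu3, hu4⟩, huS⟩, -⟩ := s.centre_bound L he hj
  rcases Ovoid.dichotomy (fun q => Commute u (P q)) (fun l hl => (s.unique_on_line L he huD huS hl).1)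
      (fun l hl => (s.unique_on_line L he huD huS hl).2) (fun t ht h1 h2 => by
        obtain ⟨ha, hb, hc, hcar⟩ := Ovoid.thirds_ok t ht
        rw [← hconj _ _ _ hb hc hcar]
        exact (h1.mul_right h2).mul_right h1.inv_right) hu3.symm hu4.symm with h | h
  · exact ⟨u, huD, huS, h⟩
  · refine ⟨ev g [0] * u * (ev g [0])⁻¹, L.h.conj _ _ huD,
      s.conj_not_S45 L he huS (by simp), fun q hq => ?_⟩
    obtain ⟨q', hq', hc⟩ := Ovoid.zero_swaps q hq
    have hq45 := Ovoid.pts_lt.1 q hq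
    have h2 := hconj _ _ _ hq45 (Ovoid.pts_lt.2.1 q' hq') hc
    have h3 := (Commute.conj_iff (ev g [0])).2 (h q' hq')
    rw [← h2] at h3
    have e2 : ev g [0] * ev g [0] = 1 := by simpa [ev] using s.g_sq L he 0
    have e3 : (ev g [0])⁻¹ = ev g [0] := inv_eq_of_mul_eq_one_right e2
    rw [e3] at h3 ⊢
    rwa [show ev g [0] * (ev g [0] * P q * ev g [0]) * ev g [0] =
        (ev g [0] * ev g [0]) * P q * (ev g [0] * ev g [0]) by simp only [mul_assoc],
      e2, one_mul, mul_one] at h3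

theorem card_patSet : (patSet D g).ncard ≤ 3 := by
  obtain ⟨hb, -, h3, h4, hn⟩ := s.centre_bound L he hj
  obtain ⟨hmem, hinj, hcom, -, -⟩ := s.pt_facts L he
  set T := patSet D g with hT
  have hsub : T ⊆ both D (P 3) (P 4) \ S45 g := fun v hv =>
    ⟨⟨hv.1, (hv.2.2 3 (by decide)).symm, (hv.2.2 4 (by decide)).symm⟩, hv.2.1⟩
  have hnc : ∀ a ∈ T, ∀ b ∈ T, a ≠ b → ¬ Commute a b := fun a ha b hb' hne =>
    L.not_commute_common h3 h4 hn (hsub ha).1 (hsub hb').1 hne
  have hclosed : ∀ a ∈ T, ∀ b ∈ T, a ≠ b → a * b * a ∈ T := by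
    intro a ha b hb' hne
    have hcl : ∀ q ∈ Ovoid.ptsA, Commute (a * b * a) (P q) := fun q hq =>
      ((ha.2.2 q hq).mul_left (hb'.2.2 q hq)).mul_left (ha.2.2 q hq)
    refine ⟨by simpa [L.h.inv_eq ha.1] using L.h.conj a b hb'.1, ?_, hcl⟩
    rintro ⟨q, hq, he'⟩
    obtain ⟨c, hc, hcq⟩ := Ovoid.no_centre q hq
    exact hcq ((hcom q hq c (Ovoid.pts_lt.1 c hc)).1 (he' ▸ hcl c hc))
  by_contra hgt
  have h7 : 7 ≤ T.ncard := by
    obtain ⟨a, ha, b, hb', hab⟩ := (Set.one_lt_ncard (Set.toFinite _)).1 (by omega : 1 < T.ncard)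
    set c := a * b * a with hc
    have hcT : c ∈ T := hclosed a ha b hb' hab
    obtain ⟨d, hd, hdn⟩ : ∃ d ∈ T, d ∉ ({a, b, c} : Set G) := by
      by_contra hcon
      push Not at hcon
      have := Set.ncard_le_ncard (show T ⊆ {a, b, c} from hcon) (Set.toFinite _)
      have h2 := Set.ncard_insert_le a ({b, c} : Set G)
      have h3 := Set.ncard_insert_le b ({c} : Set G)
      rw [Set.ncard_singleton] at h3
      omega
    simp only [Set.mem_insert_iff, Set.mem_singleton_iff, not_or] at hdn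
    obtain ⟨hda, hdb, hdc⟩ := hdn
    have haa := L.h.mul_self ha.1
    have hca : c ≠ a := fun h => hab (by
      have : a * b * a = a := h
      rw [mul_eq_right, mul_eq_one_iff_eq_inv, L.h.inv_eq hb'.1] at this
      exact this)
    have hcb : c ≠ b := fun h => hnc a ha b hb' hab (by
      have h' : a * b * a = b := h
      show a * b = b * a
      calc a * b = a * b * (a * a) := by rw [haa, mul_one]
        _ = b * a := by rw [← mul_assoc, h'])
    have hdd := L.h.mul_self hd.1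
    have hout : ∀ x ∈ T, ∀ y ∈ T, d ≠ x → d ≠ y → d ≠ x * y * x → d * x * d ≠ y := by
      intro x hx y hy hdx hdy hdxy h
      by_cases hxy : x = y
      · subst hxy
        refine hnc d hd x hx hdx ?_
        show d * x = x * d
        calc d * x = d * x * (d * d) := by rw [hdd, mul_one]
          _ = x * d := by rw [← mul_assoc, h]
      · have hbr := L.h.braid hd.1 hx.1 (hnc d hd x hx hdx)
        rw [h] at hbr
        refine hdxy ?_
        rw [hbr, show x * (x * d * x) * x = (x * x) * d * (x * x) by simp only [mul_assoc],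
          L.h.mul_self hx.1, one_mul, mul_one]
    have hac : a * c * a = b := by simp [hc, ← mul_assoc, haa, mul_assoc _ a a]
    have hba : b * a * b = c := (L.h.braid hb'.1 ha.1 fun h => hnc a ha b hb' hab h.symm)
    have hbc : b * c * b = a := by
      rw [← hba]; simp [← mul_assoc, L.h.mul_self hb'.1, mul_assoc _ b b]
    have hca' : c * a * c = b := by
      rw [L.h.braid hcT.1 ha.1 (hnc c hcT a ha hca), hac]
    have hcb' : c * b * c = a := by
      rw [L.h.braid hcT.1 hb'.1 (hnc c hcT b hb' hcb), hbc]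
    classical
    have hinjd : Function.Injective fun x => d * x * d := fun x y h => by simpa using h
    have hsubT : (({a, b, c, d, d * a * d, d * b * d, d * c * d} : Finset G) : Set G) ⊆ T := by
      intro y hy
      simp only [Finset.coe_insert, Finset.coe_singleton, Set.mem_insert_iff, Set.mem_singleton_iff] at hy
      rcases hy with rfl | rfl | rfl | rfl | rfl | rfl | rfl
      exacts [ha, hb', hcT, hd, hclosed d hd a ha hda, hclosed d hd b hb' hdb, hclosed d hd c hcT hdc]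
    refine le_trans (le_of_eq ?_) (Set.ncard_le_ncard hsubT (Set.toFinite _))
    have hd' : ∀ x ∈ T, d ≠ x → d * x * d ≠ d := fun x _ hdx h => hdx (by
      have h' := congrArg (fun y => d * y * d) h
      simp only [← mul_assoc, hdd, one_mul] at h'
      simpa [mul_assoc, hdd] using h'.symm)
    have e1 := hout a ha a ha hda hda (by rwa [haa, one_mul])
    have e2 := hout a ha b hb' hda hdb (hc ▸ hdc)
    have e3 := hout a ha c hcT hda hdc (by rwa [hac])
    have e4 := hout b hb' a ha hdb hda (by rwa [hba])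
    have e5 := hout b hb' b hb' hdb hdb (by rwa [L.h.mul_self hb'.1, one_mul])
    have e6 := hout b hb' c hcT hdb hdc (by rwa [hbc])
    have e7 := hout c hcT a ha hdc hda (by rwa [hca'])
    have e8 := hout c hcT b hb' hdc hdb (by rwa [hcb'])
    have e9 := hout c hcT c hcT hdc hdc (by rwa [L.h.mul_self hcT.1, one_mul])
    simp [hab, hca.symm, hcb.symm, Ne.symm hda, Ne.symm hdb, Ne.symm hdc, e1.symm, e2.symm, e3.symm, e4.symm,
      e5.symm, e6.symm, e7.symm, e8.symm, e9.symm, (hd' a ha hda).symm, (hd' b hb' hdb).symm,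
      (hd' c hcT hdc).symm, fun h => hab (hinjd h), fun h => hca.symm (hinjd h), fun h => hcb.symm (hinjd h)]
  have := Set.ncard_le_ncard hsub (Set.toFinite _)
  omega

omit hj in
theorem stab_patSet {w : List ℕ} (hw : w ∈ [[1, 0], [2, 1, 5, 0]]) {v : G} (hv : v ∈ patSet D g) :
    ev g w * v * (ev g w)⁻¹ ∈ patSet D g ∧ (ev g w)⁻¹ * v * ev g w ∈ patSet D g := by
  obtain ⟨-, -, -, hconj, -⟩ := s.pt_facts L he
  have hw6 : ∀ x ∈ w, x < 6 := by
    revert hw; revert w; decide
  have key : ∀ u : List ℕ, (∀ x ∈ u, x < 6) → (∀ q ∈ Ovoid.ptsA, ∃ q' ∈ Ovoid.ptsA, Ovoid.Carries u.reverse q q') →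
      ev g u * v * (ev g u)⁻¹ ∈ patSet D g := by
    intro u hu6 hstab
    refine ⟨L.h.conj _ _ hv.1, s.conj_not_S45 L he hv.2.1 hu6, fun q hq => ?_⟩
    obtain ⟨q', hq', hc⟩ := hstab q hq
    have h1 := hconj _ _ _ (Ovoid.pts_lt.1 q hq) (Ovoid.pts_lt.1 q' hq') hc
    rw [ev_reverse (s.g_sq L he), inv_inv] at h1
    have h2 := (Commute.conj_iff (ev g u)).2 (hv.2.2 q' hq')
    rw [← h1] at h2
    simpa [mul_assoc] using h2
  refine ⟨key w hw6 fun q hq => (Ovoid.words_stab w hw q hq).2, ?_⟩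
  have := key w.reverse (fun x hx => hw6 x (List.mem_reverse.1 hx))
    fun q hq => by rw [List.reverse_reverse]; exact (Ovoid.words_stab w hw q hq).1
  rwa [ev_reverse (s.g_sq L he), inv_inv] at this

omit hj in
theorem fix_pow : (ev g fixWord ^ 4) ^ 2 = 1 := by
  have E := s.embed L he
  obtain ⟨-, -, -, hconj, hgen⟩ := s.pt_facts L he
  set w := powWord fixWord 4 with hwdef
  have hcom : ∀ x < 6, Commute (ev (Model.letter Model.vecsFour) w) (Model.letter Model.vecsFour x) := by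
    intro x hx
    have h1 : ev g w * P x * (ev g w)⁻¹ = P x := hconj _ _ _ (by omega) (by omega) (Ovoid.fix_order x (by omega))
    rw [hgen x hx, mul_inv_eq_iff_eq_mul] at h1
    have h2 := E.sep_word (w := w ++ [x]) (w' := [x] ++ w)
      (by rw [ev_append, ev_append]; simpa [ev] using h1)
    rw [ev_append, ev_append, show ev (Model.letter Model.vecsFour) [x] = Model.letter Model.vecsFour x by
      simp [ev]] at h2
    exact h2
  have hone : ev (Model.letter Model.vecsFour) w = 1 := by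
    rw [← Subgroup.mem_bot, ← Model.tabOK_four.center_eq_bot, Subgroup.mem_center_iff]
    intro y
    have hy : y ∈ Subgroup.centralizer ({ev (Model.letter Model.vecsFour) w} : Set (Model.SUn 4)) := by
      refine (?_ : (⊤ : Subgroup (Model.SUn 4)) ≤ _) (Subgroup.mem_top y)
      rw [← Model.tabOK_four.generates, Subgroup.closure_le]
      rintro _ ⟨x, hx, rfl⟩
      rw [Set.mem_Iio, Model.length_vecsFour] at hx
      rw [SetLike.mem_coe, Subgroup.mem_centralizer_singleton_iff]
      exact (hcom x hx).symm.eq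
    rw [Subgroup.mem_centralizer_singleton_iff] at hy
    exact hy
  have hk : ev (presGen 6 relsU4) w ∈ (presHom E.model).ker := by
    rw [MonoidHom.mem_ker, (E.map_word w).2, hone]
  have := congrArg (presHom E.sat) (ker_sq E.surj E.card.1 E.card.2 hk)
  rw [map_pow, map_one, (E.map_word w).1, hwdef, ev_powWord] at this
  exact this

/-- The seventh generator. -/
theorem exists_seventh : ∃ u ∈ patSet D g, ev g fixWord * u * (ev g fixWord)⁻¹ = u := by
  obtain ⟨u, hu⟩ := s.exists_patSet L he hj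
  refine ⟨u, hu, ?_⟩
  have hpow := s.fix_pow L he
  let perm : ∀ w ∈ ([[1, 0], [2, 1, 5, 0]] : List (List ℕ)), Equiv.Perm ↥(patSet D g) := fun w hw =>
    { toFun := fun v => ⟨ev g w * v.1 * (ev g w)⁻¹, (s.stab_patSet L he hw v.2).1⟩
      invFun := fun v => ⟨(ev g w)⁻¹ * v.1 * ev g w, (s.stab_patSet L he hw v.2).2⟩
      left_inv := fun v => Subtype.ext (by simp [mul_assoc])
      right_inv := fun v => Subtype.ext (by simp [mul_assoc]) }
  let σ := perm [1, 0] (by simp)
  let τ := perm [2, 1, 5, 0] (by simp)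
  set a := ev g [1, 0] with ha
  set b := ev g [2, 1, 5, 0] with hb
  have hC : ev g fixWord = a * b * a⁻¹ * b⁻¹ := by
    rw [ha, hb, ← ev_reverse (s.g_sq L he), ← ev_reverse (s.g_sq L he), ← ev_append, ← ev_append, ← ev_append]
    rfl
  have happ : ∀ v : ↥(patSet D g), ((σ * τ * σ⁻¹ * τ⁻¹) v).1 =
      ev g fixWord * v.1 * (ev g fixWord)⁻¹ := by
    intro v
    show a * (b * (a⁻¹ * (b⁻¹ * v.1 * b) * a) * b⁻¹) * a⁻¹ = _
    rw [hC]; simp [mul_assoc]
  have hpw : ∀ (n : ℕ) (v : ↥(patSet D g)), (((σ * τ * σ⁻¹ * τ⁻¹) ^ n) v).1 =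
      ev g fixWord ^ n * v.1 * (ev g fixWord ^ n)⁻¹ := by
    intro n
    induction n with
    | zero => intro v; simp
    | succ n ih =>
      intro v
      rw [pow_succ, Equiv.Perm.mul_apply, ih, happ, pow_succ]
      simp [mul_assoc]
  have h1 : (σ * τ * σ⁻¹ * τ⁻¹) ^ 8 = 1 := Equiv.ext fun v => Subtype.ext (by
    rw [hpw 8 v, show ev g fixWord ^ 8 = 1 from (pow_mul _ 4 2).trans hpow]
    simp)
  have h2 := commutator_eq_one (by rw [Nat.card_coe_set_eq]; exact s.card_patSet L he hj) h1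
  have h3 := happ ⟨u, hu⟩
  rw [h2] at h3
  exact h3.symm

end Sixth

end CfsgLib.Invol.TriSolv
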