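import Cfsg.Agent.Lib.Invol.TriSolv.Axiom
import Cfsg.Agent.Lib.Perm.Groups.CoxeterSym
import Cfsg.Agent.Lib.Spor.Tri.Petersen

/-!
# Fischer, `D_x` solvable: a subgroup `Sym(6)`

Five members with the commuting pattern of adjacent transpositions of six letters exist.  With three lines of
three points at a point they generate everything.
-/

set_option autoImplicit false

namespace CfsgLib.Invol.TriSolv

open CfsgLib.Spor.Tri Equiv

universe u

variable {G : Type u} [Group G] [Finite G] {D : Set G}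

/-- Five members with the relations of adjacent transpositions of six letters. -/
structure Chain (D : Set G) (f : Fin 5 → G) : Prop where
  mem : ∀ i, f i ∈ D
  near : ∀ i j : Fin 5, (i : ℕ) + 1 = j → ¬ Commute (f i) (f j)
  far : ∀ i j : Fin 5, (i : ℕ) + 1 < j → Commute (f i) (f j)

namespace Geo

variable {e j : ℕ} (L : Geo D e j)
include L

theorem exists_chain : ∃ f, Chain D f := by
  obtain ⟨x₀, hx₀, -⟩ := L.two
  obtain ⟨w, hw, hd_w⟩ := L.exists_far hx₀
  set d := x₀
  obtain ⟨a, hda, hwa⟩ := exists_common_perp L.h L.rad L.perf hx₀ hw hd_w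
  -- a line at `d` other than that of `a`
  obtain ⟨c, hc, hac⟩ : ∃ c ∈ perp D d, ¬ Commute a c := by
    by_contra hcon
    push Not at hcon
    have hsub : perp D d ⊆ line D d a \ {d} := fun c hc =>
      ⟨(L.mem_line_iff hx₀ hda).2 ⟨hc.1, hc.2.2, hcon c hc⟩, hc.2.1⟩
    have := Set.ncard_le_ncard hsub (Set.toFinite _)
    rw [L.perp_card d hx₀, Set.ncard_sdiff_singleton_of_mem (left_mem_line hx₀), L.line_card d hx₀ a hda,
      Nat.add_sub_cancel] at this
    have h3 : 3 ≤ 3 ^ j := by
      calc 3 = 3 ^ 1 := (pow_one 3).symm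
        _ ≤ 3 ^ j := Nat.pow_le_pow_right (by norm_num) L.j_pos
    have := Nat.mul_le_mul_left (2 ^ e) h3
    have := Nat.one_le_two_pow (n := e)
    omega
  obtain ⟨f₄, hf₄, hwf₄⟩ := L.exists_on_line hx₀ hc hw
  obtain ⟨y, hy, hyd, hy4⟩ : ∃ y ∈ line D d c, y ≠ d ∧ y ≠ f₄ := by
    by_contra hcon
    push Not at hcon
    have hsub : line D d c ⊆ {d, f₄} := fun z hz => by
      by_cases e : z = d
      · exact Or.inl e
      · exact Or.inr (hcon z hz e)
    have h1 := Set.ncard_le_ncard hsub (Set.toFinite _)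
    have h2 := Set.ncard_insert_le d ({f₄} : Set G)
    rw [L.line_card d hx₀ c hc] at h1
    rw [Set.ncard_singleton] at h2
    have := Nat.pow_le_pow_right (n := 2) (by norm_num) L.e_pos
    omega
  have hn : ∀ {z : G}, z ∈ line D d c → z ≠ d → ¬ Commute a z := fun {z} hz hzd hh => by
    have hzp := L.line_subset_perp hx₀ hc hz hzd
    have hal : a ∈ line D d z := (L.mem_line_iff hx₀ hzp).2 ⟨hda.1, hda.2.2, hh.symm⟩
    rw [L.line_eq_left hx₀ hc hz hzd] at hal
    exact hac (commute_right hc.1 hc.2.2 hal)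
  have hf4d : f₄ ≠ d := fun e => hd_w (e ▸ hwf₄).symm
  have hyw : ¬ Commute w y := fun hh => hy4 (by
    by_contra hne
    exact hd_w (commute_left hx₀ hc.2.2 (L.line_meet hx₀ hc hy hf₄ hw hh hwf₄ hne)).symm)
  have hdy : Commute d y := (commute_left hx₀ hc.2.2 hy).symm
  have hdf : Commute d f₄ := (commute_left hx₀ hc.2.2 hf₄).symm
  have hyf : Commute y f₄ := commute_line hx₀ hc.1 hc.2.2 hy hf₄
  have hn1 : ¬ Commute y a := fun hh => hn hy hyd hh.symm
  have hn2 : ¬ Commute a f₄ := hn hf₄ hf4d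
  refine ⟨![d, w, y, a, f₄], ⟨?_, ?_, ?_⟩⟩
  · intro i; fin_cases i
    exacts [hx₀, hw, hy.1, hda.1, hf₄.1]
  · intro i k hik
    fin_cases i <;> fin_cases k <;> simp at hik
    exacts [hd_w, hyw, hn1, hn2]
  · intro i k hik
    fin_cases i <;> fin_cases k <;> simp at hik
    exacts [hdy, hda.2.2, hdf, hwa.2.2, hwf₄, hyf]

end Geo

namespace Chain

variable {f : Fin 5 → G} (c : Chain D f) (h : Hyp D)
include c h

theorem exists_hom : ∃ φ : Perm (Fin 6) →* G, ∀ i : Fin 5, φ (swap i.castSucc i.succ) = f i := by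
  obtain ⟨cs, hcs⟩ := CfsgLib.Perm.Groups.exists_coxeterSystem_sym 5
  have c2 : ∀ {p q : G}, p ∈ D → q ∈ D → Commute p q → (p * q) ^ 2 = 1 := fun hp hq hc =>
    (h.commute_iff_sq hp hq).1 hc
  have hf : (CoxeterMatrix.A 5).IsLiftable f := by
    intro i k
    rcases lt_trichotomy (i : ℕ) k with hlt | heq | hgt
    · rcases (by omega : (i : ℕ) + 1 = k ∨ (i : ℕ) + 1 < k) with h1 | h1
      · have : (CoxeterMatrix.A 5) i k = 3 := by
          simp only [CoxeterMatrix.A, Matrix.of_apply]
          rw [if_neg (by intro e; subst e; omega), if_pos (by omega)]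
        rw [this]; exact h.cube (c.mem i) (c.mem k) (c.near i k h1)
      · have : (CoxeterMatrix.A 5) i k = 2 := by
          simp only [CoxeterMatrix.A, Matrix.of_apply]
          rw [if_neg (by intro e; subst e; omega), if_neg (by omega)]
        rw [this]; exact c2 (c.mem i) (c.mem k) (c.far i k h1)
    · obtain rfl : i = k := Fin.ext heq
      rw [CoxeterMatrix.diagonal, pow_one, h.mul_self (c.mem i)]
    · rcases (by omega : (k : ℕ) + 1 = i ∨ (k : ℕ) + 1 < i) with h1 | h1
      · have : (CoxeterMatrix.A 5) i k = 3 := by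
          simp only [CoxeterMatrix.A, Matrix.of_apply]
          rw [if_neg (by intro e; subst e; omega), if_pos (by omega)]
        rw [this]; exact h.cube (c.mem i) (c.mem k) (fun hh => c.near k i h1 hh.symm)
      · have : (CoxeterMatrix.A 5) i k = 2 := by
          simp only [CoxeterMatrix.A, Matrix.of_apply]
          rw [if_neg (by intro e; subst e; omega), if_neg (by omega)]
        rw [this]; exact c2 (c.mem i) (c.mem k) (c.far k i h1).symm
  exact ⟨cs.lift ⟨f, hf⟩, fun i => by rw [← hcs i, cs.lift_apply_simple]⟩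

theorem injective {φ : Perm (Fin 6) →* G} (hφ : ∀ i : Fin 5, φ (swap i.castSucc i.succ) = f i) :
    Function.Injective φ := by
  rw [← MonoidHom.ker_eq_bot_iff]
  haveI := alternatingGroup.isSimpleGroup (α := Fin 6) (by simp)
  set A := alternatingGroup (Fin 6) with hA
  rcases IsSimpleGroup.eq_bot_or_eq_top_of_normal (φ.ker.subgroupOf A) inferInstance with h1 | h1
  · refine (Subgroup.eq_bot_iff_forall _).2 fun n hn => ?_
    have hcom : ∀ g : Perm (Fin 6), g * n = n * g := by
      intro g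
      have hk : g * n * g⁻¹ * n⁻¹ ∈ φ.ker := mul_mem ((MonoidHom.normal_ker φ).conj_mem n hn g) (inv_mem hn)
      have hAm : g * n * g⁻¹ * n⁻¹ ∈ A := by
        rw [hA, Perm.mem_alternatingGroup, map_mul, map_mul, map_mul, map_inv, map_inv,
          mul_comm (Perm.sign g), mul_inv_cancel_right, mul_inv_cancel]
      have : (⟨_, hAm⟩ : A) ∈ φ.ker.subgroupOf A := hk
      rw [h1, Subgroup.mem_bot, Subtype.ext_iff] at this
      exact mul_inv_eq_iff_eq_mul.1 (by simpa using mul_inv_eq_one.1 this)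
    refine Equiv.ext fun i => ?_
    by_contra hi
    obtain ⟨k, hki, hkn⟩ : ∃ k : Fin 6, k ≠ i ∧ k ≠ n i := by
      have : ∀ i l : Fin 6, ∃ k, k ≠ i ∧ k ≠ l := by decide
      exact this i (n i)
    have h2 := congrArg (fun p => p i) (hcom (swap (n i) k))
    simp only [Perm.mul_apply, swap_apply_left] at h2
    rw [swap_apply_of_ne_of_ne (x := i) (Ne.symm hi) hki.symm] at h2
    exact hkn h2
  · exfalso
    have hmem : swap (0 : Fin 6) 1 * swap 1 2 ∈ A := by
      rw [hA, Perm.mem_alternatingGroup, map_mul, Perm.sign_swap (by decide), Perm.sign_swap (by decide)]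
      rfl
    have hk : (⟨_, hmem⟩ : A) ∈ φ.ker.subgroupOf A := h1 ▸ Subgroup.mem_top _
    rw [Subgroup.mem_subgroupOf, MonoidHom.mem_ker, map_mul] at hk
    have e0 : φ (swap (0 : Fin 6) 1) = f 0 := hφ 0
    have e1 : φ (swap (1 : Fin 6) 2) = f 1 := hφ 1
    rw [e0, e1] at hk
    refine c.near 0 1 rfl ?_
    rw [eq_inv_of_mul_eq_one_left hk, h.inv_eq (c.mem 1)]

/-- A class of fifteen members is that of the transpositions of six letters. -/
theorem iso_six (hD : D.ncard = 15) : Nonempty (G ≃* Perm (Fin 6)) := by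
  classical
  obtain ⟨φ, hφ⟩ := c.exists_hom h
  have hinj := c.injective h hφ
  have hsw : ∀ σ ∈ Petersen.sw 6, φ σ ∈ D := by
    intro σ hσ
    obtain ⟨p, q, hpq, rfl⟩ := Petersen.mem_sw.1 hσ
    obtain ⟨g, hg⟩ := isConj_iff.1 (Perm.isConj_swap (show (0 : Fin 6) ≠ 1 by decide) hpq)
    rw [← hg, map_mul, map_mul, map_inv, show φ (swap (0 : Fin 6) 1) = f 0 from hφ 0]
    exact h.conj _ _ (c.mem 0)
  have hcard : (Petersen.sw 6).card = 15 := by decide +kernel
  have heq : φ '' ↑(Petersen.sw 6) = D := by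
    refine Set.eq_of_subset_of_ncard_le ?_ ?_ (Set.toFinite _)
    · rintro _ ⟨σ, hσ, rfl⟩; exact hsw σ hσ
    · rw [Set.ncard_image_of_injective _ hinj, Set.ncard_coe_finset, hcard, hD]
  have hsur : Function.Surjective φ := by
    rw [← MonoidHom.range_eq_top, eq_top_iff, ← h.gen, Subgroup.closure_le, ← heq]
    rintro _ ⟨σ, -, rfl⟩
    exact ⟨σ, rfl⟩
  exact ⟨(MulEquiv.ofBijective φ ⟨hinj, hsur⟩).symm⟩

end Chain

end CfsgLib.Invol.TriSolv
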