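import Cfsg.Agent.Lib.Invol.TriSolv.Lines

/-!
# Fischer, `D_x` solvable: the sizes of lines and of perps

A line has `2 ^ e + 1` points and a point lies on `3 ^ j` lines.
-/

set_option autoImplicit false

namespace CfsgLib.Invol.TriSolv

open CfsgLib.Spor.Tri

universe u

variable {G : Type u} [Group G] [Finite G] {D : Set G}

/-- The orbit of an element under conjugation by a `p`-group has `p`-power size. -/
theorem ncard_conj_orbit {p : ℕ} [Fact p.Prime] {P : Subgroup G} (hP : IsPGroup p P) (a : G) :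
    ∃ i : ℕ, {b | ∃ t ∈ P, t * a * t⁻¹ = b}.ncard = p ^ i := by
  letI : MulAction ↥P G := MulAction.compHom G ((MulAut.conj : G →* MulAut G).comp P.subtype)
  obtain ⟨i, hi⟩ := hP.card_orbit a
  refine ⟨i, ?_⟩
  rw [← hi, Nat.card_coe_set_eq]
  congr 1
  ext b
  constructor
  · rintro ⟨t, ht, rfl⟩; exact ⟨⟨t, ht⟩, rfl⟩
  · rintro ⟨t, rfl⟩; exact ⟨t.1, t.2, rfl⟩

/-- The geometry of points and singular lines. -/
structure Geo (D : Set G) (e j : ℕ) : Prop extends Ctx D where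
  two : ∃ a ∈ D, ∃ b ∈ D, a ≠ b
  e_pos : 1 ≤ e
  j_pos : 1 ≤ j
  line_both : ∀ a ∈ D, ∀ b ∈ perp D a, line D a b = both D a b
  line_card : ∀ a ∈ D, ∀ b ∈ perp D a, (line D a b).ncard = 2 ^ e + 1
  perp_card : ∀ a ∈ D, (perp D a).ncard = 2 ^ e * 3 ^ j

namespace Loc

variable {x : G} (L : Loc D x)
include L

set_option quotPrecheck false
local notation "K" => ↥(Subgroup.closure (perp D x))
local notation "Dx" => (Subtype.val ⁻¹' perp D x : Set ↥(Subgroup.closure (perp D x)))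

theorem line_iff_core {d v : K} (hd : d ∈ Dx) (hv : v ∈ Dx) :
    (v : G) ∈ line D x d ↔ d⁻¹ * v ∈ Cfsg.pCore 2 K := by
  refine ⟨fun h => (L.hypK.nbhd_iff_two_core hd hv).1 fun w hw => ?_, L.mem_line_of_core hd hv⟩
  have e : line D x v = line D x d := L.line_eq_left L.mem hd h hv.2.1
  refine ⟨fun hc => Subtype.ext ?_, fun hc => Subtype.ext ?_⟩
  · have hw' : (w : G) ∈ line D x v := by
      rw [L.line_eq_both L.mem hv]; exact ⟨hw.1, hw.2.2, congrArg Subtype.val hc.eq⟩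
    rw [e] at hw'
    exact (commute_right hd.1 hd.2.2 hw').symm.eq
  · have hw' : (w : G) ∈ line D x d := by
      rw [L.line_eq_both L.mem hd]; exact ⟨hw.1, hw.2.2, congrArg Subtype.val hc.eq⟩
    rw [← e] at hw'
    exact (commute_right hv.1 hv.2.2 hw').symm.eq

theorem exists_geo : ∃ e j, Geo D e j := by
  classical
  haveI : (Cfsg.pCore 2 K).Normal := CfsgLib.Coprime.pCore_normal' 2
  haveI : Fact (Nat.Prime 2) := ⟨Nat.prime_two⟩
  haveI : Fact (Nat.Prime 3) := ⟨Nat.prime_three⟩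
  set f := QuotientGroup.mk' (Cfsg.pCore 2 K) with hf
  have hQ := L.hyp_quotient
  have hK := L.hypK
  have hfeq : ∀ {d v : K}, d ∈ Dx → v ∈ Dx → (f d = f v ↔ (v : G) ∈ line D x d) := fun {d v} hd hv => by
    rw [L.line_iff_core hd hv]; exact QuotientGroup.eq
  obtain ⟨d₀, hd₀, v₀, hv₀, hv1, hv2⟩ := L.exists_third
  set d₁ : K := ⟨d₀, Subgroup.subset_closure hd₀⟩
  have hline : ∀ {d : G}, d ∈ perp D x → (line D x d).ncard = (line D x d₀).ncard := by
    intro d hd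
    rw [L.line_eq_both L.mem hd, L.line_eq_both L.mem hd₀, L.ncard_both L.mem hd L.mem hd₀]
  -- the fibre over a point
  have hfib : ∀ d : K, d ∈ Dx → ({v | v ∈ Dx ∧ f v = f d}).ncard + 1 = (line D x d).ncard := by
    intro d hd
    have e1 : Subtype.val '' {v | v ∈ Dx ∧ f v = f d} = line D x d \ {x} := by
      ext y
      constructor
      · rintro ⟨v, ⟨hv, hv'⟩, rfl⟩
        exact ⟨(hfeq hd hv).1 hv'.symm, fun e => hv.2.1 e⟩
      · rintro ⟨hy, hyx⟩
        have hyp : y ∈ perp D x := ⟨hy.1, hyx, (commute_left L.mem hd.2.2 hy).symm⟩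
        exact ⟨⟨y, Subgroup.subset_closure hyp⟩, ⟨hyp, ((hfeq hd (v := ⟨y, Subgroup.subset_closure hyp⟩) hyp).2 hy).symm⟩, rfl⟩
    rw [← Set.ncard_image_of_injective _ Subtype.val_injective, e1,
      Set.ncard_sdiff_singleton_add_one (left_mem_line L.mem) (Set.toFinite _)]
  -- two-power fibres
  obtain ⟨e, he⟩ : ∃ e, ({v | v ∈ Dx ∧ f v = f d₁}).ncard = 2 ^ e := by
    obtain ⟨e, he⟩ := ncard_conj_orbit (CfsgLib.Coprime.pCore_isPGroup (G := K) 2) d₁
    refine ⟨e, he ▸ congrArg Set.ncard (Set.ext fun v => ⟨fun ⟨hv, hv'⟩ => ?_, ?_⟩)⟩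
    · have hm : d₁ * v ∈ Cfsg.pCore 2 K := by
        have := QuotientGroup.eq.1 hv'.symm
        rwa [hK.inv_eq (show d₁ ∈ Dx from hd₀)] at this
      have h2 : ∃ a ∈ Dx, ∃ b ∈ Dx, a ≠ b := by
        obtain ⟨u, hu, w, hw, huw⟩ := L.not_all_commute
        exact ⟨⟨u, Subgroup.subset_closure hu⟩, hu, ⟨w, Subgroup.subset_closure hw⟩, hw,
          fun e => huw (by have e' : u = w := congrArg Subtype.val e; rw [e'])⟩
      obtain ⟨g, hg, e⟩ := hK.exists_two_core_conj h2 (show d₁ ∈ Dx from hd₀) hv hm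
      exact ⟨g, hg, e.symm⟩
    · rintro ⟨g, hg, rfl⟩
      refine ⟨hK.conj g d₁ hd₀, ?_⟩
      rw [map_mul, map_mul, map_inv, show f g = 1 from (QuotientGroup.eq_one_iff g).2 hg, one_mul, inv_one, mul_one]
  -- three-power many lines
  have hclique : ∀ a ∈ f '' Dx, perp (f '' Dx) a = ∅ := by
    rintro _ ⟨a, ha, rfl⟩
    refine Set.eq_empty_iff_forall_notMem.2 ?_
    rintro _ ⟨⟨b, hb, rfl⟩, hne, hc⟩
    have hab : Commute (a : G) b := congrArg Subtype.val (L.commute_of_mk ha hb hc).eq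
    exact hne ((hfeq ha hb).2 (by rw [L.line_eq_both L.mem ha]; exact ⟨hb.1, hb.2.2, hab⟩)).symm
  obtain ⟨j, hj⟩ : ∃ j, (f '' Dx).ncard = 3 ^ j := by
    obtain ⟨j, hj⟩ := ncard_conj_orbit (CfsgLib.Coprime.pCore_isPGroup (G := K ⧸ Cfsg.pCore 2 K) 3) (f d₁)
    refine ⟨j, hj ▸ congrArg Set.ncard (Set.ext fun b => ⟨fun hb => ?_, ?_⟩)⟩
    · by_cases e : f d₁ = b
      · exact ⟨1, one_mem _, by simpa using e⟩
      · have hd : f d₁ ∈ f '' Dx := ⟨d₁, hd₀, rfl⟩
        have hn : ¬ Commute (f d₁) b := fun hc =>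
          Set.eq_empty_iff_forall_notMem.1 (hclique _ hd) b ⟨hb, Ne.symm e, hc⟩
        have h1 := (hQ.perp_iff_three_core hd hb).1 ((hclique _ hd).trans (hclique _ hb).symm)
        rw [hQ.inv_eq hd] at h1
        exact ⟨f d₁ * b, h1, hQ.conj_swap_mul hd hb hn⟩
    · rintro ⟨t, -, rfl⟩
      exact hQ.conj t _ ⟨d₁, hd₀, rfl⟩
  have hcard : (perp D x).ncard = 2 ^ e * 3 ^ j := by
    have e0 : (perp D x).ncard = (Dx).ncard := by
      rw [← Set.ncard_image_of_injective _ Subtype.val_injective]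
      congr 1
      ext y
      exact ⟨fun hy => ⟨⟨y, Subgroup.subset_closure hy⟩, hy, rfl⟩, fun ⟨v, hv, e⟩ => e ▸ hv⟩
    haveI : Fintype K := Fintype.ofFinite _
    rw [e0, Set.ncard_eq_toFinset_card' Dx, Finset.card_eq_sum_card_image f]
    rw [Finset.sum_const_nat (m := 2 ^ e)]
    · rw [mul_comm, ← hj, ← Set.ncard_coe_finset, Finset.coe_image, Set.coe_toFinset]
    · intro b hb
      obtain ⟨v, hv, rfl⟩ := Finset.mem_image.1 hb
      rw [Set.mem_toFinset] at hv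
      have h1 := hfib v hv
      have h2 := hfib d₁ hd₀
      rw [hline hv, ← h2, he] at h1
      rw [← Nat.add_right_cancel h1, ← Set.ncard_coe_finset]
      congr 1
      ext w
      simp
  have hl : (line D x d₀).ncard = 2 ^ e + 1 := by
    have := hfib d₁ hd₀
    rw [he] at this
    exact this.symm
  refine ⟨e, j, ⟨L.toCtx, L.two, ?_, ?_, fun a ha b hb => L.line_eq_both ha hb, fun a ha b hb => ?_,
    fun a ha => ?_⟩⟩
  · by_contra hcon
    have h3 : ({x, d₀, v₀} : Set G).ncard = 3 :=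
      Set.ncard_eq_three.2 ⟨x, d₀, v₀, hd₀.2.1.symm, hv1.symm, hv2.symm, rfl⟩
    have hsub : ({x, d₀, v₀} : Set G) ⊆ line D x d₀ := by
      rintro y (rfl | rfl | rfl)
      exacts [left_mem_line L.mem, right_mem_line hd₀.1, hv₀]
    have := Set.ncard_le_ncard hsub (Set.toFinite _)
    rw [h3, hl, show e = 0 by omega] at this
    omega
  · by_contra hcon
    obtain ⟨u, hu, w, hw, huw⟩ := L.not_all_commute
    rw [show j = 0 by omega, pow_zero, Set.ncard_eq_one] at hj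
    obtain ⟨b, hb⟩ := hj
    have h1 : f ⟨u, Subgroup.subset_closure hu⟩ ∈ f '' Dx := ⟨_, hu, rfl⟩
    have h2 : f ⟨w, Subgroup.subset_closure hw⟩ ∈ f '' Dx := ⟨_, hw, rfl⟩
    rw [hb, Set.mem_singleton_iff] at h1 h2
    have := (hfeq (d := ⟨u, Subgroup.subset_closure hu⟩) (v := ⟨w, Subgroup.subset_closure hw⟩) hu hw).1
      (h1.trans h2.symm)
    exact huw (commute_right hu.1 hu.2.2 this).symm
  · rw [L.line_eq_both ha hb, L.ncard_both ha hb L.mem hd₀, ← L.line_eq_both L.mem hd₀, hl]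
  · rw [CfsgLib.Invol.TriOddCore.ncard_perp L.h L.rad ha L.mem, hcard]

end Loc

end CfsgLib.Invol.TriSolv
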