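import Cfsg.Agent.Lib.Invol.TriSolv.Rigid

/-!
# Fischer, `D_x` solvable: the translations at a point

The products of two points of a line through `a` act on the members commuting with `a` as a commutative group
of exponent two.  The translations of three lines are independent, so a 2-group of the centralizer of `a` has
an orbit of size at least `2 ^ (3 e + 1)` on the members not commuting with `a`.
-/

set_option autoImplicit false

namespace CfsgLib.Invol.TriSolv

open CfsgLib.Spor.Tri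

universe u

section Operators

variable {W : Type*} [Group W]

/-- Three translation operators pairwise braiding, with the three reflected ones, are jointly injective. -/
theorem operators_trivial (hcomm : ∀ u v : W, u * v = v * u) (hsq : ∀ u : W, u * u = 1) (a b c : W →* W)
    (a2 : ∀ v, a (a v) = 1) (b2 : ∀ v, b (b v) = 1) (c2 : ∀ v, c (c v) = 1)
    (aba : ∀ v, a (b (a v)) = a v) (bab : ∀ v, b (a (b v)) = b v) (aca : ∀ v, a (c (a v)) = a v)
    (cac : ∀ v, c (a (c v)) = c v) (bcb : ∀ v, b (c (b v)) = b v) (cbc : ∀ v, c (b (c v)) = c v)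
    (hn : ∀ v, b (c v * a (c v)) * a (b (c v * a (c v))) = 1 → c v = 1)
    (x y z : W) (hx : ∃ u, a u = x) (hy : ∃ u, b u = y) (hz : ∃ u, c u = z)
    (h1 : a (x * y * z) = 1) (h2 : b (x * y * z) = 1) (h3 : c (x * y * z) = 1) : x = 1 ∧ y = 1 ∧ z = 1 := by
  obtain ⟨x₀, rfl⟩ := hx
  obtain ⟨y₀, rfl⟩ := hy
  obtain ⟨z₀, rfl⟩ := hz
  set x := a x₀ with hxdef
  set y := b y₀ with hydef
  set z := c z₀ with hzdef
  have heq : ∀ {u v : W}, u * v = 1 → u = v := fun {u v} h => by
    rw [eq_inv_of_mul_eq_one_left h, inv_eq_of_mul_eq_one_right (hsq v)]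
  rw [map_mul, map_mul, show a x = 1 from a2 x₀, one_mul] at h1
  rw [map_mul, map_mul, show b y = 1 from b2 y₀, mul_one] at h2
  rw [map_mul, map_mul, show c z = 1 from c2 z₀, mul_one] at h3
  have e1 : a y = a z := heq h1
  have e2 : b x = b z := heq h2
  have e3 : c x = c y := heq h3
  have hax : a (b x) = x := aba x₀
  have hax' : a (c x) = x := aca x₀
  have hby : b (a y) = y := bab y₀
  have hcz : c (a z) = z := cac z₀
  set w := a z with hw
  have haw : a (b w) = w := aba z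
  have hacw : a (c w) = w := aca z
  have ex1 : x = a (b (c w)) := by rw [hcz, ← e2, hax]
  have ex2 : x = a (c (b w)) := by rw [← e1, hby, ← e3, hax']
  have hθθ : a (b (c x)) = w := by
    rw [ex2, cac, bcb, haw]
  have hfix : ∀ t : W, a (b (c t)) = t → a (b t) = t → a (c t) = t → t = 1 := by
    intro t h1 h2 h3
    have hbb : b (c t) = b t := by
      refine heq ?_
      have h4 : b (c t) * b t = b (c t * t) := (map_mul b _ _).symm
      have h5 : a (b (c t * t)) = 1 := by rw [map_mul, map_mul, h1, h2, hsq]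
      rw [h4, ← bab (c t * t), h5, map_one]
    have hct : c t = 1 := hn t (by rw [h3, map_mul, hbb, hsq, map_one, mul_one])
    rw [← h3, hct, map_one]
  have haxw : a (b (c (w * x))) = w * x := by rw [map_mul, map_mul, map_mul, ← ex1, hθθ, hcomm]
  have hw1 : w * x = 1 := hfix _ haxw (by rw [map_mul, map_mul, haw, hax]) (by rw [map_mul, map_mul, hacw, hax'])
  have hwx : w = x := heq hw1
  have : w = 1 := hfix w (by rw [← ex1, hwx]) haw hacw
  have hx1 : x = 1 := hwx ▸ this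
  refine ⟨hx1, ?_, ?_⟩
  · rw [← hby, e1, this, map_one]
  · rw [← hcz, this, map_one]

end Operators

variable {G : Type u} [Group G] [Finite G] {D : Set G}

/-- The products of two points of a line through `a`. -/
def transSet (D : Set G) (a : G) : Set G := {g | ∃ d ∈ perp D a, ∃ d' ∈ line D a d, d' ≠ a ∧ g = d * d'}

/-- The group they generate. -/
def transGroup (D : Set G) (a : G) : Subgroup G := Subgroup.closure (transSet D a)

namespace Geo

variable {e j : ℕ} (L : Geo D e j)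
include L

theorem trans_conj {a g : G} (hg : Commute g a) {t : G} (ht : t ∈ transSet D a) : g * t * g⁻¹ ∈ transSet D a := by
  obtain ⟨d, hd, d', hd', hne, rfl⟩ := ht
  refine ⟨g * d * g⁻¹, ?_, g * d' * g⁻¹, ?_, fun e => hne ?_, by group⟩
  · rw [← conj_eq_of_commute hg, L.h.perp_conj]; exact ⟨d, hd, rfl⟩
  · have := mem_line_conj L.h g hd'
    rwa [conj_eq_of_commute hg] at this
  · rw [← conj_eq_of_commute hg] at e
    exact mul_left_cancel (mul_right_cancel e)

theorem transGroup_conj {a g : G} (hg : Commute g a) {t : G} (ht : t ∈ transGroup D a) :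
    g * t * g⁻¹ ∈ transGroup D a := by
  induction ht using Subgroup.closure_induction with
  | mem t ht => exact Subgroup.subset_closure (L.trans_conj hg ht)
  | one => rw [mul_one, mul_inv_cancel]; exact one_mem _
  | mul u v _ _ h1 h2 => rw [show g * (u * v) * g⁻¹ = (g * u * g⁻¹) * (g * v * g⁻¹) by group]; exact mul_mem h1 h2
  | inv u _ h1 => rw [show g * u⁻¹ * g⁻¹ = (g * u * g⁻¹)⁻¹ by group]; exact inv_mem h1

theorem trans_fixes {a : G} (ha : a ∈ D) {t : G} (ht : t ∈ transGroup D a) : Fixes D a t := by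
  rw [← L.mem_fixer ha]
  refine (Subgroup.closure_le _).2 ?_ ht
  rintro _ ⟨d, hd, d', hd', hne, rfl⟩
  rw [(commute_line ha hd.1 hd.2.2 (right_mem_line hd.1) hd').eq]
  exact L.fixes_pair ha hd hd' hne

theorem trans_perp {a : G} (ha : a ∈ D) {t z : G} (ht : t ∈ transGroup D a) (hz : z ∈ perp D a) :
    t * z * t⁻¹ ∈ perp D a := by
  rw [← conj_eq_of_commute (L.trans_fixes ha ht).1, L.h.perp_conj]
  exact ⟨z, hz, rfl⟩

/-- A translation of another line carries a point to any other point of its line. -/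
theorem trans_transitive {a d f z : G} (ha : a ∈ D) (hd : d ∈ perp D a) (hf : f ∈ perp D a)
    (hdf : ¬ Commute d f) (hz : z ∈ line D a d) (hza : z ≠ a) :
    ∃ f' ∈ line D a f, f' ≠ a ∧ f * f' * d * (f * f')⁻¹ = z := by
  have hsub : (fun f' => f * f' * d * (f * f')⁻¹) '' (line D a f \ {a}) ⊆ line D a d \ {a} := by
    rintro _ ⟨f', ⟨hf', hne⟩, rfl⟩
    have ht : f * f' ∈ transGroup D a := Subgroup.subset_closure ⟨f, hf, f', hf', hne, rfl⟩
    exact ⟨(L.trans_fixes ha ht).2 d hd, (L.trans_perp ha ht hd).2.1⟩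
  have hinj : Set.InjOn (fun f' => f * f' * d * (f * f')⁻¹) (line D a f \ {a}) := by
    intro u hu v hv huv
    have hnd : ∀ {q}, q ∈ line D a f → q ≠ a → ¬ Commute q d := fun {q} hq hqa hc => by
      have h1 : d ∈ line D a q :=
        (L.mem_line_iff ha (L.line_subset_perp ha hf hq hqa)).2 ⟨hd.1, hd.2.2, hc⟩
      rw [L.line_eq_left ha hf hq hqa] at h1
      exact hdf (commute_line ha hf.1 hf.2.2 h1 (right_mem_line hf.1))
    simp only [mul_inv_rev, L.h.inv_eq hf.1, L.h.inv_eq hu.1.1, L.h.inv_eq hv.1.1] at huv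
    have h2 : f * (u * d * u) * f = f * (v * d * v) * f := by
      simpa only [mul_assoc] using huv
    have h3 := mul_left_cancel (mul_right_cancel h2)
    rw [L.h.braid hu.1.1 hd.1 (hnd hu.1 hu.2), L.h.braid hv.1.1 hd.1 (hnd hv.1 hv.2)] at h3
    exact mul_left_cancel (mul_right_cancel h3)
  have heq := Set.eq_of_subset_of_ncard_le hsub (by
    rw [Set.ncard_image_of_injOn hinj, Set.ncard_sdiff_singleton_of_mem (left_mem_line ha),
      Set.ncard_sdiff_singleton_of_mem (left_mem_line ha), L.line_card a ha d hd, L.line_card a ha f hf])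
    (Set.toFinite _)
  obtain ⟨f', hf', e⟩ := heq.ge ⟨hz, hza⟩
  exact ⟨f', hf'.1, hf'.2, e⟩

/-- Another line at `a`. -/
theorem exists_off {a d : G} (ha : a ∈ D) (hd : d ∈ perp D a) : ∃ f ∈ perp D a, ¬ Commute d f := by
  by_contra hcon
  push Not at hcon
  have hsub : perp D a ⊆ line D a d \ {a} := fun f hf =>
    ⟨(L.mem_line_iff ha hd).2 ⟨hf.1, hf.2.2, hcon f hf⟩, hf.2.1⟩
  have := Set.ncard_le_ncard hsub (Set.toFinite _)
  rw [L.perp_card a ha, Set.ncard_sdiff_singleton_of_mem (left_mem_line ha), L.line_card a ha d hd,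
    Nat.add_sub_cancel] at this
  have h3 : 3 ≤ 3 ^ j := by
    calc 3 = 3 ^ 1 := (pow_one 3).symm
      _ ≤ 3 ^ j := Nat.pow_le_pow_right (by norm_num) L.j_pos
  have := Nat.mul_le_mul_left (2 ^ e) h3
  have := Nat.one_le_two_pow (n := e)
  omega

/-- Translations commute on the members commuting with `a`. -/
theorem trans_commute {a : G} (ha : a ∈ D) {t t' : G} (ht : t ∈ transSet D a) (ht' : t' ∈ transSet D a) :
    ∀ z ∈ perp D a, Commute (t * t' * t⁻¹ * t'⁻¹) z := by
  obtain ⟨d, hd, d', hd', hd'a, rfl⟩ := ht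
  obtain ⟨f, hf, f', hf', hf'a, rfl⟩ := ht'
  have hline : ∀ {u u' : G}, u ∈ perp D a → u' ∈ line D a u → u' ≠ a → ∀ {g : G}, g ∈ transGroup D a →
      g * (u * u') * g⁻¹ ∈ Subgroup.closure (line D a u) := by
    intro u u' hu hu' hne g hg
    have hu'p := L.line_subset_perp ha hu hu' hne
    rw [show g * (u * u') * g⁻¹ = (g * u * g⁻¹) * (g * u' * g⁻¹) by group]
    refine mul_mem (Subgroup.subset_closure ((L.trans_fixes ha hg).2 u hu)) (Subgroup.subset_closure ?_)
    rw [← L.line_eq_left ha hu hu' hne]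
    exact (L.trans_fixes ha hg).2 u' hu'p
  have hd1 : d * d' ∈ Subgroup.closure (line D a d) :=
    mul_mem (Subgroup.subset_closure (right_mem_line hd.1)) (Subgroup.subset_closure hd')
  have hf1 : f * f' ∈ Subgroup.closure (line D a f) :=
    mul_mem (Subgroup.subset_closure (right_mem_line hf.1)) (Subgroup.subset_closure hf')
  have htd : d * d' ∈ transGroup D a := Subgroup.subset_closure ⟨d, hd, d', hd', hd'a, rfl⟩
  have htf : f * f' ∈ transGroup D a := Subgroup.subset_closure ⟨f, hf, f', hf', hf'a, rfl⟩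
  have hcd : d * d' * (f * f') * (d * d')⁻¹ * (f * f')⁻¹ ∈ Subgroup.closure (line D a d) := by
    have h1 := inv_mem (hline hd hd' hd'a htf)
    have := mul_mem hd1 h1
    rwa [show d * d' * ((f * f') * (d * d') * (f * f')⁻¹)⁻¹ =
      d * d' * (f * f') * (d * d')⁻¹ * (f * f')⁻¹ by group] at this
  have hcf : d * d' * (f * f') * (d * d')⁻¹ * (f * f')⁻¹ ∈ Subgroup.closure (line D a f) :=
    mul_mem (hline hf hf' hf'a htd) (inv_mem hf1)
  have hM : ∀ {u : G}, u ∈ perp D a → ∀ {v : G}, v ∈ Subgroup.closure (line D a u) →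
      ∀ z ∈ line D a u, Commute v z := by
    intro u hu v hv z hz
    induction hv using Subgroup.closure_induction with
    | mem q hq => exact commute_line ha hu.1 hu.2.2 hq hz
    | one => exact Commute.one_left z
    | mul u v _ _ h1 h2 => exact h1.mul_left h2
    | inv u _ h1 => exact h1.inv_left
  intro z hz
  by_cases hfd : f ∈ line D a d
  · have hfe := L.line_eq_left ha hd hfd hf.2.1
    have hc : Commute (d * d') (f * f') := by
      have h := hM hd hd1
      exact (h f hfd).mul_right (h f' (hfe ▸ hf'))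
    rw [hc.eq, mul_assoc (f * f'), mul_inv_cancel, mul_one, mul_inv_cancel]
    exact Commute.one_left z
  · exact L.rigid_closure ha hd hcd (L.trans_fixes ha
      (mul_mem (mul_mem (mul_mem htd htf) (inv_mem htd)) (inv_mem htf))) hf hfd
      (hM hf hcf f (right_mem_line hf.1)) z hz

/-- The action of the translations on the members commuting with `a`. -/
def act {a : G} (ha : a ∈ D) : transGroup D a →* Equiv.Perm ↥(perp D a) where
  toFun t :=
    { toFun := fun z => ⟨t * z * (t : G)⁻¹, L.trans_perp ha t.2 z.2⟩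
      invFun := fun z => ⟨(t : G)⁻¹ * z * ((t : G)⁻¹)⁻¹, L.trans_perp ha (inv_mem t.2) z.2⟩
      left_inv := fun z => Subtype.ext (show (t : G)⁻¹ * (t * z * (t : G)⁻¹) * ((t : G)⁻¹)⁻¹ = z by group)
      right_inv := fun z => Subtype.ext (show (t : G) * ((t : G)⁻¹ * z * ((t : G)⁻¹)⁻¹) * (t : G)⁻¹ = z by group) }
  map_one' := Equiv.ext fun z => Subtype.ext (by simp)
  map_mul' t t' := Equiv.ext fun z => Subtype.ext (by
    show ((t * t' : transGroup D a) : G) * z * ((t * t' : transGroup D a) : G)⁻¹ = t * (t' * z * (t' : G)⁻¹) * (t : G)⁻¹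
    rw [Subgroup.coe_mul]; group)

theorem act_apply {a : G} (ha : a ∈ D) (t : transGroup D a) (z : ↥(perp D a)) :
    ((L.act ha t) z : G) = t * z * (t : G)⁻¹ := rfl

theorem range_comm {a : G} (ha : a ∈ D) : ∀ u v : (L.act ha).range, u * v = v * u := by
  have hgen : ∀ t t' : transGroup D a, (t : G) ∈ transSet D a → (t' : G) ∈ transSet D a →
      L.act ha t * L.act ha t' = L.act ha t' * L.act ha t := by
    intro t t' ht ht'
    have h1 : L.act ha (t * t' * t⁻¹ * t'⁻¹) = 1 := Equiv.ext fun z => Subtype.ext (by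
      rw [L.act_apply]
      have := L.trans_commute ha ht ht' z z.2
      push_cast
      rw [this.eq, mul_inv_cancel_right]
      rfl)
    simp only [map_mul, map_inv, mul_inv_eq_iff_eq_mul, one_mul] at h1
    exact h1
  have key : ∀ (t : G) (ht : t ∈ transGroup D a), ∀ t' : transGroup D a, (t' : G) ∈ transSet D a →
      L.act ha ⟨t, ht⟩ * L.act ha t' = L.act ha t' * L.act ha ⟨t, ht⟩ := by
    intro t ht
    induction ht using Subgroup.closure_induction with
    | mem t ht => intro t' ht'; exact hgen ⟨t, Subgroup.subset_closure ht⟩ t' ht ht'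
    | one =>
      intro t' _
      rw [show (⟨1, _⟩ : transGroup D a) = 1 from rfl, map_one, one_mul, mul_one]
    | mul u v hu hv h1 h2 =>
      intro t' ht'
      rw [show (⟨u * v, _⟩ : transGroup D a) = ⟨u, hu⟩ * ⟨v, hv⟩ from rfl, map_mul, mul_assoc, h2 t' ht',
        ← mul_assoc, h1 t' ht', mul_assoc]
    | inv u hu h1 =>
      intro t' ht'
      rw [show (⟨u⁻¹, _⟩ : transGroup D a) = (⟨u, hu⟩ : transGroup D a)⁻¹ from rfl, map_inv]
      exact ((show Commute (L.act ha ⟨u, hu⟩) (L.act ha t') from h1 t' ht').inv_left).eq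
  rintro ⟨_, ⟨t, ht⟩, rfl⟩ ⟨_, ⟨t', ht'⟩, rfl⟩
  refine Subtype.ext ?_
  show L.act ha ⟨t, ht⟩ * L.act ha ⟨t', ht'⟩ = L.act ha ⟨t', ht'⟩ * L.act ha ⟨t, ht⟩
  induction ht' using Subgroup.closure_induction with
  | mem t' ht' => exact key t ht ⟨t', Subgroup.subset_closure ht'⟩ ht'
  | one => rw [show (⟨1, _⟩ : transGroup D a) = 1 from rfl, map_one, one_mul, mul_one]
  | mul u v hu hv h1 h2 =>
    rw [show (⟨u * v, _⟩ : transGroup D a) = ⟨u, hu⟩ * ⟨v, hv⟩ from rfl, map_mul, ← mul_assoc, h1, mul_assoc, h2,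
      ← mul_assoc]
  | inv u hu h1 =>
    rw [show (⟨u⁻¹, _⟩ : transGroup D a) = (⟨u, hu⟩ : transGroup D a)⁻¹ from rfl, map_inv]
    exact ((show Commute (L.act ha ⟨t, ht⟩) (L.act ha ⟨u, hu⟩) from h1).inv_right).eq

theorem range_sq {a : G} (ha : a ∈ D) : ∀ u : (L.act ha).range, u * u = 1 := by
  rintro ⟨_, ⟨t, ht⟩, rfl⟩
  refine Subtype.ext ?_
  show L.act ha ⟨t, ht⟩ * L.act ha ⟨t, ht⟩ = 1
  induction ht using Subgroup.closure_induction with
  | mem t ht =>
    obtain ⟨d, hd, d', hd', -, rfl⟩ := ht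
    have hc := commute_line ha hd.1 hd.2.2 (right_mem_line hd.1) hd'
    have h1 : (d * d') * (d * d') = 1 := by
      rw [← pow_two, hc.mul_pow, pow_two, pow_two, L.h.mul_self hd.1, L.h.mul_self hd'.1, one_mul]
    rw [← map_mul, ← map_one (L.act ha)]
    exact congrArg _ (Subtype.ext h1)
  | one => rw [show (⟨1, _⟩ : transGroup D a) = 1 from rfl, map_one, one_mul]
  | mul u v hu hv h1 h2 =>
    rw [show (⟨u * v, _⟩ : transGroup D a) = ⟨u, hu⟩ * ⟨v, hv⟩ from rfl, map_mul]
    have hc : L.act ha ⟨v, hv⟩ * L.act ha ⟨u, hu⟩ = L.act ha ⟨u, hu⟩ * L.act ha ⟨v, hv⟩ :=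
      congrArg Subtype.val (L.range_comm ha ⟨_, ⟨v, hv⟩, rfl⟩ ⟨_, ⟨u, hu⟩, rfl⟩)
    rw [mul_assoc, ← mul_assoc (L.act ha ⟨v, hv⟩), hc, mul_assoc, h2, mul_one, h1]
  | inv u hu h1 =>
    rw [show (⟨u⁻¹, _⟩ : transGroup D a) = (⟨u, hu⟩ : transGroup D a)⁻¹ from rfl, map_inv, ← mul_inv_rev, h1, inv_one]

theorem pair_mem {a : G} (ha : a ∈ D) (d : ↥(perp D a)) (u : (L.act ha).range) :
    (d : G) * ((u.1 d : ↥(perp D a)) : G) ∈ transGroup D a := by
  obtain ⟨_, ⟨t, rfl⟩⟩ := u
  refine Subgroup.subset_closure ⟨d, d.2, _, ?_, ((L.act ha t) d).2.2.1, rfl⟩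
  rw [L.act_apply]
  exact (L.trans_fixes ha t.2).2 d d.2

/-- The translation operator of a member `d` commuting with `a`. -/
def tau {a : G} (ha : a ∈ D) (d : ↥(perp D a)) : (L.act ha).range →* (L.act ha).range :=
  MonoidHom.mk' (fun u => ⟨L.act ha ⟨_, L.pair_mem ha d u⟩, _, rfl⟩) (by
    rintro ⟨_, t, rfl⟩ ⟨_, t', rfl⟩
    have hd := L.h.mul_self d.2.1
    have e : ((d : G) * ((((⟨L.act ha t, t, rfl⟩ : (L.act ha).range) * ⟨L.act ha t', t', rfl⟩).1 d : ↥(perp D a)) : G)) =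
        ((d : G) * (((L.act ha t) d : ↥(perp D a)) : G)) *
          ((t : G) * ((d : G) * (((L.act ha t') d : ↥(perp D a)) : G)) * (t : G)⁻¹) := by
      show (d : G) * ((L.act ha t * L.act ha t') d : G) = _
      rw [← map_mul, L.act_apply, L.act_apply, L.act_apply, Subgroup.coe_mul]
      calc (d : G) * ((t : G) * t' * d * ((t : G) * t')⁻¹)
          = (d : G) * ((t : G) * ((d : G) * d) * (t' * d * (t' : G)⁻¹) * (t : G)⁻¹) := by rw [hd]; group
        _ = _ := by group
    have h' : L.act ha ⟨_, L.pair_mem ha d (⟨L.act ha t, t, rfl⟩ * ⟨L.act ha t', t', rfl⟩)⟩ =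
        L.act ha ⟨_, L.pair_mem ha d ⟨L.act ha t, t, rfl⟩⟩ *
          (L.act ha t * L.act ha ⟨_, L.pair_mem ha d ⟨L.act ha t', t', rfl⟩⟩ * (L.act ha t)⁻¹) := by
      rw [← map_inv, ← map_mul, ← map_mul, ← map_mul]
      exact congrArg _ (Subtype.ext e)
    refine Subtype.ext (h'.trans ?_)
    have hc := congrArg Subtype.val (L.range_comm ha ⟨L.act ha t, t, rfl⟩
      ⟨L.act ha ⟨_, L.pair_mem ha d ⟨L.act ha t', t', rfl⟩⟩, _, rfl⟩)
    dsimp at hc ⊢
    rw [hc, mul_inv_cancel_right])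

theorem tau_apply {a : G} (ha : a ∈ D) (d : ↥(perp D a)) (u : (L.act ha).range) :
    (L.tau ha d u).1 = L.act ha ⟨_, L.pair_mem ha d u⟩ := rfl

theorem act_of_tau {a : G} (ha : a ∈ D) (d : ↥(perp D a)) (u : (L.act ha).range) (z : ↥(perp D a)) :
    (((L.tau ha d u).1 z : ↥(perp D a)) : G) =
      (d : G) * ((u.1 d : ↥(perp D a)) : G) * z * ((d : G) * ((u.1 d : ↥(perp D a)) : G))⁻¹ := rfl

theorem tau_eq_one {a : G} (ha : a ∈ D) (d : ↥(perp D a)) (u : (L.act ha).range) (hu : u.1 d = d) :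
    L.tau ha d u = 1 := by
  refine Subtype.ext ?_
  rw [L.tau_apply, OneMemClass.coe_one, ← map_one (L.act ha)]
  refine congrArg _ (Subtype.ext ?_)
  show (d : G) * ((u.1 d : ↥(perp D a)) : G) = 1
  rw [hu, L.h.mul_self d.2.1]

theorem tau_tau_self {a : G} (ha : a ∈ D) (d : ↥(perp D a)) (u : (L.act ha).range) :
    L.tau ha d (L.tau ha d u) = 1 := by
  refine L.tau_eq_one ha d _ (Subtype.ext ?_)
  rw [L.act_of_tau]
  obtain ⟨_, ⟨t, rfl⟩⟩ := u
  have hl : (t : G) * d * (t : G)⁻¹ ∈ line D a d := (L.trans_fixes ha t.2).2 d d.2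
  show (d : G) * ((t : G) * d * (t : G)⁻¹) * d * ((d : G) * ((t : G) * d * (t : G)⁻¹))⁻¹ = d
  rw [((Commute.refl (d : G)).mul_left (commute_right d.2.1 d.2.2.2 hl)).eq, mul_inv_cancel_right]

theorem tau_braid {a : G} (ha : a ∈ D) (d f : ↥(perp D a)) (hdf : ¬ Commute (d : G) f) (u : (L.act ha).range) :
    L.tau ha d (L.tau ha f (L.tau ha d u)) = L.tau ha d u := by
  obtain ⟨_, ⟨t, rfl⟩⟩ := u
  set d' : G := (t : G) * d * (t : G)⁻¹ with hd'def
  have hl : d' ∈ line D a d := (L.trans_fixes ha t.2).2 d d.2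
  have hd'a : d' ≠ a := (L.trans_perp ha t.2 d.2).2.1
  have hd' : d' ∈ perp D a := L.trans_perp ha t.2 d.2
  have hc : Commute (d : G) d' := commute_line ha d.2.1 d.2.2.2 (right_mem_line d.2.1) hl
  have hfd : ¬ Commute (f : G) d' := fun hh => hdf <| by
    have h1 : (f : G) ∈ line D a d' := (L.mem_line_iff ha hd').2 ⟨f.2.1, f.2.2.2, hh.symm⟩
    rw [L.line_eq_left ha d.2 hl hd'a] at h1
    exact (commute_right d.2.1 d.2.2.2 h1).symm
  rw [← Subtype.val_inj, L.tau_apply, L.tau_apply (u := ⟨L.act ha t, t, rfl⟩)]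
  refine congrArg _ (Subtype.ext ?_)
  show (d : G) * _ = (d : G) * _
  congr 1
  rw [L.act_of_tau, L.act_of_tau]
  show (f : G) * ((d : G) * d' * f * ((d : G) * d')⁻¹) * d * ((f : G) * ((d : G) * d' * f * ((d : G) * d')⁻¹))⁻¹ = d'
  have dd := L.h.mul_self d.2.1
  have ff := L.h.mul_self f.2.1
  have hd1 : d' * (d : G) * d' = d := L.h.conj_fix hd'.1 hc.symm
  have hd2 : (d : G) * d' * d = d' := L.h.conj_fix d.2.1 hc
  simp only [mul_inv_rev, L.h.inv_eq d.2.1, L.h.inv_eq f.2.1, L.h.inv_eq hd'.1]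
  calc (f : G) * ((d : G) * d' * f * (d' * d)) * d * ((d : G) * d' * ((f : G) * (d' * d)) * f)
      = (f : G) * d * d' * f * d' * ((d : G) * d) * d * d' * f * d' * d * f := by group
    _ = (f : G) * d * d' * f * (d' * d * d') * f * d' * d * f := by rw [dd]; group
    _ = (f : G) * (d * d') * ((f : G) * d * f) * (d' * d) * f := by rw [hd1]; group
    _ = (f : G) * (d * d') * ((d : G) * f * d) * (d' * d) * f := by rw [L.h.braid f.2.1 d.2.1 fun hh => hdf hh.symm]
    _ = (f : G) * ((d : G) * d' * d) * f * ((d : G) * d' * d) * f := by group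
    _ = (f : G) * (d' * f * d') * f := by rw [hd2]; group
    _ = (f : G) * ((f : G) * d' * f) * f := by rw [L.h.braid hd'.1 f.2.1 fun hh => hfd hh.symm]
    _ = d' := L.h.conj_conj f.2.1

theorem tau_reflect {a : G} (ha : a ∈ D) (d f : ↥(perp D a)) (hfd : (d : G) * f * d ∈ perp D a)
    (u : (L.act ha).range) :
    L.tau ha ⟨_, hfd⟩ u =
      L.tau ha f (u * L.tau ha d u) * L.tau ha d (L.tau ha f (u * L.tau ha d u)) := by
  have hd := L.h.mul_self d.2.1
  have hα : ∀ t : transGroup D a, ∃ t' : transGroup D a, (t' : G) = (d : G) * t * d ∧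
      L.act ha t' = L.act ha t * (L.tau ha d ⟨L.act ha t, t, rfl⟩).1 := by
    intro t
    refine ⟨⟨_, L.h.inv_eq d.2.1 ▸ L.transGroup_conj d.2.2.2.symm t.2⟩, by simp [L.h.inv_eq d.2.1], ?_⟩
    have hc := congrArg Subtype.val (L.range_comm ha ⟨L.act ha t, t, rfl⟩
      (L.tau ha d ⟨L.act ha t, t, rfl⟩))
    dsimp at hc
    rw [hc, L.tau_apply, ← map_mul]
    refine congrArg _ (Subtype.ext ?_)
    rw [Subgroup.coe_mul]
    show _ = (d : G) * ((t : G) * d * (t : G)⁻¹) * t
    simp [L.h.inv_eq d.2.1, mul_assoc]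
  obtain ⟨_, ⟨t, rfl⟩⟩ := u
  obtain ⟨t₁, ht₁, ht₁'⟩ := hα t
  have e1 : (⟨L.act ha t₁, t₁, rfl⟩ : (L.act ha).range) = ⟨L.act ha t, t, rfl⟩ * L.tau ha d ⟨L.act ha t, t, rfl⟩ :=
    Subtype.ext ht₁'
  rw [← e1]
  obtain ⟨t₂, ht₂, ht₂'⟩ := hα ⟨_, L.pair_mem ha f ⟨L.act ha t₁, t₁, rfl⟩⟩
  refine Subtype.ext ?_
  rw [Subgroup.coe_mul, L.tau_apply]
  refine Eq.trans ?_ ht₂'
  refine congrArg _ (Subtype.ext ?_)
  rw [ht₂]
  show (d : G) * f * d * ((t : G) * ((d : G) * f * d) * (t : G)⁻¹) =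
    (d : G) * ((f : G) * ((t₁ : G) * f * (t₁ : G)⁻¹)) * d
  rw [ht₁]
  simp only [mul_inv_rev, L.h.inv_eq d.2.1]
  calc (d : G) * f * d * ((t : G) * ((d : G) * f * d) * (t : G)⁻¹)
      = (d : G) * f * d * t * d * f * d * (t : G)⁻¹ * ((d : G) * d) := by rw [hd]; group
    _ = _ := by group

/-- The translation taking `d` to another point of its line is in the range of its operator. -/
theorem mem_tau {a : G} (ha : a ∈ D) (d : ↥(perp D a)) {z : G} (hz : z ∈ line D a (d : G)) (hza : z ≠ a) :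
    ∃ u, (L.tau ha d u).1 =
      L.act ha ⟨(d : G) * z, Subgroup.subset_closure ⟨d, d.2, z, hz, hza, rfl⟩⟩ := by
  obtain ⟨f, hf, hdf⟩ := L.exists_off ha d.2
  obtain ⟨f', hf', hne, e⟩ := L.trans_transitive ha d.2 hf hdf hz hza
  refine ⟨⟨L.act ha ⟨f * f', Subgroup.subset_closure ⟨f, hf, f', hf', hne, rfl⟩⟩, _, rfl⟩, ?_⟩
  rw [L.tau_apply]
  refine congrArg _ (Subtype.ext ?_)
  show (d : G) * _ = (d : G) * z
  rw [L.act_apply]
  exact congrArg _ e

/-- The translations of three lines are independent. -/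
theorem trans_independent {a : G} (ha : a ∈ D) (d f g : ↥(perp D a)) (hdf : ¬ Commute (d : G) f)
    (hdg : ¬ Commute (d : G) g) (hfg : ¬ Commute (f : G) g) (hn : ¬ Commute ((d : G) * f * d) g)
    {x y z : (L.act ha).range} (hx : ∃ u, L.tau ha d u = x) (hy : ∃ u, L.tau ha f u = y)
    (hz : ∃ u, L.tau ha g u = z) (h1 : (x * y * z).1 d = d) (h2 : (x * y * z).1 f = f)
    (h3 : (x * y * z).1 g = g) : x = 1 ∧ y = 1 ∧ z = 1 := by
  have hfd : (d : G) * f * d ∈ perp D a :=
    ⟨L.h.conj_mem' d.2.1 f.2.1, fun e => f.2.2.1 (by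
      rw [← L.h.conj_conj d.2.1 (b := (f : G)), e]; exact L.h.conj_fix d.2.1 d.2.2.2.symm),
      commute_third d.2.2.2 f.2.2.2⟩
  have sym : ∀ {p q : ↥(perp D a)}, ¬ Commute (p : G) q → ¬ Commute (q : G) p := fun h h' => h h'.symm
  refine operators_trivial (L.range_comm ha) (L.range_sq ha) (L.tau ha d) (L.tau ha f) (L.tau ha g)
    (L.tau_tau_self ha d) (L.tau_tau_self ha f) (L.tau_tau_self ha g)
    (L.tau_braid ha d f hdf) (L.tau_braid ha f d (sym hdf)) (L.tau_braid ha d g hdg) (L.tau_braid ha g d (sym hdg))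
    (L.tau_braid ha f g hfg) (L.tau_braid ha g f (sym hfg)) (fun v hv => ?_) x y z hx hy hz
    (L.tau_eq_one ha d _ h1) (L.tau_eq_one ha f _ h2) (L.tau_eq_one ha g _ h3)
  rw [← L.tau_reflect ha d f hfd] at hv
  have := L.tau_braid ha g ⟨_, hfd⟩ (fun h => hn h.symm) v
  rw [hv, map_one] at this
  exact this.symm

end Geo

end CfsgLib.Invol.TriSolv
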